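import Mathlib

/-!
Elementary abelian `p`-groups as `ZMod p`-vector spaces: trivial Frattini subgroup and the basis theorem;
generation modulo the Frattini subgroup.
-/

set_option autoImplicit false

namespace Cfsg.Agent.Lib.Helper96

section ElemAb

/-- Subgroups of a commutative group `E` of exponent `p` correspond to `ZMod p`-subspaces of `Additive E`. -/
noncomputable def subgroupEquivSubmodule (E : Type*) [CommGroup E] (p : ℕ) [Module (ZMod p) (Additive E)] :
    Subgroup E ≃o Submodule (ZMod p) (Additive E) :=
  Subgroup.toAddSubgroup.trans (AddSubgroup.toZModSubmodule p)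

variable {E : Type*} [CommGroup E] (p : ℕ) [Module (ZMod p) (Additive E)]

theorem mem_subgroupEquivSubmodule (H : Subgroup E) (v : Additive E) :
    v ∈ subgroupEquivSubmodule E p H ↔ Additive.toMul v ∈ H := Iff.rfl

theorem mem_subgroupEquivSubmodule_symm (W : Submodule (ZMod p) (Additive E)) (x : E) :
    x ∈ (subgroupEquivSubmodule E p).symm W ↔ Additive.ofMul x ∈ W := Iff.rfl

/-- The image of a subset of `E` in `Additive E`. -/
def addImage (S : Set E) : Set (Additive E) := (fun s : E => Additive.ofMul s) '' S

theorem span_eq_top_of_closure_eq_top (S : Set E) (h : Subgroup.closure S = ⊤) :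
    Submodule.span (ZMod p) (addImage S) = ⊤ := by
  set W := Submodule.span (ZMod p) (addImage S) with hW
  have h1 : Subgroup.closure S ≤ (subgroupEquivSubmodule E p).symm W := by
    rw [Subgroup.closure_le]
    intro s hs
    rw [SetLike.mem_coe, mem_subgroupEquivSubmodule_symm]
    exact Submodule.subset_span ⟨s, hs, rfl⟩
  rw [h, top_le_iff] at h1
  have := congrArg (subgroupEquivSubmodule E p) h1
  rwa [OrderIso.apply_symm_apply, OrderIso.map_top] at this

theorem closure_eq_top_of_span_eq_top (S : Set E)
    (h : Submodule.span (ZMod p) (addImage S) = ⊤) : Subgroup.closure S = ⊤ := by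
  have h1 : Submodule.span (ZMod p) (addImage S) ≤
      subgroupEquivSubmodule E p (Subgroup.closure S) := by
    rw [Submodule.span_le]
    rintro _ ⟨s, hs, rfl⟩
    rw [SetLike.mem_coe, mem_subgroupEquivSubmodule]
    exact Subgroup.subset_closure hs
  rw [h, top_le_iff] at h1
  have := congrArg (subgroupEquivSubmodule E p).symm h1
  rwa [OrderIso.symm_apply_apply, OrderIso.map_top] at this

/-- For `x ≠ 1` in an elementary abelian group there is a maximal subgroup missing `x`. -/
theorem exists_coatom_not_mem [Fact p.Prime] (x : E) (hx : x ≠ 1) :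
    ∃ M : Subgroup E, IsCoatom M ∧ x ∉ M := by
  have hv : Additive.ofMul x ≠ 0 := by
    intro h
    exact hx (by simpa using h)
  obtain ⟨f, hf⟩ : ∃ f : Module.Dual (ZMod p) (Additive E), f (Additive.ofMul x) ≠ 0 := by
    by_contra hcon
    push Not at hcon
    exact hv ((Module.forall_dual_apply_eq_zero_iff (ZMod p) _).mp hcon)
  have hf0 : f ≠ 0 := by
    rintro rfl
    exact hf rfl
  have hco : IsCoatom (LinearMap.ker f) :=
    LinearMap.isCoatom_ker_of_surjective (LinearMap.surjective_of_ne_zero hf0)
  refine ⟨(subgroupEquivSubmodule E p).symm (LinearMap.ker f),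
    ((subgroupEquivSubmodule E p).symm.isCoatom_iff _).mpr hco, ?_⟩
  rw [mem_subgroupEquivSubmodule_symm, LinearMap.mem_ker]
  exact hf

end ElemAb

/-- A commutative group of prime exponent has trivial Frattini subgroup. -/
theorem frattini_eq_bot_of_elemAb {E : Type*} [Group E] (p : ℕ) [Fact p.Prime]
    (hcomm : ∀ a b : E, a * b = b * a) (hexp : ∀ x : E, x ^ p = 1) : frattini E = ⊥ := by
  let _i1 : CommGroup E := { (inferInstance : Group E) with mul_comm := hcomm }
  let _i2 : Module (ZMod p) (Additive E) := AddCommGroup.zmodModule (n := p) (fun v => by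
    have := hexp (Additive.toMul v)
    exact congrArg Additive.ofMul this)
  rw [eq_bot_iff]
  intro x hx
  rw [Subgroup.mem_bot]
  by_contra hx1
  obtain ⟨M, hM, hxM⟩ := exists_coatom_not_mem p x hx1
  exact hxM (frattini_le_coatom hM hx)

end Cfsg.Agent.Lib.Helper96
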