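import Mathlib
import Cfsg.Agent.Lib.Helper2.FusionComplement
import Cfsg.Agent.Lib.Helper65.NilpBasic

/-!
Schmidt–Iwasawa: a finite group all of whose proper subgroups are nilpotent is solvable.
The proof uses Frobenius' normal `p`-complement criterion (helper2's library).
Also: a nontrivial finite solvable group has a normal subgroup of prime index.
-/

set_option autoImplicit false

universe u

namespace Cfsg.Agent.Lib.Helper96

open Cfsg Cfsg.Agent.Lib.Helper2 Cfsg.Agent.Lib.Helper34

/-- Auxiliary form of Schmidt's theorem, by induction on the order. -/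
theorem isSolvable_of_forall_proper_isNilpotent_aux : ∀ n : ℕ, ∀ (G : Type u) [Group G] [Finite G],
    Nat.card G = n → (∀ H : Subgroup G, H ≠ ⊤ → Group.IsNilpotent H) → Group.IsSolvable G := by
  intro n
  induction n using Nat.strong_induction_on with
  | _ n ih =>
  intro G _ _ hcard hG
  by_cases hnil : Group.IsNilpotent G
  · infer_instance
  by_cases hsimple : ∃ N : Subgroup G, N.Normal ∧ N ≠ ⊥ ∧ N ≠ ⊤
  · obtain ⟨N, hNn, hNbot, hNtop⟩ := hsimple
    have hNnil := hG N hNtop
    have hNsolv : Group.IsSolvable N := inferInstance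
    have hquot : Group.IsSolvable (G ⧸ N) := by
      apply ih (Nat.card (G ⧸ N)) _ (G ⧸ N) rfl
      · intro K hK
        have hc : K.comap (QuotientGroup.mk' N) ≠ ⊤ := by
          intro h
          apply hK
          rw [← Subgroup.map_comap_eq_self_of_surjective (QuotientGroup.mk'_surjective N) K, h,
            Subgroup.map_top_of_surjective _ (QuotientGroup.mk'_surjective N)]
        have hnc := hG _ hc
        have hsurj : Function.Surjective ((QuotientGroup.mk' N).subgroupComap K) :=
          (QuotientGroup.mk' N).subgroupComap_surjective_of_surjective K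
            (QuotientGroup.mk'_surjective N)
        exact Group.nilpotent_of_surjective _ hsurj
      · rw [← hcard, ← Subgroup.index_eq_card]
        have h1 := N.card_mul_index
        have h2 : 1 < Nat.card N := by
          rw [Nat.one_lt_iff_ne_zero_and_ne_one]
          exact ⟨Nat.card_pos.ne', fun h => hNbot (Subgroup.card_eq_one.mp h)⟩
        have h3 : 0 < N.index := Nat.pos_of_ne_zero Subgroup.index_ne_zero_of_finite
        nlinarith
    exact Group.isSolvable_of_ker_le_range N.subtype (QuotientGroup.mk' N) (by simp)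
  · push Not at hsimple
    exfalso
    have hG1 : Nat.card G ≠ 1 := by
      intro h
      have : Subsingleton G := (Nat.card_eq_one_iff_unique.mp h).1
      exact hnil inferInstance
    obtain ⟨p, hp, hpG⟩ := Nat.exists_prime_and_dvd hG1
    have : Fact p.Prime := ⟨hp⟩
    have hcc : CoprimeCentralizes p G := by
      intro Q hQ g hgN hgcop
      by_cases hQbot : Q = ⊥
      · subst hQbot
        rw [Subgroup.mem_centralizer_iff]
        intro x hx
        have : x = 1 := by simpa using hx
        subst this; simp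
      have hQtop : Q ≠ ⊤ := by
        intro h
        apply hnil
        subst h
        have hGp : IsPGroup p G := fun x => by
          obtain ⟨k, hk⟩ := hQ ⟨x, Subgroup.mem_top x⟩
          exact ⟨k, by simpa using congrArg Subtype.val hk⟩
        exact hGp.isNilpotent
      have hNtop : Subgroup.normalizer (Q : Set G) ≠ ⊤ := by
        intro h
        have hQn : Q.Normal := Subgroup.normalizer_eq_top_iff.mp h
        exact hQtop (hsimple Q hQn hQbot)
      have hNnil := hG _ hNtop
      rw [Subgroup.mem_centralizer_iff]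
      intro x hx
      have hxN : x ∈ Subgroup.normalizer (Q : Set G) := Subgroup.le_normalizer hx
      obtain ⟨k, hk⟩ := hQ ⟨x, hx⟩
      have h1 : orderOf x ∣ p ^ k :=
        orderOf_dvd_of_pow_eq_one (by simpa using congrArg Subtype.val hk)
      have hc := Cfsg.Agent.Lib.Helper65.commute_of_coprime_orderOf
        (N := Subgroup.normalizer (Q : Set G)) ⟨x, hxN⟩ ⟨g, hgN⟩ (by
          rw [Subgroup.orderOf_mk, Subgroup.orderOf_mk]
          exact Nat.Coprime.coprime_dvd_left h1 (Nat.Coprime.pow_left k hgcop.symm))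
      exact congrArg Subtype.val hc.eq
    obtain ⟨P, K, hKn, hKc⟩ := hasNormalPComplement_of_coprimeCentralizes hcc
    have hmul := hKc.card_mul_card
    by_cases hK : K = ⊥
    · subst hK
      rw [Subgroup.card_bot, one_mul] at hmul
      apply hnil
      have hGp : IsPGroup p G := by
        obtain ⟨k, hk⟩ := P.isPGroup'.exists_card_eq
        exact IsPGroup.of_card (n := k) (by rw [← hmul, hk])
      exact hGp.isNilpotent
    · have hKtop := hsimple K hKn hK
      subst hKtop
      rw [Subgroup.card_top] at hmul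
      have h1 : Nat.card (P : Subgroup G) = 1 := by
        have hpos : 0 < Nat.card G := Nat.card_pos
        exact Nat.eq_of_mul_eq_mul_left hpos (by rw [hmul, mul_one])
      exact P.ne_bot_of_dvd_card hpG (Subgroup.card_eq_one.mp h1)

/-- **Schmidt–Iwasawa**: a finite group all of whose proper subgroups are nilpotent is solvable. -/
theorem isSolvable_of_forall_proper_isNilpotent {G : Type u} [Group G] [Finite G]
    (hG : ∀ H : Subgroup G, H ≠ ⊤ → Group.IsNilpotent H) : Group.IsSolvable G :=
  isSolvable_of_forall_proper_isNilpotent_aux _ G rfl hG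

open scoped commutatorElement in
/-- A nontrivial finite solvable group has a normal subgroup of prime index. -/
theorem exists_normal_prime_index {G : Type u} [Group G] [Finite G] [Group.IsSolvable G]
    [Nontrivial G] : ∃ M : Subgroup G, M.Normal ∧ M.index.Prime := by
  have hlt : commutator G < ⊤ := Group.IsSolvable.commutator_lt_top_of_nontrivial G
  obtain ⟨M, hM, hle⟩ := (eq_top_or_exists_le_coatom (commutator G)).resolve_left hlt.ne
  have hMn : M.Normal := by
    constructor
    intro n hn g
    have h1 : g * n * g⁻¹ = ⁅g, n⁆ * n := by simp [commutatorElement_def]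
    rw [h1]
    exact M.mul_mem (hle (Subgroup.commutator_mem_commutator (Subgroup.mem_top g)
      (Subgroup.mem_top n))) hn
  refine ⟨M, hMn, ?_⟩
  have hidx1 : M.index ≠ 1 := fun h => hM.1 (Subgroup.index_eq_one.mp h)
  obtain ⟨p, hp, hpd⟩ := Nat.exists_prime_and_dvd hidx1
  have : Fact p.Prime := ⟨hp⟩
  rw [Subgroup.index_eq_card] at hpd
  obtain ⟨x, hx⟩ := exists_prime_orderOf_dvd_card' p hpd
  have hMK : M ≤ (Subgroup.zpowers x).comap (QuotientGroup.mk' M) := by
    intro m hm
    rw [Subgroup.mem_comap, QuotientGroup.mk'_apply, (QuotientGroup.eq_one_iff m).mpr hm]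
    exact one_mem _
  have hne : (Subgroup.zpowers x).comap (QuotientGroup.mk' M) ≠ M := by
    obtain ⟨y, rfl⟩ := QuotientGroup.mk'_surjective M x
    intro h
    have hy : y ∈ (Subgroup.zpowers (QuotientGroup.mk' M y)).comap (QuotientGroup.mk' M) :=
      Subgroup.mem_zpowers _
    rw [h] at hy
    have h2 : (QuotientGroup.mk' M y) = 1 := (QuotientGroup.eq_one_iff y).mpr hy
    rw [h2, orderOf_one] at hx
    exact hp.one_lt.ne hx
  have hKtop : (Subgroup.zpowers x).comap (QuotientGroup.mk' M) = ⊤ :=
    hM.2 _ (lt_of_le_of_ne hMK (Ne.symm hne))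
  have hz : Subgroup.zpowers x = ⊤ := by
    rw [← Subgroup.map_comap_eq_self_of_surjective (QuotientGroup.mk'_surjective M)
      (Subgroup.zpowers x), hKtop, Subgroup.map_top_of_surjective _ (QuotientGroup.mk'_surjective M)]
  rw [Subgroup.index_eq_card, ← Subgroup.card_top, ← hz, Nat.card_zpowers, hx]
  exact hp


/-- In a finite group with a nilpotent normal subgroup `M` of prime index `p`, every prime `q ≠ p`
has a normal Sylow `q`-subgroup. -/
theorem exists_normal_sylow_of_nilpotent_prime_index {G : Type u} [Group G] [Finite G]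
    (M : Subgroup G) [M.Normal] (hM : Group.IsNilpotent M) {p : ℕ} (hp : p.Prime)
    (hidx : M.index = p) {q : ℕ} [hq : Fact q.Prime] (hqp : q ≠ p) :
    ∃ Q : Sylow q G, (Q : Subgroup G).Normal := by
  let S' : Sylow q M := Classical.arbitrary _
  have htf := (Group.isNilpotent_of_finite_tfae (G := M)).out 0 3
  have hnorm : (S' : Subgroup M).Normal := htf.mp hM q inferInstance S'
  have hchar : (S' : Subgroup M).Characteristic := S'.characteristic_of_normal hnorm
  have hnormG : ((S' : Subgroup M).map M.subtype).Normal :=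
    ConjAct.normal_of_characteristic_of_normal
  have hpg : IsPGroup q ((S' : Subgroup M).map M.subtype) := S'.isPGroup'.map _
  have hnd : ¬ q ∣ ((S' : Subgroup M).map M.subtype).index := by
    rw [Subgroup.index_map_subtype, hidx]
    intro h
    rcases (Nat.Prime.dvd_mul hq.out).mp h with h1 | h1
    · exact S'.not_dvd_index h1
    · exact hqp ((Nat.prime_dvd_prime_iff_eq hq.out hp).mp h1)
  exact ⟨hpg.toSylow hnd, hnormG⟩

/-- If `P ⊔ Q` is nilpotent for a `p`-subgroup `P` and a `q`-subgroup `Q` (`p ≠ q`), they commute. -/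
theorem commute_of_isNilpotent_sup {G : Type u} [Group G] [Finite G] {p q : ℕ} [Fact p.Prime]
    [Fact q.Prime] (hpq : p ≠ q) {P Q : Subgroup G} (hP : IsPGroup p P) (hQ : IsPGroup q Q)
    (hnil : Group.IsNilpotent (P ⊔ Q : Subgroup G)) {x y : G} (hx : x ∈ P) (hy : y ∈ Q) :
    x * y = y * x := by
  obtain ⟨k, hk⟩ := hP ⟨x, hx⟩
  obtain ⟨l, hl⟩ := hQ ⟨y, hy⟩
  have h1 : orderOf x ∣ p ^ k := orderOf_dvd_of_pow_eq_one (by simpa using congrArg Subtype.val hk)
  have h2 : orderOf y ∣ q ^ l := orderOf_dvd_of_pow_eq_one (by simpa using congrArg Subtype.val hl)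
  have hcop : Nat.Coprime (p ^ k) (q ^ l) :=
    Nat.Coprime.pow k l ((Nat.coprime_primes Fact.out Fact.out).mpr hpq)
  have hc := Cfsg.Agent.Lib.Helper65.commute_of_coprime_orderOf (N := (P ⊔ Q : Subgroup G))
    ⟨x, Subgroup.mem_sup_left hx⟩ ⟨y, Subgroup.mem_sup_right hy⟩ (by
      rw [Subgroup.orderOf_mk, Subgroup.orderOf_mk]
      exact Nat.Coprime.coprime_dvd_left h1 (Nat.Coprime.coprime_dvd_right h2 hcop))
  exact congrArg Subtype.val hc.eq

/-- An element lying in a `p`-subgroup and in a `q`-subgroup for distinct primes is trivial. -/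
theorem eq_one_of_mem_isPGroup_of_mem_isPGroup {G : Type u} [Group G] {p q : ℕ} [Fact p.Prime]
    [Fact q.Prime] (hpq : p ≠ q) {P Q : Subgroup G} (hP : IsPGroup p P) (hQ : IsPGroup q Q)
    {z : G} (hzP : z ∈ P) (hzQ : z ∈ Q) : z = 1 := by
  obtain ⟨k, hk⟩ := hP ⟨z, hzP⟩
  obtain ⟨l, hl⟩ := hQ ⟨z, hzQ⟩
  have h1 : orderOf z ∣ p ^ k := orderOf_dvd_of_pow_eq_one (by simpa using congrArg Subtype.val hk)
  have h2 : orderOf z ∣ q ^ l := orderOf_dvd_of_pow_eq_one (by simpa using congrArg Subtype.val hl)
  have hcop : Nat.Coprime (p ^ k) (q ^ l) :=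
    Nat.Coprime.pow k l ((Nat.coprime_primes Fact.out Fact.out).mpr hpq)
  have h3 : orderOf z = 1 := Nat.Coprime.eq_one_of_dvd (Nat.Coprime.coprime_dvd_left h1 hcop) h2
  exact orderOf_eq_one_iff.mp h3

/-- If `P ⊔ Q` is nilpotent and `P` is a Sylow subgroup of `G`, then `Q` normalizes `P`. -/
theorem le_normalizer_of_isNilpotent_sup {G : Type u} [Group G] [Finite G] {p : ℕ} [Fact p.Prime]
    (P : Sylow p G) (Q : Subgroup G) (hnil : Group.IsNilpotent ((P : Subgroup G) ⊔ Q : Subgroup G)) :
    Q ≤ Subgroup.normalizer ((P : Subgroup G) : Set G) := by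
  have hle : (P : Subgroup G) ≤ (P : Subgroup G) ⊔ Q := le_sup_left
  have htf := (Group.isNilpotent_of_finite_tfae (G := ↥((P : Subgroup G) ⊔ Q))).out 0 3
  have hnorm : ((P.subtype hle : Sylow p ↥((P : Subgroup G) ⊔ Q)) :
      Subgroup ↥((P : Subgroup G) ⊔ Q)).Normal := htf.mp hnil p inferInstance (P.subtype hle)
  have key : ∀ y ∈ Q, ∀ n ∈ (P : Subgroup G), y * n * y⁻¹ ∈ (P : Subgroup G) := by
    intro y hy n hn
    have hyH : y ∈ (P : Subgroup G) ⊔ Q := Subgroup.mem_sup_right hy
    have hnH : n ∈ (P : Subgroup G) ⊔ Q := hle hn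
    have hmem : (⟨n, hnH⟩ : ↥((P : Subgroup G) ⊔ Q)) ∈ ((P.subtype hle : Sylow p ↥((P : Subgroup G) ⊔ Q)) :
        Subgroup ↥((P : Subgroup G) ⊔ Q)) := by
      rw [Sylow.coe_subtype, Subgroup.mem_subgroupOf]; exact hn
    have h1 := hnorm.conj_mem _ hmem ⟨y, hyH⟩
    rw [Sylow.coe_subtype, Subgroup.mem_subgroupOf] at h1
    simpa using h1
  intro y hy
  rw [Subgroup.mem_set_normalizer_iff]
  intro n
  constructor
  · exact key y hy n
  · intro h
    have h1 := key y⁻¹ (Q.inv_mem hy) _ h
    have h2 : y⁻¹ * (y * n * y⁻¹) * y⁻¹⁻¹ = n := by group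
    rw [h2] at h1
    exact h1

/-- **Structure of minimal non-nilpotent groups** (Schmidt): `G = P Q` with `P` a cyclic Sylow
`p`-subgroup and `Q` a normal Sylow `q`-subgroup. -/
theorem minimalNonNilpotent_structure {G : Type u} [Group G] [Finite G]
    (hnn : ¬ Group.IsNilpotent G) (hG : ∀ H : Subgroup G, H ≠ ⊤ → Group.IsNilpotent H) :
    ∃ p q : ℕ, p.Prime ∧ q.Prime ∧ p ≠ q ∧ ∃ (P : Sylow p G) (Q : Sylow q G),
      IsCyclic P ∧ (Q : Subgroup G).Normal ∧ (P : Subgroup G) ⊔ Q = ⊤ ∧ ¬ (P : Subgroup G).Normal := by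
  have hsolv : Group.IsSolvable G := isSolvable_of_forall_proper_isNilpotent hG
  have hnt : Nontrivial G := by
    by_contra h
    rw [not_nontrivial_iff_subsingleton] at h
    exact hnn inferInstance
  obtain ⟨M, hMn, hMidx⟩ := exists_normal_prime_index (G := G)
  set p := M.index with hp_def
  have hp : Fact p.Prime := ⟨hMidx⟩
  have hMtop : M ≠ ⊤ := fun h => hMidx.one_lt.ne' (by rw [hp_def, h, Subgroup.index_top])
  have hMnil := hG M hMtop
  -- normal Sylow subgroups for the other primes
  have hD : ∀ q : ℕ, q.Prime → q ≠ p → ∃ Q : Sylow q G, (Q : Subgroup G).Normal := by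
    intro q hq hqp
    have : Fact q.Prime := ⟨hq⟩
    exact exists_normal_sylow_of_nilpotent_prime_index M hMnil hMidx rfl hqp
  let P : Sylow p G := Classical.arbitrary _
  -- `P` is not normal
  have hPn : ¬ (P : Subgroup G).Normal := by
    intro hPnorm
    apply hnn
    have htf := (Group.isNilpotent_of_finite_tfae (G := G)).out 0 3
    rw [htf]
    intro r hr R
    by_cases hrp : r = p
    · subst hrp
      have := Sylow.unique_of_normal P hPnorm
      rw [Subsingleton.elim R P]
      exact hPnorm
    · obtain ⟨Q, hQ⟩ := hD r hr.out hrp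
      have := Sylow.unique_of_normal Q hQ
      rw [Subsingleton.elim R Q]
      exact hQ
  -- some `Q` with `P ⊔ Q = ⊤`
  have hF : ∃ q : ℕ, q.Prime ∧ q ≠ p ∧ ∃ Q : Sylow q G, (Q : Subgroup G).Normal ∧
      (P : Subgroup G) ⊔ Q = ⊤ := by
    by_contra hcon
    push Not at hcon
    apply hPn
    rw [← Subgroup.normalizer_eq_top_iff, ← Subgroup.index_eq_one]
    by_contra hne
    obtain ⟨r, hr, hrd⟩ := Nat.exists_prime_and_dvd hne
    have : Fact r.Prime := ⟨hr⟩
    by_cases hrp : r = p
    · subst hrp
      exact P.not_dvd_index (hrd.trans (Subgroup.index_dvd_of_le Subgroup.le_normalizer))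
    · obtain ⟨Q, hQ⟩ := hD r hr hrp
      have hQN : (Q : Subgroup G) ≤ Subgroup.normalizer ((P : Subgroup G) : Set G) := by
        have hne' := hcon r hr hrp Q hQ
        have hnil := hG _ hne'
        exact le_normalizer_of_isNilpotent_sup P Q hnil
      exact Q.not_dvd_index (hrd.trans (Subgroup.index_dvd_of_le hQN))
  obtain ⟨q, hq, hqp, Q, hQn, hPQ⟩ := hF
  have hqF : Fact q.Prime := ⟨hq⟩
  refine ⟨p, q, hMidx, hq, fun h => hqp h.symm, P, Q, ?_, hQn, hPQ, hPn⟩
  -- `P` is cyclic
  by_contra hcyc
  apply hPn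
  have hcent : (P : Subgroup G) ≤ Subgroup.centralizer ((Q : Subgroup G) : Set G) := by
    intro x hx
    have hlt : Subgroup.zpowers x < (P : Subgroup G) := by
      refine lt_of_le_of_ne ((Subgroup.zpowers_le).mpr hx) ?_
      intro hzx
      apply hcyc
      exact ⟨⟨⟨x, hx⟩, fun y => by
        have hy : (y : G) ∈ Subgroup.zpowers x := by rw [hzx]; exact y.2
        obtain ⟨k, hk⟩ := Subgroup.mem_zpowers_iff.mp hy
        exact ⟨k, Subtype.ext (by simpa using hk)⟩⟩⟩
    -- `zpowers x ⊔ Q ≠ ⊤`
    have hne : Subgroup.zpowers x ⊔ (Q : Subgroup G) ≠ ⊤ := by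
      intro htop
      apply hlt.not_ge
      intro g hg
      have hg' : g ∈ Subgroup.zpowers x ⊔ (Q : Subgroup G) := by rw [htop]; trivial
      rw [Subgroup.mem_sup_of_normal_right] at hg'
      obtain ⟨y, hy, z, hz, rfl⟩ := hg'
      have hzP : z ∈ (P : Subgroup G) := by
        have : z = y⁻¹ * (y * z) := by group
        rw [this]
        exact (P : Subgroup G).mul_mem ((P : Subgroup G).inv_mem (hlt.le hy)) hg
      have hz1 : z = 1 := eq_one_of_mem_isPGroup_of_mem_isPGroup (fun h => hqp h.symm)
        P.isPGroup' Q.isPGroup' hzP hz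
      rw [hz1, mul_one]; exact hy
    have hnil := hG _ hne
    rw [Subgroup.mem_centralizer_iff]
    intro y hy
    exact (commute_of_isNilpotent_sup (fun h => hqp h.symm) (P.isPGroup'.to_le hlt.le) Q.isPGroup' hnil
      (Subgroup.mem_zpowers x) hy).symm
  rw [← Subgroup.normalizer_eq_top_iff, eq_top_iff, ← hPQ]
  refine sup_le Subgroup.le_normalizer ?_
  intro y hy
  exact Subgroup.centralizer_le_normalizer _ (Subgroup.le_centralizer_iff.mp hcent hy)

end Cfsg.Agent.Lib.Helper96
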