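import Mathlib

/-!
Sign of the (right) regular representation and subgroups of index 2:
if `g` has even order and `|G| / orderOf g` is odd, right multiplication by `g` is an odd permutation of `G`,
so `G` has a subgroup of index 2.
-/

set_option autoImplicit false

namespace Cfsg.Agent.Lib.Helper96

open Equiv

variable {G : Type*} [Group G]

/-- `(G ⧸ S) × S ≃ G`, `(q, s) ↦ q.out * s`. -/
noncomputable def quotProdEquiv (S : Subgroup G) : (G ⧸ S) × S ≃ G where
  toFun x := x.1.out * x.2
  invFun a := ((a : G ⧸ S), ⟨(a : G ⧸ S).out⁻¹ * a, by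
    rw [← QuotientGroup.eq]
    exact QuotientGroup.out_eq' _⟩)
  left_inv := by
    rintro ⟨q, s⟩
    have h1 : ((q.out * (s : G) : G) : G ⧸ S) = q := by
      rw [QuotientGroup.mk_mul_of_mem _ s.2]
      exact QuotientGroup.out_eq' q
    ext
    · exact h1
    · simp only [h1]
      group
  right_inv := by
    intro a
    simp

theorem quotProdEquiv_apply (S : Subgroup G) (q : G ⧸ S) (s : S) :
    quotProdEquiv S (q, s) = q.out * s := rfl

/-- Right multiplication by a generator of a finite cyclic group of even order is an odd permutation. -/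
theorem sign_mulRight_generator {C : Type*} [Group C] [Fintype C] [DecidableEq C] (c : C)
    (hc : ∀ x : C, x ∈ Subgroup.zpowers c) (heven : Even (Fintype.card C)) :
    Perm.sign (Equiv.mulRight c) = -1 := by
  have hc1 : c ≠ 1 := by
    rintro rfl
    have : ∀ x : C, x = 1 := fun x => by simpa using hc x
    have hcard : Fintype.card C = 1 := by
      rw [Fintype.card_eq_one_iff]; exact ⟨1, this⟩
    rw [hcard] at heven
    exact absurd heven (by decide)
  have hsupp : (Equiv.mulRight c).support = Finset.univ := by
    ext x
    simp only [Perm.mem_support, Equiv.coe_mulRight, ne_eq, mul_eq_left, Finset.mem_univ, iff_true]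
    exact hc1
  have hcyc : (Equiv.mulRight c).IsCycle := by
    refine ⟨1, by simpa using hc1, fun y _ => ?_⟩
    obtain ⟨i, hi⟩ := Subgroup.mem_zpowers_iff.mp (hc y)
    refine ⟨i, ?_⟩
    rw [Equiv.zpow_mulRight]
    simpa using hi
  rw [hcyc.sign, hsupp, Finset.card_univ, heven.neg_one_pow]

/-- If `g` has even order and `|G| / orderOf g` is odd, then right multiplication by `g` is an odd permutation. -/
theorem sign_mulRight_eq_neg_one [Fintype G] [DecidableEq G] (g : G) (heven : Even (orderOf g))
    (hodd : Odd (Subgroup.zpowers g).index) : Perm.sign (Equiv.mulRight g) = -1 := by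
  classical
  set S := Subgroup.zpowers g with hS
  let g' : S := ⟨g, Subgroup.mem_zpowers g⟩
  have hgen : ∀ x : S, x ∈ Subgroup.zpowers g' := by
    rintro ⟨x, hx⟩
    obtain ⟨i, rfl⟩ := Subgroup.mem_zpowers_iff.mp hx
    exact Subgroup.mem_zpowers_iff.mpr ⟨i, Subtype.ext (by simp [g'])⟩
  have hcardS : Fintype.card S = orderOf g := by
    rw [← Nat.card_eq_fintype_card, Nat.card_zpowers]
  have h1 : Perm.sign (Equiv.mulRight g') = -1 :=
    sign_mulRight_generator g' hgen (by rw [hcardS]; exact heven)
  have h2 : Perm.sign (Equiv.mulRight g) =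
      Perm.sign (prodCongrRight (fun _ : G ⧸ S => Equiv.mulRight g')) := by
    symm
    apply Perm.sign_eq_sign_of_equiv _ _ (quotProdEquiv S)
    rintro ⟨q, s⟩
    simp only [prodCongrRight_apply, Equiv.coe_mulRight, quotProdEquiv_apply, Subgroup.coe_mul, mul_assoc]
    rfl
  rw [h2, Perm.sign_prodCongrRight]
  simp only [h1, Finset.prod_const, Finset.card_univ]
  have : Fintype.card (G ⧸ S) = S.index := by
    rw [← Nat.card_eq_fintype_card, Subgroup.index_eq_card]
  rw [this, hodd.neg_one_pow]

/-- A finite group with an element `g` of even order such that `⟨g⟩` has odd index has a subgroup of index 2. -/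
theorem exists_index_two_of_even_orderOf [Finite G] (g : G) (heven : Even (orderOf g))
    (hodd : Odd (Subgroup.zpowers g).index) : ∃ H : Subgroup G, H.index = 2 := by
  classical
  have : Fintype G := Fintype.ofFinite G
  let φ : G →* ℤˣ :=
    { toFun := fun a => Perm.sign (Equiv.mulRight a)
      map_one' := by simp
      map_mul' := fun a b => by
        rw [Equiv.mulRight_mul, Perm.sign_mul, mul_comm] }
  have hφg : φ g = -1 := sign_mulRight_eq_neg_one g heven hodd
  have hsurj : Function.Surjective φ := by
    intro u
    rcases Int.units_eq_one_or u with rfl | rfl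
    · exact ⟨1, map_one φ⟩
    · exact ⟨g, hφg⟩
  refine ⟨φ.ker, ?_⟩
  rw [Subgroup.index_ker, MonoidHom.range_eq_top.mpr hsurj]
  simp

end Cfsg.Agent.Lib.Helper96
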