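import Mathlib

/-!
The Baer–Suzuki theorem (Alperin–Lyons proof): if `K` is a conjugation-invariant subset of a finite group
such that any two elements of `K` generate a `p`-group, then `K` generates a (normal) `p`-subgroup.
-/

set_option autoImplicit false

namespace Cfsg.Agent.Lib.Helper96

variable {G : Type*} [Group G]

/-- Relative normalizer condition: a proper subgroup `M` of a finite `p`-subgroup `E` is normalized by some
element of `E` outside `M`. -/
theorem exists_normalizing_not_mem [Finite G] {p : ℕ} [Fact p.Prime] {E M : Subgroup G}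
    (hE : IsPGroup p E) (hlt : M < E) :
    ∃ e ∈ E, e ∉ M ∧ e ∈ Subgroup.normalizer (M : Set G) := by
  have : Group.IsNilpotent E := hE.isNilpotent
  have hnc := Group.normalizerCondition_of_isNilpotent (G := E)
  have hlt' : M.subgroupOf E < ⊤ := by
    rw [lt_top_iff_ne_top, Ne, Subgroup.subgroupOf_eq_top]
    exact not_le_of_gt hlt
  have h := hnc _ hlt'
  obtain ⟨e, he1, he2⟩ := SetLike.exists_of_lt h
  refine ⟨e.1, e.2, ?_, ?_⟩
  · rwa [Subgroup.mem_subgroupOf] at he2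
  · rw [← Subgroup.subgroupOf_normalizer_eq hlt.le, Subgroup.mem_subgroupOf] at he1
    exact he1

/-- Let the finite `p`-group `E` be generated by an `E`-invariant set `Λ` and let `D₀ < E`.
Then some element of `Λ` outside `D₀` normalizes the subgroup generated by `Λ ∩ D₀`. -/
theorem exists_mem_normalizing_closure [Finite G] {p : ℕ} [Fact p.Prime] {E D₀ : Subgroup G}
    (hE : IsPGroup p E) (Λ : Set G) (hΛE : Subgroup.closure Λ = E)
    (hinv : ∀ e ∈ E, ∀ l ∈ Λ, e * l * e⁻¹ ∈ Λ) (hlt : D₀ < E) :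
    ∃ x ∈ Λ, x ∉ D₀ ∧ x ∈ Subgroup.normalizer (Subgroup.closure (Λ ∩ D₀) : Set G) := by
  classical
  let 𝒮 : Subgroup G → Prop := fun M => D₀ ≤ M ∧ M ≤ E ∧ Λ ∩ M ⊆ D₀
  have hD₀ : 𝒮 D₀ := ⟨le_rfl, hlt.le, Set.inter_subset_right⟩
  obtain ⟨M, -, hMmax⟩ := Finite.exists_le_maximal (p := 𝒮) hD₀
  obtain ⟨hM1, hM2, hM3⟩ := hMmax.prop
  have hΛsub : Λ ⊆ E := by rw [← hΛE]; exact Subgroup.subset_closure
  have hME : M < E := by
    refine lt_of_le_of_ne hM2 ?_
    rintro rfl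
    have : Λ ⊆ D₀ := fun l hl => hM3 ⟨hl, hΛsub hl⟩
    have : M ≤ D₀ := by rw [← hΛE]; exact (Subgroup.closure_le D₀).mpr this
    exact absurd hlt (not_lt_of_ge this)
  obtain ⟨e, heE, heM, heN⟩ := exists_normalizing_not_mem hE hME
  set N := Subgroup.normalizer (M : Set G) ⊓ E with hN
  have hMN : M ≤ N := le_inf Subgroup.le_normalizer hM2
  have hNS : ¬ 𝒮 N := by
    intro hNS
    have := hMmax.le_of_ge hNS hMN
    exact heM (this ⟨heN, heE⟩)
  have hnot : ¬ (Λ ∩ N ⊆ D₀) := fun h => hNS ⟨hM1.trans hMN, inf_le_right, h⟩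
  obtain ⟨x, ⟨hxΛ, hxN⟩, hxD⟩ := Set.not_subset.mp hnot
  refine ⟨x, hxΛ, hxD, ?_⟩
  have hzp : Subgroup.zpowers x ≤ Subgroup.normalizer (Subgroup.closure (Λ ∩ D₀) : Set G) := by
    rw [Subgroup.le_normalizer_closure_iff]
    rintro h hh g ⟨hgΛ, hgD⟩
    apply Subgroup.subset_closure
    have hhN : h ∈ N := (Subgroup.zpowers_le.mpr hxN) hh
    have hg1 : h * g * h⁻¹ ∈ Λ := hinv h hhN.2 g hgΛ
    have hg2 : h * g * h⁻¹ ∈ M := (hhN.1 g).mp (hM1 hgD)
    exact ⟨hg1, hM3 ⟨hg1, hg2⟩⟩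
  exact hzp (Subgroup.mem_zpowers x)

section Main

variable [Finite G] {p : ℕ} [Fact p.Prime] (K : Set G)

/-- For a conjugation-invariant set `K`, the sets `K ∩ P`, `P` a Sylow `p`-subgroup, all have the same size. -/
theorem ncard_inter_sylow_eq (hK : ∀ k ∈ K, ∀ g : G, g * k * g⁻¹ ∈ K) (P Q : Sylow p G) :
    (K ∩ (P : Set G)).ncard = (K ∩ (Q : Set G)).ncard := by
  obtain ⟨g, rfl⟩ := MulAction.exists_smul_eq G P Q
  have hmem : ∀ y : G, y ∈ ((g • P : Sylow p G) : Set G) ↔ ∃ k ∈ (P : Subgroup G), g * k * g⁻¹ = y := by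
    intro y
    change y ∈ ((g • P : Sylow p G) : Subgroup G) ↔ _
    rw [Sylow.coe_subgroup_smul, Subgroup.mem_smul_pointwise_iff_exists]
    simp only [MulAut.smul_def, MulAut.conj_apply]
  have himg : (fun k => g * k * g⁻¹) '' (K ∩ (P : Set G)) = K ∩ ((g • P : Sylow p G) : Set G) := by
    ext y
    constructor
    · rintro ⟨k, ⟨hkK, hkP⟩, rfl⟩
      exact ⟨hK k hkK g, (hmem _).mpr ⟨k, hkP, rfl⟩⟩
    · rintro ⟨hyK, hyP⟩
      obtain ⟨k, hkP, rfl⟩ := (hmem _).mp hyP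
      refine ⟨k, ⟨?_, hkP⟩, rfl⟩
      have := hK _ hyK g⁻¹
      simpa [mul_assoc] using this
  rw [← himg]
  exact (Set.ncard_image_of_injective _ (fun a b hab => by simpa using hab)).symm

/-- The key step of the Alperin–Lyons argument. -/
theorem baerSuzuki_step (hK : ∀ k ∈ K, ∀ g : G, g * k * g⁻¹ ∈ K) (P Q : Sylow p G)
    (hPQ : ¬ (K ∩ (P : Set G) ⊆ (Q : Set G))) :
    ∃ x ∈ K, x ∈ P ∧ x ∉ Q ∧
      x ∈ Subgroup.normalizer (Subgroup.closure (K ∩ (P : Set G) ∩ (Q : Set G)) : Set G) := by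
  set E := Subgroup.closure (K ∩ (P : Set G)) with hE
  have hEP : E ≤ P := (Subgroup.closure_le _).mpr Set.inter_subset_right
  have hEp : IsPGroup p E := P.isPGroup'.to_le hEP
  have hlt : E ⊓ (Q : Subgroup G) < E := by
    refine lt_of_le_of_ne inf_le_left ?_
    intro h
    apply hPQ
    intro k hk
    have : k ∈ E ⊓ (Q : Subgroup G) := by rw [h]; exact Subgroup.subset_closure hk
    exact this.2
  have hinv : ∀ e ∈ E, ∀ l ∈ K ∩ (P : Set G), e * l * e⁻¹ ∈ K ∩ (P : Set G) := by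
    rintro e he l ⟨hlK, hlP⟩
    exact ⟨hK l hlK e, (P : Subgroup G).mul_mem ((P : Subgroup G).mul_mem (hEP he) hlP)
      ((P : Subgroup G).inv_mem (hEP he))⟩
  obtain ⟨x, hxΛ, hxD, hxN⟩ := exists_mem_normalizing_closure hEp (K ∩ (P : Set G)) rfl hinv hlt
  have hset : K ∩ (P : Set G) ∩ ((E ⊓ (Q : Subgroup G) : Subgroup G) : Set G) =
      K ∩ (P : Set G) ∩ (Q : Set G) := by
    ext y
    constructor
    · rintro ⟨hy, hy2⟩
      exact ⟨hy, hy2.2⟩
    · rintro ⟨hy, hyQ⟩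
      exact ⟨hy, Subgroup.subset_closure hy, hyQ⟩
  rw [hset] at hxN
  refine ⟨x, hxΛ.1, hxΛ.2, ?_, hxN⟩
  intro hxQ
  exact hxD ⟨Subgroup.subset_closure hxΛ, hxQ⟩

/-- **Baer–Suzuki** for a conjugation-invariant set: if any two elements of `K` generate a `p`-group, then `K`
generates a `p`-group. -/
theorem isPGroup_closure_of_pairwise (hK : ∀ k ∈ K, ∀ g : G, g * k * g⁻¹ ∈ K)
    (h2 : ∀ a ∈ K, ∀ b ∈ K, IsPGroup p (Subgroup.closure ({a, b} : Set G))) :
    IsPGroup p (Subgroup.closure K) := by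
  classical
  by_contra hnot
  let bad : Set (Sylow p G × Sylow p G) := {PQ | K ∩ (PQ.1 : Set G) ≠ K ∩ (PQ.2 : Set G)}
  have hex : bad.Nonempty := by
    by_contra hall
    rw [Set.not_nonempty_iff_eq_empty, Set.eq_empty_iff_forall_notMem] at hall
    obtain ⟨P⟩ : Nonempty (Sylow p G) := inferInstance
    apply hnot
    have hKP : K ⊆ (P : Set G) := by
      intro k hk
      have hk1 : IsPGroup p (Subgroup.zpowers k) := by
        have := h2 k hk k hk
        rwa [Set.pair_eq_singleton, ← Subgroup.zpowers_eq_closure] at this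
      obtain ⟨Q, hQ⟩ := hk1.exists_le_sylow
      have hkQ : k ∈ K ∩ (Q : Set G) := ⟨hk, hQ (Subgroup.mem_zpowers k)⟩
      have hPQeq : K ∩ (P : Set G) = K ∩ (Q : Set G) := by
        by_contra hne
        exact hall (P, Q) hne
      rw [← hPQeq] at hkQ
      exact hkQ.2
    exact P.isPGroup'.to_le ((Subgroup.closure_le _).mpr hKP)
  obtain ⟨⟨P, Q⟩, hbad, hmax⟩ := Set.exists_max_image bad
    (fun PQ => (K ∩ (PQ.1 : Set G) ∩ (PQ.2 : Set G)).ncard) (Set.toFinite _) hex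
  change K ∩ (P : Set G) ≠ K ∩ (Q : Set G) at hbad
  change ∀ b ∈ bad, (K ∩ (b.1 : Set G) ∩ (b.2 : Set G)).ncard ≤ (K ∩ (P : Set G) ∩ (Q : Set G)).ncard at hmax
  -- neither of `K ∩ P`, `K ∩ Q` is contained in the other Sylow subgroup
  have hPQ : ¬ (K ∩ (P : Set G) ⊆ (Q : Set G)) := by
    intro h
    apply hbad
    apply Set.eq_of_subset_of_ncard_le
      (show K ∩ (P : Set G) ⊆ K ∩ (Q : Set G) from fun k hk => ⟨hk.1, h hk⟩)
    rw [ncard_inter_sylow_eq K hK P Q]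
  have hQP : ¬ (K ∩ (Q : Set G) ⊆ (P : Set G)) := by
    intro h
    apply hbad
    symm
    apply Set.eq_of_subset_of_ncard_le
      (show K ∩ (Q : Set G) ⊆ K ∩ (P : Set G) from fun k hk => ⟨hk.1, h hk⟩)
    rw [ncard_inter_sylow_eq K hK P Q]
  obtain ⟨x, hxK, hxP, hxQ, hxN⟩ := baerSuzuki_step K hK P Q hPQ
  obtain ⟨y, hyK, hyQ, hyP, hyN⟩ := baerSuzuki_step K hK Q P hQP
  have hcomm : K ∩ (Q : Set G) ∩ (P : Set G) = K ∩ (P : Set G) ∩ (Q : Set G) :=
    Set.inter_right_comm _ _ _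
  rw [hcomm] at hyN
  set D := Subgroup.closure (K ∩ (P : Set G) ∩ (Q : Set G)) with hD
  have hDP : D ≤ P := (Subgroup.closure_le _).mpr (fun k hk => hk.1.2)
  have hDp : IsPGroup p D := P.isPGroup'.to_le hDP
  set L := Subgroup.closure ({x, y} : Set G) with hL
  have hLp : IsPGroup p L := h2 x hxK y hyK
  have hLN : L ≤ Subgroup.normalizer (D : Set G) := by
    rw [hL, Subgroup.closure_le]
    intro z hz
    rcases hz with rfl | rfl
    · exact hxN
    · exact hyN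
  have hLD : IsPGroup p (L ⊔ D : Subgroup G) := hLp.to_sup_of_normal_right' hDp hLN
  obtain ⟨R, hR⟩ := hLD.exists_le_sylow
  have hxR : x ∈ (R : Subgroup G) :=
    hR (Subgroup.mem_sup_left (Subgroup.subset_closure (by simp)))
  have hyR : y ∈ (R : Subgroup G) :=
    hR (Subgroup.mem_sup_left (Subgroup.subset_closure (by simp)))
  have hDR : D ≤ R := le_sup_right.trans hR
  -- (P, R) is not bad
  have hPR : K ∩ (P : Set G) = K ∩ (R : Set G) := by
    by_contra hne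
    have h1 := hmax (P, R) hne
    have h2 : (K ∩ (P : Set G) ∩ (Q : Set G)).ncard < (K ∩ (P : Set G) ∩ (R : Set G)).ncard := by
      refine Set.ncard_lt_ncard ⟨fun k hk => ⟨hk.1, hDR (Subgroup.subset_closure hk)⟩, ?_⟩
        (Set.toFinite _)
      intro hsub
      exact hxQ (hsub ⟨⟨hxK, hxP⟩, hxR⟩).2
    exact absurd h1 (not_le_of_gt h2)
  have hQR : K ∩ (Q : Set G) = K ∩ (R : Set G) := by
    by_contra hne
    have h1 := hmax (Q, R) hne
    have h2 : (K ∩ (P : Set G) ∩ (Q : Set G)).ncard < (K ∩ (Q : Set G) ∩ (R : Set G)).ncard := by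
      refine Set.ncard_lt_ncard
        ⟨fun k hk => ⟨⟨hk.1.1, hk.2⟩, hDR (Subgroup.subset_closure hk)⟩, ?_⟩ (Set.toFinite _)
      intro hsub
      exact hyP (hsub ⟨⟨hyK, hyQ⟩, hyR⟩).1.2
    exact absurd h1 (not_le_of_gt h2)
  exact hbad (hPR.trans hQR.symm)

end Main

end Cfsg.Agent.Lib.Helper96
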