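import Mathlib
import Cfsg.Prelude.Def_OddOrderLocal
import Cfsg.Agent.Lib.Helper54.BGTransitivity
import Cfsg.Agent.Lib.Helper33.TransferControl2
import Cfsg.Agent.Lib.Helper54.PLocal

/-!
# `M_σ` is a Hall `σ(M)`-subgroup (Bender–Glauberman, section 10), helper96 library

Everything is stated for a subgroup `M` of a finite group `G`; the facts about minimal simple groups
of odd order that are needed (control of fusion by `M` for `σ(M)`-subgroups, and the structure of
`M / M_α`) enter as explicit hypotheses, in the shape of the corresponding frozen statements.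
-/

set_option autoImplicit false

namespace Cfsg.Agent.Lib.Helper96.SigmaHall

open Cfsg
open scoped commutatorElement

variable {G : Type*} [Group G]

/-- a non-abelian simple group is perfect -/
theorem commutator_eq_top_of_simple' (hs : IsSimpleGroup G) (hna : ¬ IsMulCommutative G) :
    commutator G = ⊤ := by
  have hn : (commutator G).Normal := inferInstance
  rcases hn.eq_bot_or_eq_top with h | h
  · exfalso
    apply hna
    refine ⟨⟨fun a b => ?_⟩⟩
    have h1 : ⁅a, b⁆ ∈ commutator G := by
      rw [commutator_def]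
      exact Subgroup.commutator_mem_commutator (Subgroup.mem_top a) (Subgroup.mem_top b)
    rw [h, Subgroup.mem_bot] at h1
    exact commutatorElement_eq_one_iff_mul_comm.mp h1
  · exact h

variable [Finite G]

/-- If `Q` is a Sylow `p`-subgroup of `M` (as a subgroup of `G`) and `N_G(Q) ≤ M`, then `p` does not
divide the index of `Q` in `G`. -/
theorem not_dvd_index_of_normalizer_le {p : ℕ} [Fact p.Prime] (M : Subgroup G) (P : Sylow p M)
    (hN : Subgroup.normalizer (((P : Subgroup M).map M.subtype : Subgroup G) : Set G) ≤ M) :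
    ¬ p ∣ ((P : Subgroup M).map M.subtype).index := by
  set Q : Subgroup G := (P : Subgroup M).map M.subtype with hQ
  have hQM : Q ≤ M := Subgroup.map_subtype_le _
  have hQp : IsPGroup p Q := P.2.map _
  obtain ⟨n, hn⟩ := IsPGroup.iff_card.mp hQp
  have hmod := Sylow.card_quotient_normalizer_modEq_card_quotient (p := p) hn
  -- the index of `Q` in its normalizer divides the index of `P` in `M`
  have h1 : Q.relIndex (Subgroup.normalizer (Q : Set G)) * (Subgroup.normalizer (Q : Set G)).relIndex M
      = Q.relIndex M := Subgroup.relIndex_mul_relIndex _ _ _ Subgroup.le_normalizer hN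
  have h2 : Q.relIndex M = (P : Subgroup M).index := by
    rw [Subgroup.relIndex, hQ, Subgroup.subgroupOf, Subgroup.comap_map_eq_self_of_injective M.subtype_injective]
  have h3 : ¬ p ∣ Q.relIndex (Subgroup.normalizer (Q : Set G)) := by
    intro h
    apply P.not_dvd_index
    rw [← h2, ← h1]
    exact Dvd.dvd.mul_right h _
  intro hdvd
  apply h3
  have e1 : Nat.card (↥(Subgroup.normalizer (Q : Set G)) ⧸
      Q.comap (Subgroup.normalizer (Q : Set G)).subtype) = Q.relIndex (Subgroup.normalizer (Q : Set G)) := by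
    rw [Subgroup.relIndex, Subgroup.index_eq_card]; rfl
  have e2 : Nat.card (G ⧸ Q) = Q.index := by rw [Subgroup.index_eq_card]
  rw [e1, e2] at hmod
  exact (Nat.modEq_zero_iff_dvd.mp ((hmod.trans (Nat.modEq_zero_iff_dvd.mpr hdvd))))

/-- For `p ∈ σ(M)` there is a Sylow `p`-subgroup of `G` contained in `M`. -/
theorem exists_sylow_le_of_mem_sigma {p : ℕ} [Fact p.Prime] (M : Subgroup G) (hp : p ∈ sigma M) :
    ∃ S : Sylow p G, (S : Subgroup G) ≤ M := by
  obtain ⟨_, _, P, hN⟩ := hp
  have hnd := not_dvd_index_of_normalizer_le M P hN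
  have hQp : IsPGroup p ((P : Subgroup M).map M.subtype) := P.2.map _
  exact ⟨hQp.toSylow hnd, by rw [IsPGroup.toSylow_coe]; exact Subgroup.map_subtype_le _⟩

/-- For `p ∈ σ(M)`, `p` does not divide `|G : M|`. -/
theorem not_dvd_index_of_mem_sigma {p : ℕ} [Fact p.Prime] (M : Subgroup G) (hp : p ∈ sigma M) :
    ¬ p ∣ M.index := by
  obtain ⟨S, hS⟩ := exists_sylow_le_of_mem_sigma M hp
  intro h
  apply S.not_dvd_index
  rw [← Subgroup.relIndex_mul_index hS]
  exact Dvd.dvd.mul_left h _

/-- The fusion clause of BG 10.1 for `M` (shape of the frozen statement S1404, first half). -/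
def FusionControl (M : Subgroup G) : Prop :=
  ∀ (p : ℕ) [Fact p.Prime], p ∈ sigma M → ∀ X : Subgroup G, IsPGroup p X → X ≠ ⊥ → X ≤ M →
    ∀ g : G, X.map (MulAut.conj g).toMonoidHom ≤ M →
      ∃ m ∈ M, ∃ c ∈ Subgroup.centralizer (X : Set G), g = m * c

/-- **Focal subgroup argument.** If `G` is perfect and `M` controls fusion of its `p`-subgroups
(`p ∈ σ(M)`), then every Sylow `p`-subgroup of `G` inside `M` lies in `[M, M]`. -/
theorem sylow_le_commutator_of_fusionControl (hperf : commutator G = ⊤) (M : Subgroup G)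
    (hF : FusionControl M) {p : ℕ} [Fact p.Prime] (hp : p ∈ sigma M) (S : Sylow p G)
    (hS : (S : Subgroup G) ≤ M) : (S : Subgroup G) ≤ ⁅M, M⁆ := by
  have key := Cfsg.Agent.Lib.Helper33.focal_le_of_forall S ⁅M, M⁆ (by
    intro P hP g hg x hx
    by_cases hx1 : x = 1
    · subst hx1; simp
    have hXS : Subgroup.zpowers x ≤ (S : Subgroup G) := by
      rw [Subgroup.zpowers_le]; exact hP hx
    have hXp : IsPGroup p (Subgroup.zpowers x) := S.2.to_le hXS
    have hX1 : Subgroup.zpowers x ≠ ⊥ := by
      rw [Ne, Subgroup.zpowers_eq_bot]; exact hx1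
    have hXg : (Subgroup.zpowers x).map (MulAut.conj g).toMonoidHom ≤ M := by
      refine le_trans ?_ (hg.trans hS)
      rw [Cfsg.Agent.Lib.Helper33.cj_def]
      exact Subgroup.map_mono (Subgroup.zpowers_le.mpr hx)
    obtain ⟨m, hm, c, hc, rfl⟩ := hF p hp _ hXp hX1 (hXS.trans hS) g hXg
    have hcx : c * x = x * c := by
      have := (Subgroup.mem_centralizer_iff.mp hc) x (Subgroup.mem_zpowers x)
      exact this.symm
    have e : m * c * x * (m * c)⁻¹ * x⁻¹ = ⁅m, x⁆ := by
      rw [commutatorElement_def]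
      have : m * c * x * (m * c)⁻¹ = m * x * m⁻¹ := by
        rw [mul_inv_rev, mul_assoc m c x, hcx]; group
      rw [this]
    rw [e]
    exact Subgroup.commutator_mem_commutator hm (hS (hP hx)))
  rw [hperf, inf_top_eq] at key
  exact key

/-- In a finite group `H` with a nilpotent normal subgroup `D`, every `p`-subgroup of `D` lies in a
normal `p`-subgroup of `H`. -/
theorem exists_normal_pGroup_of_le_nilpotent_normal {H : Type*} [Group H] [Finite H] {p : ℕ}
    [Fact p.Prime] (D : Subgroup H) [D.Normal] (hD : Group.IsNilpotent D) (Q : Subgroup H)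
    (hQ : IsPGroup p Q) (hQD : Q ≤ D) : ∃ R : Subgroup H, R.Normal ∧ IsPGroup p R ∧ Q ≤ R := by
  obtain R₀ : Sylow p D := default
  have hall := (Group.isNilpotent_of_finite_tfae (G := D)).out 0 3
  have hRn : (R₀ : Subgroup D).Normal := hall.mp hD p inferInstance R₀
  have hfr := Sylow.normalizer_sup_eq_top R₀
  have hle : D ≤ Subgroup.normalizer (((R₀ : Subgroup D).map D.subtype : Subgroup H) : Set H) :=
    Cfsg.Agent.Lib.Helper54.le_normalizer_map_subtype D (R₀ : Subgroup D)
  rw [sup_eq_left.mpr hle] at hfr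
  refine ⟨(R₀ : Subgroup D).map D.subtype, Subgroup.normalizer_eq_top_iff.mp hfr, R₀.2.map _, ?_⟩
  have hQ' : IsPGroup p (Q.subgroupOf D) := hQ.comap_subtype
  obtain ⟨S', hS'⟩ := hQ'.exists_le_sylow
  have huniq := Sylow.unique_of_normal R₀ hRn
  have : S' = R₀ := Subsingleton.elim _ _
  rw [this] at hS'
  have := Subgroup.map_mono (f := D.subtype) hS'
  rwa [Subgroup.map_subgroupOf_eq_of_le hQD] at this

/-- `p ∈ σ(M)`: a `p`-subgroup of `M` inside `M'` lies in `O_{σ(M)}(M)`, provided `O_{α(M)}(M)` is a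
`σ(M)`-group and the image of `M'` in `M / O_{α(M)}(M)` is nilpotent. -/
theorem le_piCore_sigma_of_le_commutator (M : Subgroup G) {p : ℕ} [Fact p.Prime] (hp : p ∈ sigma M)
    (hαs : ∀ r : ℕ, r.Prime → r ∣ Nat.card (piCore (alpha M) ↥M) → r ∈ sigma M)
    (hnil : Group.IsNilpotent ↥((commutator ↥M).map (QuotientGroup.mk' (piCore (alpha M) ↥M))))
    (P : Subgroup ↥M) (hPp : IsPGroup p P) (hP : P ≤ commutator ↥M) :
    P ≤ piCore (sigma M) ↥M := by
  set N := piCore (alpha M) ↥M with hN
  set f := QuotientGroup.mk' N with hf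
  have hfs : Function.Surjective f := QuotientGroup.mk'_surjective N
  have hDn : ((commutator ↥M).map f).Normal := Subgroup.Normal.map inferInstance f hfs
  obtain ⟨R, hRn, hRp, hQR⟩ := exists_normal_pGroup_of_le_nilpotent_normal
    ((commutator ↥M).map f) hnil (P.map f) (hPp.map f) (Subgroup.map_mono hP)
  have hTn : (R.comap f).Normal := hRn.comap f
  have hPT : P ≤ R.comap f := Subgroup.map_le_iff_le_comap.mp hQR
  refine hPT.trans (Cfsg.Agent.Lib.Helper54.le_piCore (sigma M) hTn ?_)
  -- the order of `T`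
  have hcard : Nat.card (R.comap f) = Nat.card R * Nat.card N := by
    have h1 := Subgroup.card_mul_index (R.comap f)
    have h2 : (R.comap f).index = R.index := Subgroup.index_comap_of_surjective R hfs
    have h3 := Subgroup.card_mul_index R
    have h4 := Subgroup.card_eq_card_quotient_mul_card_subgroup N
    have hpos : 0 < R.index := Nat.pos_of_ne_zero Subgroup.index_ne_zero_of_finite
    have : Nat.card (R.comap f) * R.index = Nat.card R * Nat.card N * R.index := by
      rw [← h2, h1, h4, ← h3, h2]; ring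
    exact Nat.eq_of_mul_eq_mul_right hpos this
  intro r hr hrd
  rw [hcard] at hrd
  rcases (Nat.Prime.dvd_mul hr).mp hrd with h | h
  · obtain ⟨k, hk⟩ := IsPGroup.iff_card.mp hRp
    rw [hk] at h
    have := (Nat.prime_dvd_prime_iff_eq hr (Fact.out : p.Prime)).mp (hr.dvd_of_dvd_pow h)
    rw [this]; exact hp
  · exact hαs r hr h

/-- **`M_σ` is a Hall `σ(M)`-subgroup of `M` and of `G`**, and the only normal Hall `σ(M)`-subgroup of
`M`; conditional on the fusion clause of BG 10.1 and on two clauses of BG 10.2. -/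
theorem sigmaCore_hall (hs : IsSimpleGroup G) (hna : ¬ IsMulCommutative G) (M : Subgroup G)
    (hF : FusionControl M) (hασ : alphaCore M ≤ sigmaCore M)
    (hnil : Group.IsNilpotent ↥((commutator ↥M).map (QuotientGroup.mk' (piCore (alpha M) ↥M)))) :
    IsPiHallOf (sigma M) (sigmaCore M) M ∧ IsPiHall (sigma M) (sigmaCore M) ∧
      ∀ N : Subgroup G, M ≤ Subgroup.normalizer (N : Set G) → IsPiHallOf (sigma M) N M →
        N = sigmaCore M := by
  have hperf := commutator_eq_top_of_simple' hs hna
  have hσM : sigmaCore M ≤ M := Cfsg.Agent.Lib.Helper54.piCoreOf_le _ _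
  have hσpi : ∀ r : ℕ, r.Prime → r ∣ Nat.card (sigmaCore M) → r ∈ sigma M :=
    Cfsg.Agent.Lib.Helper54.piCoreOf_isPi _ _
  have hαs : ∀ r : ℕ, r.Prime → r ∣ Nat.card (piCore (alpha M) ↥M) → r ∈ sigma M := by
    intro r hr hrd
    apply hσpi r hr
    refine hrd.trans ?_
    have : Nat.card (piCore (alpha M) ↥M) = Nat.card (alphaCore M) := by
      unfold alphaCore
      rw [Subgroup.card_map_of_injective M.subtype_injective]
    rw [this]
    exact Subgroup.card_dvd_of_le hασ
  -- every prime of `σ(M)` has a Sylow subgroup of `G` inside `M_σ`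
  have key : ∀ p : ℕ, p ∈ sigma M → ∃ (_ : Fact p.Prime) (S : Sylow p G), (S : Subgroup G) ≤ sigmaCore M := by
    intro p hp
    have : Fact p.Prime := ⟨hp.1⟩
    obtain ⟨S, hS⟩ := exists_sylow_le_of_mem_sigma M hp
    have hSc := sylow_le_commutator_of_fusionControl hperf M hF hp S hS
    refine ⟨inferInstance, S, ?_⟩
    have hP' : IsPGroup p ((S : Subgroup G).subgroupOf M) := S.2.comap_subtype
    have hle : (S : Subgroup G).subgroupOf M ≤ commutator ↥M := by
      intro x hx
      have hx' : (x : G) ∈ ⁅M, M⁆ := hSc (Subgroup.mem_subgroupOf.mp hx)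
      rw [← Subgroup.map_subtype_commutator] at hx'
      obtain ⟨y, hy, hyx⟩ := Subgroup.mem_map.mp hx'
      have : y = x := Subtype.ext hyx
      rwa [← this]
    have h1 := le_piCore_sigma_of_le_commutator M hp hαs hnil _ hP' hle
    have h2 := Subgroup.map_mono (f := M.subtype) h1
    rwa [Subgroup.map_subgroupOf_eq_of_le hS] at h2
  have hrel : ∀ p : ℕ, p.Prime → p ∈ sigma M → ¬ p ∣ (sigmaCore M).relIndex M := by
    intro p _ hp hdvd
    obtain ⟨_, S, hS⟩ := key p hp
    apply S.not_dvd_index
    rw [← Subgroup.relIndex_mul_index (hS.trans hσM),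
      ← Subgroup.relIndex_mul_relIndex _ _ _ hS hσM]
    exact Dvd.dvd.mul_right (Dvd.dvd.mul_left hdvd _) _
  refine ⟨⟨hσM, hσpi, hrel⟩, ⟨hσpi, ?_⟩, ?_⟩
  · intro p hpp hp hdvd
    have : Fact p.Prime := ⟨hpp⟩
    rw [← Subgroup.relIndex_mul_index hσM] at hdvd
    rcases (Nat.Prime.dvd_mul hpp).mp hdvd with h | h
    · exact hrel p hpp hp h
    · exact not_dvd_index_of_mem_sigma M hp h
  · rintro N hMN ⟨hNM, hNpi, hNrel⟩
    have hNσ : N ≤ sigmaCore M := Cfsg.Agent.Lib.Helper54.le_piCoreOf (sigma M) hNM hMN hNpi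
    refine le_antisymm hNσ ?_
    rw [← Subgroup.relIndex_eq_one]
    by_contra hne
    obtain ⟨r, hr, hrd⟩ := Nat.exists_prime_and_dvd hne
    have h1 : r ∣ Nat.card (sigmaCore M) := hrd.trans (Subgroup.relIndex_dvd_card _ _)
    have h2 : r ∣ N.relIndex M := by
      rw [← Subgroup.relIndex_mul_relIndex _ _ _ hNσ hσM]
      exact Dvd.dvd.mul_right hrd _
    exact hNrel r hr (hσpi r hr h1) h2

end Cfsg.Agent.Lib.Helper96.SigmaHall
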