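import Mathlib
import Cfsg.Prelude.Def_OddOrderLocal
import Cfsg.Prelude.Def_OddOrder
import Cfsg.Agent.S1452
import Cfsg.Agent.Lib.Helper45.RankTools

/-!
# BG Theorem 9.6 (Uniqueness Theorem) from 9.2, 9.3, 9.5 (helper96)

`s1403_of`: the Uniqueness Theorem of Bender–Glauberman, conditional on the statements of
S1399 (BG 9.2), S1400 (BG 9.3) and S1402 (BG 9.5) for the given group.
-/

set_option autoImplicit false

namespace Cfsg.Agent.Lib.Helper96.BGUniq

open Cfsg Cfsg.Agent.Lib.Helper45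

/-- a proper overgroup of a subgroup lying in a unique maximal subgroup lies in a unique maximal subgroup -/
theorem inUniqueMaximal_of_le {G : Type*} [Group G] [Finite G] {E K : Subgroup G}
    (hE : InUniqueMaximal E) (hEK : E ≤ K) (hK : K ≠ ⊤) : InUniqueMaximal K := by
  obtain ⟨M, ⟨hM, hEM⟩, huniq⟩ := hE
  obtain ⟨M', hM', hKM'⟩ := (eq_top_or_exists_le_coatom K).resolve_left hK
  have h1 : M' = M := huniq M' ⟨hM', hEK.trans hKM'⟩
  subst h1
  exact ⟨M', ⟨hM', hKM'⟩, fun N hN => huniq N ⟨hN.1, hEK.trans hN.2⟩⟩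

/-- an elementary abelian subgroup of order `> q` is not cyclic -/
theorem not_isCyclic_of_elemAb {G : Type*} [Group G] [Finite G] {q : ℕ} (hq : q.Prime)
    {E : Subgroup G} (hEe : IsElementaryAbelian q E) (hEc : q < Nat.card E) : ¬ IsCyclic E := by
  intro hcyc
  obtain ⟨g, hg⟩ := hcyc.exists_generator
  have h1 : Nat.card E = orderOf g := (orderOf_eq_card_of_forall_mem_zpowers hg).symm
  have h2 : g ^ q = 1 := by
    apply Subtype.ext
    simpa using hEe.2 g.1 g.2
  have h3 : orderOf g ∣ q := orderOf_dvd_of_pow_eq_one h2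
  have h4 := Nat.le_of_dvd hq.pos h3
  omega

/-- BG Theorem 9.6 from BG 9.2, 9.3, 9.5 and the existence of `SCN_3`. -/
theorem s1403_of {G : Type*} [Group G] [Finite G] (hodd : Odd (Nat.card G))
    (h1399 : ∀ L K : Subgroup G, InUniqueMaximal L → K ≤ Subgroup.centralizer (L : Set G) →
      ¬ RankLE 1 K → InUniqueMaximal K)
    (h1400 : ∀ (p : ℕ) [Fact p.Prime] (A B : Subgroup G), IsPGroup p A → IsMulCommutative A →
      ¬ PRankLE p 2 ↥A → InUniqueMaximal A → IsPGroup p B → ¬ IsCyclic B →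
      ¬ PRankLE p 2 ↥(Subgroup.centralizer (B : Set G)) → InUniqueMaximal B)
    (h1402 : ∀ (p : ℕ) [Fact p.Prime] (P : Sylow p G) (A : Subgroup G),
      IsSCN (P : Subgroup G) A → ¬ PRankLE p 2 ↥A → InUniqueMaximal A)
    (K : Subgroup G) (hK : K ≠ ⊤) (hK2 : ¬ RankLE 1 K)
    (hK3 : ¬ RankLE 2 K ∨ ¬ RankLE 2 (Subgroup.centralizer (K : Set G))) :
    InUniqueMaximal K := by
  -- Step 1: an elementary abelian `q`-subgroup `E` of order `> q ^ 2` in `K` or in `C_G(K)`
  have key : ∃ (q : ℕ) (E : Subgroup G), q.Prime ∧ IsElementaryAbelian q E ∧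
      q ^ 2 < Nat.card E ∧ (E ≤ K ∨ E ≤ Subgroup.centralizer (K : Set G)) := by
    rcases hK3 with h | h
    · unfold RankLE at h
      push Not at h
      obtain ⟨q, hq, hr⟩ := h
      obtain ⟨F, hFK, hFe, hFc⟩ := (not_pRankLE_subgroup_iff 2 K).mp hr
      exact ⟨q, F, hq, hFe, hFc, Or.inl hFK⟩
    · unfold RankLE at h
      push Not at h
      obtain ⟨q, hq, hr⟩ := h
      obtain ⟨F, hFK, hFe, hFc⟩ :=
        (not_pRankLE_subgroup_iff 2 (Subgroup.centralizer (K : Set G))).mp hr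
      exact ⟨q, F, hq, hFe, hFc, Or.inr hFK⟩
  obtain ⟨q, E, hq, hEe, hEc, hEK⟩ := key
  have : Fact q.Prime := ⟨hq⟩
  have hEp : IsPGroup q E := by
    intro g
    refine ⟨1, ?_⟩
    rw [pow_one]
    apply Subtype.ext
    simpa using hEe.2 g.1 g.2
  have hq2 : q ≠ 2 := by
    rintro rfl
    have h1 : 2 ∣ Nat.card E := by
      obtain ⟨n, hn⟩ := hEp.exists_card_eq
      have hn0 : n ≠ 0 := by
        rintro rfl
        rw [pow_zero] at hn
        omega
      rw [hn]
      exact dvd_pow_self 2 hn0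
    have h2 : 2 ∣ Nat.card G := h1.trans (Subgroup.card_subgroup_dvd_card E)
    exact (Nat.not_even_iff_odd.mpr hodd) (even_iff_two_dvd.mpr h2)
  obtain ⟨P, hEP⟩ := hEp.exists_le_sylow
  have hPp : IsPGroup q ↥(P : Subgroup G) := P.isPGroup'
  have hrP : ¬ PRankLE q 2 ↥(P : Subgroup G) :=
    (not_pRankLE_subgroup_iff 2 (P : Subgroup G)).mpr ⟨E, hEP, hEe, hEc⟩
  obtain ⟨F, hFe, hFc⟩ := (not_pRankLE_iff 2).mp hrP
  obtain ⟨U, hUn, hUe, hU2⟩ := exists_normal_elementaryAbelian_sq hPp F hFe.1 hFe.2 hFc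
  obtain ⟨A, hUA, hAn, hAc, hAr⟩ := Cfsg.Agent.S1452.result q hq2 hPp hrP U hUe hU2
  -- `A` is abelian
  have hAcomm : ∀ a ∈ A, ∀ b ∈ A, a * b = b * a := by
    intro a ha b hb
    have ha' : a ∈ Subgroup.centralizer (A : Set ↥(P : Subgroup G)) := by rw [hAc]; exact ha
    exact (Subgroup.mem_centralizer_iff.mp ha' b hb).symm
  have hAcommI : IsMulCommutative A :=
    ⟨⟨fun a b => Subtype.ext (hAcomm a.1 a.2 b.1 b.2)⟩⟩
  set A' : Subgroup G := A.map (P : Subgroup G).subtype with hA'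
  have hA'P : A' ≤ (P : Subgroup G) := Subgroup.map_subtype_le A
  have hSCN : IsSCN (P : Subgroup G) A' := by
    refine ⟨hA'P, ?_, ?_⟩
    · intro g hg
      rw [Subgroup.mem_normalizer_iff]
      intro h
      constructor
      · rintro ⟨a, ha, rfl⟩
        exact ⟨⟨g, hg⟩ * a * ⟨g, hg⟩⁻¹, hAn.conj_mem a ha ⟨g, hg⟩, by simp⟩
      · rintro ⟨b, hb, hbe⟩
        refine ⟨⟨g, hg⟩⁻¹ * b * ⟨g, hg⟩, ?_, ?_⟩
        · have := hAn.conj_mem b hb (⟨g, hg⟩⁻¹)
          simpa using this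
        · simp only [Subgroup.coe_subtype, Subgroup.coe_mul, Subgroup.coe_inv] at hbe ⊢
          rw [hbe]
          group
    · ext x
      constructor
      · rintro ⟨hxP, hxC⟩
        have hx' : (⟨x, hxP⟩ : ↥(P : Subgroup G)) ∈
            Subgroup.centralizer (A : Set ↥(P : Subgroup G)) := by
          rw [Subgroup.mem_centralizer_iff]
          intro a ha
          apply Subtype.ext
          have := Subgroup.mem_centralizer_iff.mp hxC a.1 ⟨a, ha, rfl⟩
          simpa using this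
        rw [hAc] at hx'
        exact ⟨⟨x, hxP⟩, hx', rfl⟩
      · rintro ⟨a, ha, rfl⟩
        refine ⟨a.2, ?_⟩
        show (P : Subgroup G).subtype a ∈ Subgroup.centralizer (A' : Set G)
        rw [Subgroup.mem_centralizer_iff]
        rintro _ ⟨b, hb, rfl⟩
        have := hAcomm b hb a ha
        simpa using congrArg Subtype.val this
  have hA'r : ¬ PRankLE q 2 ↥A' := by
    obtain ⟨F', hF'A, hF'e, hF'c⟩ := (not_pRankLE_subgroup_iff 2 A).mp hAr
    have hF'comm : IsMulCommutative F' := hF'e.1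
    refine (not_pRankLE_subgroup_iff 2 A').mpr
      ⟨F'.map (P : Subgroup G).subtype, Subgroup.map_mono hF'A,
        ⟨Subgroup.map_isMulCommutative F' _, ?_⟩, ?_⟩
    · rintro _ ⟨a, ha, rfl⟩
      rw [← map_pow, hF'e.2 a ha, map_one]
    · rw [Subgroup.card_map_of_injective (P : Subgroup G).subtype_injective]
      exact hF'c
  have hA'U : InUniqueMaximal A' := h1402 q P A' hSCN hA'r
  have hA'p : IsPGroup q A' := hPp.to_le hA'P
  have hA'c : IsMulCommutative A' := Subgroup.map_isMulCommutative A _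
  have hqq : q < q ^ 2 := by
    calc q = q ^ 1 := (pow_one q).symm
      _ < q ^ 2 := Nat.pow_lt_pow_right hq.one_lt (by norm_num)
  have hEnc : ¬ IsCyclic E := not_isCyclic_of_elemAb hq hEe (by omega)
  have hEcent : E ≤ Subgroup.centralizer (E : Set G) := by
    intro x hx
    rw [Subgroup.mem_centralizer_iff]
    intro h hh
    exact IsElementaryAbelian_comm hEe hh hx
  have hCE : ¬ PRankLE q 2 ↥(Subgroup.centralizer (E : Set G)) :=
    (not_pRankLE_subgroup_iff 2 _).mpr ⟨E, hEcent, hEe, hEc⟩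
  have hEU : InUniqueMaximal E := h1400 q A' E hA'p hA'c hA'r hA'U hEp hEnc hCE
  rcases hEK with h | h
  · exact inUniqueMaximal_of_le hEU h hK
  · exact h1399 E K hEU (Subgroup.le_centralizer_iff.mp h) hK2

end Cfsg.Agent.Lib.Helper96.BGUniq
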