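import Mathlib
import Cfsg.Agent.Lib.Helper96.Schmidt

/-!
Wielandt's theorem: subgroups whose orders involve only primes dividing the order of a nilpotent Hall subgroup
lie in a conjugate of that Hall subgroup. Uses the Schmidt library.
-/
set_option autoImplicit false
universe u
open scoped Pointwise

namespace Cfsg.Agent.Lib.Helper96

open Cfsg

/-- the index of the subgroup generated by the `p'`-elements is a power of `p` -/
theorem exists_relIndex_closure_coprime_eq_pow {G : Type u} [Group G] [Finite G] {p : ℕ} [Fact p.Prime]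
    (M : Subgroup G)
    (hn : M ≤ Subgroup.normalizer
      ((Subgroup.closure {x : G | x ∈ M ∧ (orderOf x).Coprime p} : Subgroup G) : Set G)) :
    ∃ a : ℕ, (Subgroup.closure {x : G | x ∈ M ∧ (orderOf x).Coprime p}).relIndex M = p ^ a := by
  set R : Subgroup G := Subgroup.closure {x : G | x ∈ M ∧ (orderOf x).Coprime p} with hR
  have hRM : R ≤ M := (Subgroup.closure_le _).mpr (fun x hx => hx.1)
  have hnorm : (R.subgroupOf M).Normal := (Subgroup.normal_subgroupOf_iff_le_normalizer hRM).mpr hn
  have hpg : IsPGroup p (M ⧸ R.subgroupOf M) := by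
    intro g
    induction g using QuotientGroup.induction_on with
    | H x =>
      refine ⟨(orderOf (x : G)).factorization p, ?_⟩
      rw [← QuotientGroup.mk_pow, QuotientGroup.eq_one_iff, Subgroup.mem_subgroupOf]
      apply Subgroup.subset_closure
      refine ⟨M.pow_mem x.2 _, ?_⟩
      rw [Subgroup.coe_pow, orderOf_pow_of_dvd (pow_ne_zero _ (Fact.out : p.Prime).ne_zero)
        (Nat.ordProj_dvd _ _)]
      exact (Nat.coprime_ordCompl Fact.out (orderOf_pos (x : G)).ne').symm
  obtain ⟨a, ha⟩ := hpg.exists_card_eq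
  exact ⟨a, by rw [Subgroup.relIndex, Subgroup.index_eq_card, ha]⟩

/-- Inductive step in Wielandt's theorem on nilpotent Hall subgroups. -/
theorem wielandt_step {G : Type u} [Group G] [Finite G] (H : Subgroup G)
    (hH : Group.IsNilpotent H) (hHall : (Nat.card H).Coprime H.index) {p : ℕ} [Fact p.Prime]
    (K M : Subgroup G) (hMK : M ≤ K) (hMn : K ≤ Subgroup.normalizer (M : Set G))
    (hidx : M.relIndex K = p) (hMH : M ≤ H) (hpH : p ∣ Nat.card H) :
    ∃ x : G, K ≤ MulAut.conj x • H := by
  classical
  -- the Sylow `p`-subgroup of `H`, a Sylow `p`-subgroup of `G`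
  let QH : Sylow p H := Classical.arbitrary _
  have hPHp : IsPGroup p ((QH : Subgroup H).map H.subtype) := QH.isPGroup'.map _
  have hPHidx : ¬ p ∣ ((QH : Subgroup H).map H.subtype).index := by
    rw [Subgroup.index_map_subtype]
    intro hdvd
    rcases (Nat.Prime.dvd_mul Fact.out).mp hdvd with h1 | h1
    · exact QH.not_dvd_index h1
    · have h3 := Nat.dvd_gcd hpH h1
      rw [Nat.Coprime.gcd_eq_one hHall] at h3
      exact (Fact.out : p.Prime).one_lt.ne' (Nat.dvd_one.mp h3)
  let PH : Sylow p G := hPHp.toSylow hPHidx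
  have hPH_le : (PH : Subgroup G) ≤ H := Subgroup.map_subtype_le _
  -- the subgroup generated by the `p'`-elements of `M`
  set R : Subgroup G := Subgroup.closure {x : G | x ∈ M ∧ (orderOf x).Coprime p} with hR
  have hRM : R ≤ M := (Subgroup.closure_le _).mpr (fun x hx => hx.1)
  have hRH : R ≤ H := hRM.trans hMH
  have hKR : K ≤ Subgroup.normalizer (R : Set G) := by
    intro k hk
    rw [Subgroup.mem_normalizer_iff_map_conj_eq, hR, MonoidHom.map_closure]
    congr 1
    ext y
    simp only [Set.mem_image, Set.mem_ofPred_eq]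
    constructor
    · rintro ⟨x, ⟨hxM, hxo⟩, rfl⟩
      refine ⟨(Subgroup.mem_set_normalizer_iff.mp (hMn hk) x).mp hxM, ?_⟩
      have h := (MulAut.conj k).orderOf_eq x
      rw [MulAut.conj_apply] at h
      show (orderOf (k * x * k⁻¹)).Coprime p
      rw [h]; exact hxo
    · rintro ⟨hyM, hyo⟩
      refine ⟨k⁻¹ * y * k, ⟨?_, ?_⟩, by simp [MulAut.conj_apply, mul_assoc]⟩
      · exact (Subgroup.mem_set_normalizer_iff''.mp (hMn hk) y).mp hyM
      · have := (MulAut.conj k⁻¹).orderOf_eq y
        simp only [MulAut.conj_apply, inv_inv] at this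
        rwa [this]
  have hPR : (PH : Subgroup G) ≤ Subgroup.centralizer (R : Set G) := by
    rw [Subgroup.le_centralizer_iff, hR, Subgroup.closure_le]
    rintro x ⟨hxM, hxo⟩
    rw [SetLike.mem_coe, Subgroup.mem_centralizer_iff]
    intro y hy
    have hyH := hPH_le hy
    have hxH := hMH hxM
    obtain ⟨k, hk⟩ := PH.isPGroup' ⟨y, hy⟩
    have h1 : orderOf y ∣ p ^ k := orderOf_dvd_of_pow_eq_one (by simpa using congrArg Subtype.val hk)
    have hc := Cfsg.Agent.Lib.Helper65.commute_of_coprime_orderOf (N := H) ⟨y, hyH⟩ ⟨x, hxH⟩ (by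
      rw [Subgroup.orderOf_mk, Subgroup.orderOf_mk]
      exact Nat.Coprime.coprime_dvd_left h1 (Nat.Coprime.pow_left k hxo.symm))
    exact congrArg Subtype.val hc.eq
  have hPN : (PH : Subgroup G) ≤ Subgroup.normalizer (R : Set G) :=
    hPR.trans (Subgroup.centralizer_le_normalizer _)
  -- a Sylow `p`-subgroup of `K`
  let SK : Sylow p K := Classical.arbitrary _
  have hKpK : (SK : Subgroup K).map K.subtype ≤ K := Subgroup.map_subtype_le _
  have hKpp : IsPGroup p ((SK : Subgroup K).map K.subtype) := SK.isPGroup'.map _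
  have hKpN : (SK : Subgroup K).map K.subtype ≤ Subgroup.normalizer (R : Set G) := hKpK.trans hKR
  obtain ⟨S, hS⟩ := (hKpp.comap_subtype (K := Subgroup.normalizer (R : Set G))).exists_le_sylow
  obtain ⟨n, hn⟩ := MulAction.exists_smul_eq (Subgroup.normalizer (R : Set G)) (PH.subtype hPN) S
  rw [Sylow.smul_subtype] at hn
  have hKpn : (SK : Subgroup K).map K.subtype ≤ MulAut.conj (n : G) • (PH : Subgroup G) := by
    intro x hx
    have hxS : (⟨x, hKpN hx⟩ : Subgroup.normalizer (R : Set G)) ∈ S :=
      hS (Subgroup.mem_subgroupOf.mpr hx)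
    rw [← hn] at hxS
    have hxS' : (⟨x, hKpN hx⟩ : Subgroup.normalizer (R : Set G)) ∈
      (((n • PH : Sylow p G).subtype (Sylow.smul_le hPN n) : Sylow p _) : Subgroup _) := hxS
    rw [Sylow.coe_subtype, Subgroup.mem_subgroupOf] at hxS'
    exact hxS'
  -- `K = R Kp`
  have hKRK : K ≤ R ⊔ (SK : Subgroup K).map K.subtype := by
    rw [← Subgroup.relIndex_eq_one]
    have hd1 : (R ⊔ (SK : Subgroup K).map K.subtype).relIndex K ∣
        ((SK : Subgroup K).map K.subtype).relIndex K :=
      Subgroup.relIndex_dvd_of_le_left K le_sup_right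
    have hd2 : (R ⊔ (SK : Subgroup K).map K.subtype).relIndex K ∣ R.relIndex K :=
      Subgroup.relIndex_dvd_of_le_left K le_sup_left
    have h1 : ((SK : Subgroup K).map K.subtype).relIndex K = (SK : Subgroup K).index := by
      rw [Subgroup.relIndex, Subgroup.subgroupOf,
        Subgroup.comap_map_eq_self_of_injective K.subtype_injective]
    obtain ⟨a, ha⟩ := exists_relIndex_closure_coprime_eq_pow M (hMK.trans hKR)
    have h2 : R.relIndex K = p ^ (a + 1) := by
      rw [← Subgroup.relIndex_mul_relIndex R M K hRM hMK, ha, hidx, pow_succ]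
    rw [h1] at hd1
    rw [h2] at hd2
    obtain ⟨j, _, hj⟩ := (Nat.dvd_prime_pow Fact.out).mp hd2
    rcases Nat.eq_zero_or_pos j with rfl | hjpos
    · simpa using hj
    · exfalso
      apply SK.not_dvd_index
      refine dvd_trans ?_ hd1
      rw [hj]
      exact dvd_pow_self p hjpos.ne'
  refine ⟨n, hKRK.trans (sup_le ?_ ?_)⟩
  · have hnR : Subgroup.map (MulAut.conj (n : G)).toMonoidHom R = R :=
      Subgroup.mem_normalizer_iff_map_conj_eq.mp n.2
    intro r hr
    rw [← hnR] at hr
    obtain ⟨r', hr', rfl⟩ := hr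
    exact Subgroup.smul_mem_pointwise_smul _ _ _ (hRH hr')
  · exact hKpn.trans (Subgroup.pointwise_smul_le_pointwise_smul_iff.mpr hPH_le)

/-- strict monotonicity of the order of subgroups of a finite group -/
theorem card_lt_card_of_lt {G : Type u} [Group G] [Finite G] {H K : Subgroup G} (h : H < K) :
    Nat.card H < Nat.card K := by
  have h1 := Subgroup.relIndex_mul_relIndex ⊥ H K bot_le h.le
  rw [Subgroup.relIndex_bot_left, Subgroup.relIndex_bot_left] at h1
  have h2 : H.relIndex K ≠ 1 := fun h3 => h.not_ge (Subgroup.relIndex_eq_one.mp h3)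
  have h3 : H.relIndex K ≠ 0 := by
    rw [Subgroup.relIndex]; exact Subgroup.index_ne_zero_of_finite
  have h4 : 0 < Nat.card H := Nat.card_pos
  have h5 : 2 ≤ H.relIndex K := by omega
  nlinarith

/-- conjugates of a nilpotent subgroup are nilpotent -/
theorem isNilpotent_conj_smul {G : Type u} [Group G] (H : Subgroup G) (hH : Group.IsNilpotent H)
    (x : G) : Group.IsNilpotent (MulAut.conj x • H : Subgroup G) :=
  (Group.isNilpotent_congr (Subgroup.equivSMul (MulAut.conj x) H)).mp hH

/-- **Wielandt**: if `H` is a nilpotent Hall subgroup of `G`, every subgroup whose order involves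
only primes dividing `|H|` lies in a conjugate of `H`. -/
theorem wielandt_nilpotent_hall {G : Type u} [Group G] [Finite G] (H : Subgroup G)
    (hH : Group.IsNilpotent H) (hHall : (Nat.card H).Coprime H.index) :
    ∀ n : ℕ, ∀ K : Subgroup G, Nat.card K = n →
      (∀ p : ℕ, p.Prime → p ∣ Nat.card K → p ∣ Nat.card H) → ∃ x : G, K ≤ MulAut.conj x • H := by
  intro n
  induction n using Nat.strong_induction_on with
  | _ n ih =>
  intro K hKn hK
  by_cases hKbot : K = ⊥
  · exact ⟨1, by rw [hKbot]; exact bot_le⟩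
  -- proper subgroups of `K` are nilpotent
  have hprop : ∀ K₁ : Subgroup G, K₁ < K → ∃ x : G, K₁ ≤ MulAut.conj x • H := by
    intro K₁ hlt
    have hcard : Nat.card K₁ < n := by
      rw [← hKn]
      exact card_lt_card_of_lt hlt
    exact ih _ hcard K₁ rfl (fun p hp hpd => hK p hp (hpd.trans (Subgroup.card_dvd_of_le hlt.le)))
  have hsub : ∀ L : Subgroup K, L ≠ ⊤ → Group.IsNilpotent L := by
    intro L hL
    have hlt : L.map K.subtype < K := by
      refine lt_of_le_of_ne (Subgroup.map_subtype_le L) ?_
      intro h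
      apply hL
      rw [← Subgroup.comap_map_eq_self_of_injective K.subtype_injective L, h]
      exact Subgroup.subgroupOf_self K
    obtain ⟨x, hx⟩ := hprop _ hlt
    have h1 : Group.IsNilpotent (L.map K.subtype) :=
      Cfsg.Agent.Lib.Helper65.isNilpotent_of_le hx (isNilpotent_conj_smul H hH x)
    exact (Group.isNilpotent_congr (L.equivMapOfInjective K.subtype K.subtype_injective)).mpr h1
  have hsolv : Group.IsSolvable K := isSolvable_of_forall_proper_isNilpotent hsub
  have hnt : Nontrivial K := (Subgroup.nontrivial_iff_ne_bot K).mpr hKbot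
  obtain ⟨M', hM'n, hM'idx⟩ := exists_normal_prime_index (G := K)
  have hp : Fact (M'.index).Prime := ⟨hM'idx⟩
  have hMK : M'.map K.subtype ≤ K := Subgroup.map_subtype_le M'
  have hsubof : (M'.map K.subtype).subgroupOf K = M' :=
    Subgroup.comap_map_eq_self_of_injective K.subtype_injective M'
  have hrel : (M'.map K.subtype).relIndex K = M'.index := by
    rw [Subgroup.relIndex, hsubof]
  have hMn : K ≤ Subgroup.normalizer ((M'.map K.subtype : Subgroup G) : Set G) := by
    rw [← Subgroup.normal_subgroupOf_iff_le_normalizer hMK, hsubof]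
    exact hM'n
  have hMlt : M'.map K.subtype < K := by
    refine lt_of_le_of_ne hMK ?_
    intro h
    have h1 : (M'.map K.subtype).relIndex K = 1 := by rw [Subgroup.relIndex_eq_one, h]
    rw [hrel] at h1
    exact hM'idx.one_lt.ne' h1
  obtain ⟨x, hx⟩ := hprop _ hMlt
  have hpK : M'.index ∣ Nat.card K := Subgroup.index_dvd_card M'
  have hpH : M'.index ∣ Nat.card H := hK _ hM'idx hpK
  have hcardx : Nat.card (MulAut.conj x • H : Subgroup G) = Nat.card H :=
    Nat.card_congr (Subgroup.equivSMul (MulAut.conj x) H).toEquiv.symm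
  have hidxx : (MulAut.conj x • H : Subgroup G).index = H.index :=
    Subgroup.index_map_of_bijective (MulAction.bijective (MulAut.conj x)) H
  obtain ⟨y, hy⟩ := wielandt_step (MulAut.conj x • H) (isNilpotent_conj_smul H hH x)
    (by rw [hcardx, hidxx]; exact hHall) K (M'.map K.subtype) hMK hMn hrel hx (by rw [hcardx]; exact hpH)
  refine ⟨y * x, ?_⟩
  rw [map_mul, mul_smul]
  exact hy

end Cfsg.Agent.Lib.Helper96
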