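import Mathlib
import Cfsg.Agent.Lib.Helper96.WielandtHall
import Cfsg.Agent.Lib.Helper22.Solvable
import Cfsg.Agent.Lib.Helper2.FusionComplement
import Cfsg.Agent.S0023
import Cfsg.Prelude.Def_HallClasses

/-!
Hall's theorem: a Hall subgroup which is the direct product of a nilpotent Hall `σ`-subgroup and a Hall
`τ`-subgroup, in a group whose `τ`-subgroups all lie in conjugates of the latter, contains a conjugate of
every `σ ∪ τ`-subgroup.
-/
set_option autoImplicit false
universe u
open scoped Pointwise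

namespace Cfsg.Agent.Lib.Helper96

open Cfsg

/-- `N/C` argument: an element normalizing `R` whose order is coprime to the index of a subgroup
centralizing `R` centralizes `R`. -/
theorem mem_centralizer_of_coprime_index {G : Type u} [Group G] [Finite G] (R K : Subgroup G)
    (hK : K ≤ Subgroup.centralizer (R : Set G)) {y : G}
    (hy : y ∈ Subgroup.normalizer (R : Set G)) (hcop : (orderOf y).Coprime K.index) :
    y ∈ Subgroup.centralizer (R : Set G) := by
  set C := Subgroup.centralizer (R : Set G) with hC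
  set N := Subgroup.normalizer (R : Set G) with hN
  have hCN : C ≤ N := Subgroup.centralizer_le_normalizer _
  have hnorm : (C.subgroupOf N).Normal := Subgroup.normal_subgroupOf_centralizer_normalizer _
  have h1 : (⟨y, hy⟩ : N) ^ (C.subgroupOf N).index ∈ C.subgroupOf N := Subgroup.pow_index_mem _ _
  have h2 : y ^ C.relIndex N ∈ C := by
    rw [Subgroup.mem_subgroupOf] at h1
    simpa [Subgroup.relIndex] using h1
  have h3 : C.relIndex N ∣ K.index :=
    (Dvd.intro _ (Subgroup.relIndex_mul_index hCN)).trans (Subgroup.index_dvd_of_le hK)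
  have h4 : (C.relIndex N).Coprime (orderOf y) := (Nat.Coprime.coprime_dvd_right h3 hcop).symm
  obtain ⟨m, hm⟩ := exists_pow_eq_self_of_coprime h4
  rw [← hm]
  exact C.pow_mem h2 m

/-- If `g ∉ S` then some power of `g` of prime power order is not in `S`. -/
theorem exists_pow_prime_pow_not_mem {G : Type u} [Group G] [Finite G] (S : Subgroup G) :
    ∀ n : ℕ, ∀ g : G, orderOf g = n → g ∉ S →
      ∃ r k j : ℕ, r.Prime ∧ g ^ k ∉ S ∧ orderOf (g ^ k) = r ^ j := by
  intro n
  induction n using Nat.strong_induction_on with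
  | _ n ih =>
  intro g hgn hgS
  have hn1 : n ≠ 1 := by
    intro h
    rw [h, orderOf_eq_one_iff] at hgn
    exact hgS (hgn ▸ S.one_mem)
  have hnpos : 0 < n := hgn ▸ orderOf_pos g
  obtain ⟨r, hr, hrn⟩ := Nat.exists_prime_and_dvd hn1
  -- n = r^j * m
  set j := n.factorization r with hj
  set m := n / r ^ j with hm
  have hnm : r ^ j * m = n := Nat.ordProj_mul_ordCompl_eq_self n r
  have hcop : (r ^ j).Coprime m := (Nat.coprime_ordCompl hr hnpos.ne').pow_left j
  by_cases hgm : g ^ m ∈ S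
  · -- then g ^ (r^j) ∉ S
    have hgr : g ^ (r ^ j) ∉ S := by
      intro hgr
      apply hgS
      have h1 : g ^ ((Nat.gcd (r ^ j) m : ℕ) : ℤ) ∈ S := by
        rw [Nat.gcd_eq_gcd_ab, zpow_add, zpow_mul, zpow_mul, zpow_natCast, zpow_natCast]
        exact S.mul_mem (S.zpow_mem hgr _) (S.zpow_mem hgm _)
      rw [hcop] at h1
      simpa using h1
    have hord : orderOf (g ^ (r ^ j)) = m := by
      rw [orderOf_pow_of_dvd (pow_ne_zero _ hr.ne_zero) (by rw [hgn]; exact Dvd.intro _ hnm), hgn, hm]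
    have hmlt : m < n := by
      rw [← hnm]
      have hj1 : 1 ≤ j := (hr.factorization_pos_of_dvd hnpos.ne' hrn)
      have : 2 ≤ r ^ j := le_trans hr.two_le (Nat.le_self_pow (by omega) r)
      have hmpos : 0 < m := Nat.pos_of_ne_zero (by
        intro h0; rw [h0, Nat.mul_zero] at hnm; omega)
      nlinarith
    obtain ⟨r', k', j', hr', hk', hj'⟩ := ih m hmlt _ hord hgr
    refine ⟨r', r ^ j * k', j', hr', ?_, ?_⟩
    · rwa [pow_mul]
    · rwa [pow_mul]
  · refine ⟨r, m, j, hr, hgm, ?_⟩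
    have hm0 : m ≠ 0 := by
      intro h0; rw [h0, Nat.mul_zero] at hnm; omega
    rw [orderOf_pow_of_dvd hm0 (by rw [hgn]; exact Dvd.intro_left _ hnm), hgn, ← hnm,
      Nat.mul_div_cancel _ (Nat.pos_of_ne_zero hm0)]

theorem index_conj_smul {G : Type u} [Group G] (g : G) (H : Subgroup G) :
    (MulAut.conj g • H).index = H.index :=
  Subgroup.index_map_equiv (H := H) (MulAut.conj g)

theorem card_conj_smul {G : Type u} [Group G] (g : G) (H : Subgroup G) :
    Nat.card (MulAut.conj g • H : Subgroup G) = Nat.card H :=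
  Nat.card_congr (Subgroup.equivSMul (MulAut.conj g) H).toEquiv.symm

theorem mem_conj_smul_iff {G : Type u} [Group G] (g : G) (H : Subgroup G) (x : G) :
    x ∈ MulAut.conj g • H ↔ g⁻¹ * x * g ∈ H := by
  rw [Subgroup.mem_pointwise_smul_iff_inv_smul_mem]
  simp [MulAut.smul_def]

/-- conjugates of elementwise commuting subgroups commute elementwise -/
theorem conj_smul_le_centralizer {G : Type u} [Group G] (g : G) {A B : Subgroup G}
    (h : ∀ a ∈ A, ∀ b ∈ B, a * b = b * a) :
    MulAut.conj g • A ≤ Subgroup.centralizer ((MulAut.conj g • B : Subgroup G) : Set G) := by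
  intro x hx
  rw [Subgroup.mem_centralizer_iff]
  intro y hy
  rw [SetLike.mem_coe, mem_conj_smul_iff] at hy
  rw [mem_conj_smul_iff] at hx
  have h1 := h _ hx _ hy
  have h2 : g * ((g⁻¹ * x * g) * (g⁻¹ * y * g)) * g⁻¹ = g * ((g⁻¹ * y * g) * (g⁻¹ * x * g)) * g⁻¹ := by
    rw [h1]
  simpa [mul_assoc] using h2.symm

/-- The hypotheses of Hall's theorem. -/
structure HallPair {G : Type u} [Group G] (σ τ : Set ℕ) (Hs Ht : Subgroup G) : Prop where
  comm : ∀ a ∈ Hs, ∀ b ∈ Ht, a * b = b * a
  nil : Group.IsNilpotent Hs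
  sσ : IsPiSubgroup σ Hs
  tτ : IsPiSubgroup τ Ht
  hallσ : ∀ p : ℕ, p.Prime → p ∈ σ → ¬ p ∣ Hs.index
  hallτ : ∀ p : ℕ, p.Prime → p ∈ τ → ¬ p ∣ Ht.index
  disj : Disjoint σ τ
  dτ : ∀ T : Subgroup G, IsPiSubgroup τ T → ∃ g : G, T ≤ MulAut.conj g • Ht

namespace HallPair

variable {G : Type u} [Group G] [Finite G] {σ τ : Set ℕ} {Hs Ht : Subgroup G}

theorem not_mem_tau (h : HallPair σ τ Hs Ht) {p : ℕ} (hp : p ∈ σ) : p ∉ τ :=
  fun hq => (Set.disjoint_left.mp h.disj) hp hq

theorem dvd_card_Hs (h : HallPair σ τ Hs Ht) {p : ℕ} (hp : p.Prime) (hpσ : p ∈ σ)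
    (hdvd : p ∣ Nat.card G) : p ∣ Nat.card Hs := by
  rw [← Subgroup.card_mul_index Hs] at hdvd
  rcases (Nat.Prime.dvd_mul hp).mp hdvd with h1 | h1
  · exact h1
  · exact absurd h1 (h.hallσ p hp hpσ)

theorem coprime_card_index (h : HallPair σ τ Hs Ht) : (Nat.card Hs).Coprime Hs.index := by
  by_contra hcon
  obtain ⟨p, hp, h1, h2⟩ := Nat.Prime.not_coprime_iff_dvd.mp hcon
  exact h.hallσ p hp (h.sσ p hp h1) h2

/-- every `σ`-subgroup lies in a conjugate of `Hs` (Wielandt) -/
theorem sigma_le (h : HallPair σ τ Hs Ht) (K : Subgroup G) (hK : IsPiSubgroup σ K) :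
    ∃ g : G, K ≤ MulAut.conj g • Hs := by
  refine wielandt_nilpotent_hall Hs h.nil h.coprime_card_index _ K rfl ?_
  intro p hp hpK
  exact h.dvd_card_Hs hp (hK p hp hpK) (hpK.trans (Subgroup.card_subgroup_dvd_card K))

/-- every `σ`-subgroup is nilpotent -/
theorem sigma_nilpotent (h : HallPair σ τ Hs Ht) (K : Subgroup G) (hK : IsPiSubgroup σ K) :
    Group.IsNilpotent K := by
  obtain ⟨g, hg⟩ := h.sigma_le K hK
  exact Cfsg.Agent.Lib.Helper65.isNilpotent_of_le hg (isNilpotent_conj_smul Hs h.nil g)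

/-- Frobenius' condition: a `π`-element of order prime to `p ∈ σ` normalizing a `p`-subgroup
centralizes it. -/
theorem mem_centralizer_of_mem_normalizer (h : HallPair σ τ Hs Ht) {p : ℕ} [Fact p.Prime]
    (hpσ : p ∈ σ) (Q : Subgroup G) (hQ : IsPGroup p Q) (y : G)
    (hyQ : y ∈ Subgroup.normalizer (Q : Set G)) (hyp : (orderOf y).Coprime p)
    (hyπ : ∀ r : ℕ, r.Prime → r ∣ orderOf y → r ∈ σ ∪ τ) :
    y ∈ Subgroup.centralizer (Q : Set G) := by
  by_contra hcon
  obtain ⟨r, k, j, hr, hz, hzord⟩ :=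
    exists_pow_prime_pow_not_mem (Subgroup.centralizer (Q : Set G)) _ y rfl hcon
  have hrf : Fact r.Prime := ⟨hr⟩
  set z := y ^ k with hzdef
  have hzN : z ∈ Subgroup.normalizer (Q : Set G) := Subgroup.pow_mem _ hyQ k
  have hj : j ≠ 0 := by
    intro h0
    rw [h0, pow_zero, orderOf_eq_one_iff] at hzord
    exact hz (hzord ▸ Subgroup.one_mem _)
  have hrz : r ∣ orderOf z := by rw [hzord]; exact dvd_pow_self r hj
  have hry : r ∣ orderOf y := hrz.trans (orderOf_pow_dvd k)
  have hrp : r ≠ p := by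
    intro hrp
    rw [hrp] at hry
    have := Nat.dvd_gcd hry (dvd_refl p)
    rw [Nat.Coprime.gcd_eq_one hyp] at this
    exact (Fact.out : p.Prime).one_lt.ne' (Nat.dvd_one.mp this)
  -- `Q` is a `σ`-group
  have hQσ : IsPiSubgroup σ Q := by
    intro q hq hqQ
    obtain ⟨n, hn⟩ := hQ.exists_card_eq
    rw [hn] at hqQ
    have := (Nat.prime_dvd_prime_iff_eq hq Fact.out).mp (hq.dvd_of_dvd_pow hqQ)
    rw [this]; exact hpσ
  rcases hyπ r hr hry with hrσ | hrτ
  · -- `Q ⊔ ⟨z⟩` is a `σ`-group, hence nilpotent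
    have hZQ : Subgroup.zpowers z ≤ Subgroup.normalizer (Q : Set G) := by
      rw [Subgroup.zpowers_le]; exact hzN
    have hcard := Cfsg.Agent.Lib.Helper22.card_sup_dvd_mul_of_le_normalizer hZQ
    have hKσ : IsPiSubgroup σ (Q ⊔ Subgroup.zpowers z) := by
      intro q hq hqK
      have h1 := hqK.trans hcard
      rcases (Nat.Prime.dvd_mul hq).mp h1 with h2 | h2
      · exact hQσ q hq h2
      · rw [Nat.card_zpowers, hzord] at h2
        have := (Nat.prime_dvd_prime_iff_eq hq hr).mp (hq.dvd_of_dvd_pow h2)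
        rw [this]; exact hrσ
    have hnil := h.sigma_nilpotent _ hKσ
    have hZr : IsPGroup r (Subgroup.zpowers z) := by
      rw [IsPGroup.iff_card, Nat.card_zpowers, hzord]
      exact ⟨j, rfl⟩
    apply hz
    rw [Subgroup.mem_centralizer_iff]
    intro x hx
    exact commute_of_isNilpotent_sup hrp.symm hQ hZr hnil hx (Subgroup.mem_zpowers z)
  · -- `N/C` argument
    obtain ⟨u, hu⟩ := h.sigma_le Q hQσ
    have hcent : MulAut.conj u • Ht ≤ Subgroup.centralizer (Q : Set G) := by
      have h1 := conj_smul_le_centralizer u (A := Ht) (B := Hs)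
        (fun a ha b hb => (h.comm b hb a ha).symm)
      exact h1.trans (Subgroup.centralizer_le hu)
    apply hz
    refine mem_centralizer_of_coprime_index Q _ hcent hzN ?_
    rw [index_conj_smul, hzord]
    apply Nat.Coprime.pow_left
    rw [Nat.Prime.coprime_iff_not_dvd hr]
    exact h.hallτ r hr hrτ

/-- Frobenius' criterion holds in every `π`-subgroup for the primes of `σ`. -/
theorem coprimeCentralizes (h : HallPair σ τ Hs Ht) (L : Subgroup G)
    (hL : IsPiSubgroup (σ ∪ τ) L) {p : ℕ} [Fact p.Prime] (hpσ : p ∈ σ) :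
    Cfsg.Agent.Lib.Helper2.CoprimeCentralizes p L := by
  intro Q hQ g hg hcop
  have hQ' : IsPGroup p (Q.map L.subtype) := hQ.map _
  have hgN : (g : G) ∈ Subgroup.normalizer ((Q.map L.subtype : Subgroup G) : Set G) :=
    Subgroup.le_normalizer_map L.subtype (Subgroup.mem_map_of_mem L.subtype hg)
  have key := h.mem_centralizer_of_mem_normalizer hpσ (Q.map L.subtype) hQ' (g : G) hgN
    (by rwa [Subgroup.orderOf_coe]) (by
      intro r hr hrg
      rw [Subgroup.orderOf_coe] at hrg
      exact hL r hr (hrg.trans (orderOf_dvd_natCard g)))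
  rw [Subgroup.mem_centralizer_iff] at key ⊢
  intro x hx
  apply Subtype.ext
  have := key (x : G) (Subgroup.mem_map_of_mem L.subtype hx)
  simpa using this

end HallPair

/-- A finite group with normal `p`-complements for all primes `p ∈ σ` has a normal Hall `σ'`-subgroup. -/
theorem exists_normal_hall_of_hasNormalPComplement {X : Type u} [Group X] [Finite X] (σ : Set ℕ)
    (h : ∀ p : ℕ, p.Prime → p ∈ σ → HasNormalPComplement p X) :
    ∃ T : Subgroup X, T.Normal ∧ (∀ p : ℕ, p.Prime → p ∣ Nat.card T → p ∉ σ) ∧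
      (∀ p : ℕ, p.Prime → p ∣ T.index → p ∈ σ) := by
  classical
  choose P N hNn hNc using h
  refine ⟨⨅ (p : ℕ) (hp : p.Prime) (hσ : p ∈ σ), N p hp hσ, ?_, ?_, ?_⟩
  · exact Subgroup.normal_iInf_normal fun p => Subgroup.normal_iInf_normal fun hp =>
      Subgroup.normal_iInf_normal fun hσ => hNn p hp hσ
  · intro p hp hpT hσ
    have hpf : Fact p.Prime := ⟨hp⟩
    have hle : (⨅ (p : ℕ) (hp : p.Prime) (hσ : p ∈ σ), N p hp hσ) ≤ N p hp hσ :=
      iInf_le_of_le p (iInf_le_of_le hp (iInf_le _ hσ))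
    have h1 : p ∣ Nat.card (N p hp hσ) := hpT.trans (Subgroup.card_dvd_of_le hle)
    rw [← (hNc p hp hσ).index_eq_card] at h1
    exact (P p hp hσ).not_dvd_index h1
  · intro r hr hrT
    by_contra hrσ
    have hrf : Fact r.Prime := ⟨hr⟩
    obtain ⟨R⟩ : Nonempty (Sylow r X) := inferInstance
    have hRle : (R : Subgroup X) ≤ ⨅ (p : ℕ) (hp : p.Prime) (hσ : p ∈ σ), N p hp hσ := by
      refine le_iInf fun p => le_iInf fun hp => le_iInf fun hσ => ?_
      intro x hx
      have hpf : Fact p.Prime := ⟨hp⟩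
      have hn := hNn p hp hσ
      have h1 : x ^ (N p hp hσ).index ∈ N p hp hσ := Subgroup.pow_index_mem _ x
      rw [(hNc p hp hσ).symm.index_eq_card] at h1
      obtain ⟨k, hk⟩ := (P p hp hσ).isPGroup'.exists_card_eq
      rw [hk] at h1
      obtain ⟨l, hl⟩ := (IsPGroup.iff_orderOf.mp R.isPGroup') ⟨x, hx⟩
      have hox : orderOf x = r ^ l := by rw [← Subgroup.orderOf_mk x hx, hl]
      have hpr : p ≠ r := fun hpr => hrσ (hpr ▸ hσ)
      have hcop : (p ^ k).Coprime (orderOf x) := by
        rw [hox]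
        exact Nat.Coprime.pow k l ((Nat.coprime_primes hp hr).mpr hpr)
      obtain ⟨m, hm⟩ := exists_pow_eq_self_of_coprime hcop
      rw [← hm]
      exact Subgroup.pow_mem _ h1 m
    exact R.not_dvd_index (hrT.trans (Subgroup.index_dvd_of_le hRle))

namespace HallPair

variable {G : Type u} [Group G] [Finite G] {σ τ : Set ℕ} {Hs Ht : Subgroup G}

/-- a `σ`-subgroup normalizing a `τ`-subgroup centralizes it -/
theorem le_centralizer_of_le_normalizer (h : HallPair σ τ Hs Ht) (S' T' : Subgroup G)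
    (hS : IsPiSubgroup σ S') (hT : IsPiSubgroup τ T')
    (hST : S' ≤ Subgroup.normalizer (T' : Set G)) :
    T' ≤ Subgroup.centralizer (S' : Set G) := by
  have hSnil : Group.IsNilpotent S' := h.sigma_nilpotent S' hS
  have hSsolv : Group.IsSolvable S' := inferInstance
  have hcop : (Nat.card S').Coprime (Nat.card T') := by
    by_contra hcon
    obtain ⟨p, hp, h1, h2⟩ := Nat.Prime.not_coprime_iff_dvd.mp hcon
    exact h.not_mem_tau (hS p hp h1) (hT p hp h2)
  -- the centralizer of `S'` in `T'` contains a Sylow `r`-subgroup of `T'` for every `r`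
  set K : Subgroup T' := (Subgroup.centralizer (S' : Set G)).subgroupOf T' with hK
  have hidx : K.index = 1 := by
    rw [Nat.eq_one_iff_not_exists_prime_dvd]
    intro r hr hrK
    have hrf : Fact r.Prime := ⟨hr⟩
    obtain ⟨R, hR⟩ := Cfsg.Agent.S0023.result S' T' hST hcop (Or.inl hSsolv) r
    set R' : Subgroup G := (R : Subgroup T').map T'.subtype with hR'
    have hR'T : R' ≤ T' := Subgroup.map_subtype_le _
    have hR'τ : IsPiSubgroup τ R' := fun q hq hqR => hT q hq (hqR.trans (Subgroup.card_dvd_of_le hR'T))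
    obtain ⟨v, hv⟩ := h.dτ R' hR'τ
    have hcent : MulAut.conj v • Hs ≤ Subgroup.centralizer (R' : Set G) :=
      (conj_smul_le_centralizer v h.comm).trans (Subgroup.centralizer_le hv)
    have hSR : S' ≤ Subgroup.centralizer (R' : Set G) := by
      intro y hy
      refine mem_centralizer_of_coprime_index R' _ hcent (hR hy) ?_
      rw [index_conj_smul]
      by_contra hcon
      obtain ⟨q, hq, h1, h2⟩ := Nat.Prime.not_coprime_iff_dvd.mp hcon
      have h3 : q ∣ Nat.card S' := by
        have := orderOf_dvd_natCard (⟨y, hy⟩ : S')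
        rw [Subgroup.orderOf_mk] at this
        exact h1.trans this
      exact h.hallσ q hq (hS q hq h3) h2
    have hRK : (R : Subgroup T') ≤ K := by
      intro x hx
      rw [hK, Subgroup.mem_subgroupOf]
      exact (Subgroup.le_centralizer_iff.mp hSR) (Subgroup.mem_map_of_mem T'.subtype hx)
    exact R.not_dvd_index (hrK.trans (Subgroup.index_dvd_of_le hRK))
  rw [Subgroup.index_eq_one, hK, Subgroup.subgroupOf_eq_top] at hidx
  exact hidx

/-- the product of a `τ`-subgroup and a `σ`-subgroup normalizing it lies in a conjugate of `Hs ⊔ Ht` -/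
theorem sup_le_conj (h : HallPair σ τ Hs Ht) (S' T' : Subgroup G)
    (hS : IsPiSubgroup σ S') (hT : IsPiSubgroup τ T')
    (hST : S' ≤ Subgroup.normalizer (T' : Set G)) :
    ∃ g : G, T' ⊔ S' ≤ MulAut.conj g • (Hs ⊔ Ht) := by
  have hTS := h.le_centralizer_of_le_normalizer S' T' hS hT hST
  obtain ⟨g, hg⟩ := h.dτ T' hT
  set C : Subgroup G := Subgroup.centralizer (T' : Set G) with hC
  have hSC : S' ≤ C := Subgroup.le_centralizer_iff.mp hTS
  have hHC : MulAut.conj g • Hs ≤ C :=
    (conj_smul_le_centralizer g h.comm).trans (Subgroup.centralizer_le hg)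
  -- Wielandt inside `C`
  set H₀ : Subgroup C := (MulAut.conj g • Hs).subgroupOf C with hH₀
  set K₀ : Subgroup C := S'.subgroupOf C with hK₀
  have hH₀nil : Group.IsNilpotent H₀ :=
    (Group.isNilpotent_congr (Subgroup.subgroupOfEquivOfLe hHC)).mpr (isNilpotent_conj_smul Hs h.nil g)
  have hH₀card : Nat.card H₀ = Nat.card Hs := by
    rw [hH₀, Nat.card_congr (Subgroup.subgroupOfEquivOfLe hHC).toEquiv, card_conj_smul]
  have hK₀card : Nat.card K₀ = Nat.card S' := by
    rw [hK₀, Nat.card_congr (Subgroup.subgroupOfEquivOfLe hSC).toEquiv]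
  have hH₀idx : H₀.index ∣ Hs.index := by
    have h1 : H₀.index = (MulAut.conj g • Hs).relIndex C := rfl
    rw [h1, ← index_conj_smul g Hs]
    exact Subgroup.relIndex_dvd_index_of_le hHC
  have hHall : (Nat.card H₀).Coprime H₀.index := by
    rw [hH₀card]
    exact Nat.Coprime.coprime_dvd_right hH₀idx h.coprime_card_index
  obtain ⟨x, hx⟩ := wielandt_nilpotent_hall H₀ hH₀nil hHall _ K₀ rfl (by
    intro p hp hpK
    rw [hK₀card] at hpK
    rw [hH₀card]
    exact h.dvd_card_Hs hp (hS p hp hpK) (hpK.trans (Subgroup.card_subgroup_dvd_card S')))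
  refine ⟨(x : G) * g, sup_le ?_ ?_⟩
  · -- `T'`
    intro t ht
    rw [mem_conj_smul_iff]
    apply Subgroup.mem_sup_right
    have h1 := (mem_conj_smul_iff g Ht t).mp (hg ht)
    have h2 : (x : G)⁻¹ * t * x = t := by
      have := (Subgroup.mem_centralizer_iff.mp x.2) t ht
      rw [mul_assoc, this, ← mul_assoc, inv_mul_cancel, one_mul]
    have h3 : ((x : G) * g)⁻¹ * t * ((x : G) * g) = g⁻¹ * ((x : G)⁻¹ * t * x) * g := by group
    rw [h3, h2]
    exact h1
  · -- `S'`
    intro s hs
    rw [mem_conj_smul_iff]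
    apply Subgroup.mem_sup_left
    have h1 : (⟨s, hSC hs⟩ : C) ∈ MulAut.conj x • H₀ := hx (by rw [hK₀, Subgroup.mem_subgroupOf]; exact hs)
    rw [mem_conj_smul_iff, hH₀, Subgroup.mem_subgroupOf] at h1
    have h2 : (x : G)⁻¹ * s * x ∈ MulAut.conj g • Hs := by simpa using h1
    rw [mem_conj_smul_iff] at h2
    have h3 : ((x : G) * g)⁻¹ * s * ((x : G) * g) = g⁻¹ * ((x : G)⁻¹ * s * x) * g := by group
    rw [h3]
    exact h2

/-- **Hall**: every `σ ∪ τ`-subgroup lies in a conjugate of `Hs ⊔ Ht`. -/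
theorem exists_le_conj (h : HallPair σ τ Hs Ht) (L : Subgroup G)
    (hL : IsPiSubgroup (σ ∪ τ) L) : ∃ g : G, L ≤ MulAut.conj g • (Hs ⊔ Ht) := by
  have hnpc : ∀ p : ℕ, p.Prime → p ∈ σ → HasNormalPComplement p L := by
    intro p hp hσ
    have hpf : Fact p.Prime := ⟨hp⟩
    exact Cfsg.Agent.Lib.Helper2.hasNormalPComplement_of_coprimeCentralizes
      (h.coprimeCentralizes L hL hσ)
  obtain ⟨T, hTn, hT1, hT2⟩ := exists_normal_hall_of_hasNormalPComplement σ hnpc
  have hcop : (Nat.card T).Coprime T.index := by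
    by_contra hcon
    obtain ⟨p, hp, h1, h2⟩ := Nat.Prime.not_coprime_iff_dvd.mp hcon
    exact hT1 p hp h1 (hT2 p hp h2)
  obtain ⟨S, hS⟩ := Subgroup.exists_right_complement'_of_coprime hcop
  set T' : Subgroup G := T.map L.subtype with hT'
  set S' : Subgroup G := S.map L.subtype with hS'
  have hT'τ : IsPiSubgroup τ T' := by
    intro q hq hqT
    rw [hT', Subgroup.card_map_of_injective L.subtype_injective] at hqT
    have h1 : q ∈ σ ∪ τ := hL q hq (hqT.trans (Subgroup.card_subgroup_dvd_card T))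
    rcases h1 with h1 | h1
    · exact absurd h1 (hT1 q hq hqT)
    · exact h1
  have hS'σ : IsPiSubgroup σ S' := by
    intro q hq hqS
    rw [hS', Subgroup.card_map_of_injective L.subtype_injective, ← hS.symm.index_eq_card] at hqS
    exact hT2 q hq hqS
  have hST : S' ≤ Subgroup.normalizer (T' : Set G) := by
    have h1 : S ≤ Subgroup.normalizer (T : Set L) := by
      rw [Subgroup.normalizer_eq_top]; exact le_top
    exact (Subgroup.map_mono h1).trans (Subgroup.le_normalizer_map L.subtype)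
  obtain ⟨g, hg⟩ := h.sup_le_conj S' T' hS'σ hT'τ hST
  refine ⟨g, le_trans (le_of_eq ?_) hg⟩
  rw [hT', hS', ← Subgroup.map_sup, hS.sup_eq_top, ← MonoidHom.range_eq_map, Subgroup.range_subtype]

end HallPair

end Cfsg.Agent.Lib.Helper96
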