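/-
helper96: Bender–Glauberman Proposition 14.2 (statements S1430 / S1431), abstract part.
`Core M K E U` packages the structural facts about a Hall `κ(M)`-subgroup `K` (inside a complement
`E = U ⋊ K` of `M_σ`) from which the two statements follow by elementary arguments.
-/
import Mathlib
import Cfsg.Prelude.Def_OddOrderLocal

set_option autoImplicit false

namespace Cfsg.Agent.Lib.Helper96.BG142

open Cfsg

universe u

variable {G : Type u} [Group G]

/-- If `x ∈ A` normalizes `B`, `b ∈ B` conjugates `x` into `A`, and `A ∩ B = 1`, then `b` centralizes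
`x`. -/
theorem conj_eq_of_mem {A B : Subgroup G} (hAB : A ⊓ B = ⊥) {x b : G} (hx : x ∈ A) (hb : b ∈ B)
    (hxB : x * b⁻¹ * x⁻¹ ∈ B) (hbx : b * x * b⁻¹ ∈ A) : b * x * b⁻¹ = x := by
  have h1 : b * x * b⁻¹ * x⁻¹ ∈ A := A.mul_mem hbx (A.inv_mem hx)
  have h2 : b * x * b⁻¹ * x⁻¹ ∈ B := by
    have : b * x * b⁻¹ * x⁻¹ = b * (x * b⁻¹ * x⁻¹) := by group
    rw [this]; exact B.mul_mem hb hxB
  have h3 : b * x * b⁻¹ * x⁻¹ ∈ A ⊓ B := ⟨h1, h2⟩
  rw [hAB, Subgroup.mem_bot] at h3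
  calc b * x * b⁻¹ = b * x * b⁻¹ * x⁻¹ * x := by group
    _ = x := by rw [h3, one_mul]

/-- `M_σ` is normalized by `M` (elementwise form). -/
theorem conj_mem_sigmaCore_aux {M : Subgroup G} {m y : G} (hm : m ∈ M) (hy : y ∈ sigmaCore M) :
    m * y * m⁻¹ ∈ sigmaCore M := by
  obtain ⟨y', hy', rfl⟩ := hy
  refine ⟨⟨m, hm⟩ * y' * ⟨m, hm⟩⁻¹, ?_, rfl⟩
  exact (piCore_normal (sigma M) M).conj_mem y' hy' ⟨m, hm⟩

/-- a non-identity element of a finite group has a power of prime order -/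
theorem exists_prime_orderOf_mem_zpowers [Finite G] {y : G} (hy : y ≠ 1) :
    ∃ (q : ℕ) (z : G), q.Prime ∧ orderOf z = q ∧ z ∈ Subgroup.zpowers y := by
  have hn : orderOf y ≠ 1 := fun h => hy (orderOf_eq_one_iff.mp h)
  obtain ⟨q, hq, hqd⟩ := Nat.exists_prime_and_dvd hn
  have hpos : 0 < orderOf y := orderOf_pos y
  refine ⟨q, y ^ (orderOf y / q), hq, ?_, Subgroup.npow_mem_zpowers y _⟩
  have hd : orderOf y / q ∣ orderOf y := Nat.div_dvd_of_dvd hqd
  have hne : orderOf y / q ≠ 0 := by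
    have := Nat.div_pos (Nat.le_of_dvd hpos hqd) hq.pos
    omega
  rw [orderOf_pow_of_dvd hne hd, Nat.div_div_self hqd hpos.ne']

/-- a nontrivial subgroup of a finite group contains a subgroup of prime order -/
theorem exists_prime_card_le [Finite G] {Y : Subgroup G} {y : G} (hyY : y ∈ Y) (hy : y ≠ 1) :
    ∃ (q : ℕ) (X : Subgroup G), q.Prime ∧ Nat.card X = q ∧ X ≤ Y ∧ X ≤ Subgroup.zpowers y ∧ X ≠ ⊥ ∧
      IsPGroup q X := by
  obtain ⟨q, z, hq, hz, hzy⟩ := exists_prime_orderOf_mem_zpowers hy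
  have hcard : Nat.card (Subgroup.zpowers z) = q := by rw [Nat.card_zpowers, hz]
  have hle : Subgroup.zpowers z ≤ Subgroup.zpowers y := (Subgroup.zpowers_le).mpr hzy
  refine ⟨q, Subgroup.zpowers z, hq, hcard, hle.trans ((Subgroup.zpowers_le).mpr hyY), hle, ?_, ?_⟩
  · intro h
    rw [h, Subgroup.card_bot] at hcard
    exact hq.one_lt.ne hcard
  · have : Fact q.Prime := ⟨hq⟩
    exact IsPGroup.of_card (n := 1) (by rw [hcard, pow_one])

/-- The structural package behind BG Proposition 14.2. -/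
structure Core (M K E U : Subgroup G) : Prop where
  compl : IsComplIn E (sigmaCore M) M
  KE : K ≤ E
  prodE : ∀ e ∈ E, ∃ u ∈ U, ∃ k ∈ K, e = u * k
  UK : K ⊓ U = ⊥
  normU : ∀ k ∈ K, ∀ u ∈ U, k * u * k⁻¹ ∈ U
  regU : ∀ k ∈ K, k ≠ 1 → ∀ u ∈ U, u * k * u⁻¹ = k → u = 1
  semiprime : ∀ k ∈ K, k ≠ 1 →
    sigmaCore M ⊓ Subgroup.centralizer ({k} : Set G) =
      sigmaCore M ⊓ Subgroup.centralizer (K : Set G)
  normX : ∀ X : Subgroup G, X ≤ K → (Nat.card X).Prime → K ≤ Subgroup.normalizer (X : Set G)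
  uniqX : ∀ X X' : Subgroup G, X ≤ K → X' ≤ K → (Nat.card X).Prime →
    Nat.card X' = Nat.card X → X' = X

theorem exists_ne_one_of_card_prime {X : Subgroup G} (hX : (Nat.card X).Prime) :
    ∃ x ∈ X, x ≠ 1 := by
  have hne : X ≠ ⊥ := by
    intro h
    rw [h, Subgroup.card_bot] at hX
    exact Nat.not_prime_one hX
  obtain ⟨⟨x, hx⟩, hx1⟩ := (Subgroup.ne_bot_iff_exists_ne_one).mp hne
  exact ⟨x, hx, fun h => hx1 (Subtype.ext h)⟩

/-- `N_M(Y) = K K*` for every nontrivial subgroup `Y ≤ K` normalized by `K`. -/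
theorem normalizer_eq {M K E U : Subgroup G} (hC : Core M K E U) (Y : Subgroup G) (hYK : Y ≤ K)
    (hY1 : ∃ x ∈ Y, x ≠ 1) (hKY : K ≤ Subgroup.normalizer (Y : Set G)) :
    M ⊓ Subgroup.normalizer (Y : Set G) =
      K ⊔ (sigmaCore M ⊓ Subgroup.centralizer (K : Set G)) := by
  have hEM : E ≤ M := hC.compl.1
  have hMsM : sigmaCore M ≤ M := hC.compl.2.1
  have hEMs : E ⊓ sigmaCore M = ⊥ := hC.compl.2.2.1
  apply le_antisymm
  · rintro m ⟨hmM, hmN⟩
    obtain ⟨e, he, s, hs, rfl⟩ := hC.compl.2.2.2 m hmM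
    obtain ⟨u, hu, k, hk, rfl⟩ := hC.prodE e he
    obtain ⟨x, hxY, hx1⟩ := hY1
    have hN := Subgroup.mem_normalizer_iff.mp hmN
    have hsY : ∀ y ∈ Y, s * y * s⁻¹ = y := by
      intro y hy
      have hyE : y ∈ E := hC.KE (hYK hy)
      apply conj_eq_of_mem hEMs hyE hs
      · exact conj_mem_sigmaCore_aux (hEM hyE) ((sigmaCore M).inv_mem hs)
      · have h1 : (u * k * s) * y * (u * k * s)⁻¹ ∈ Y := (hN y).mp hy
        have h2 : s * y * s⁻¹ = (u * k)⁻¹ * ((u * k * s) * y * (u * k * s)⁻¹) * (u * k) := by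
          group
        rw [h2]
        exact E.mul_mem (E.mul_mem (E.inv_mem he) (hC.KE (hYK h1))) he
    have huk : ∀ y ∈ Y, (u * k) * y * (u * k)⁻¹ ∈ Y := by
      intro y hy
      have h1 := (hN y).mp hy
      have h2 : (u * k * s) * y * (u * k * s)⁻¹ = (u * k) * (s * y * s⁻¹) * (u * k)⁻¹ := by group
      rw [h2, hsY y hy] at h1
      exact h1
    have hkN := Subgroup.mem_normalizer_iff.mp (hKY hk)
    have hu_norm : ∀ y ∈ Y, u * y * u⁻¹ ∈ Y := by
      intro y hy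
      have hy' : k⁻¹ * y * k ∈ Y := by
        apply (hkN (k⁻¹ * y * k)).mpr
        have : k * (k⁻¹ * y * k) * k⁻¹ = y := by group
        rw [this]; exact hy
      have h3 := huk _ hy'
      have h4 : (u * k) * (k⁻¹ * y * k) * (u * k)⁻¹ = u * y * u⁻¹ := by group
      rwa [h4] at h3
    have hxK : x ∈ K := hYK hxY
    have hu1 : u = 1 := by
      apply hC.regU x hxK hx1 u hu
      apply conj_eq_of_mem hC.UK hxK hu
      · exact hC.normU x hxK u⁻¹ (U.inv_mem hu)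
      · exact hYK (hu_norm x hxY)
    subst hu1
    rw [one_mul]
    have hsKs : s ∈ sigmaCore M ⊓ Subgroup.centralizer (K : Set G) := by
      rw [← hC.semiprime x hxK hx1]
      refine ⟨hs, ?_⟩
      apply Subgroup.mem_centralizer_singleton_iff.mpr
      have h5 := hsY x hxY
      calc s * x = s * x * s⁻¹ * s := by group
        _ = x * s := by rw [h5]
    exact Subgroup.mul_mem_sup hk hsKs
  · apply sup_le
    · exact le_inf (hC.KE.trans hEM) hKY
    · refine le_inf (inf_le_left.trans hMsM) ?_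
      refine inf_le_right.trans ?_
      exact (Subgroup.centralizer_le (SetLike.coe_subset_coe.mpr hYK)).trans
        (Subgroup.centralizer_le_normalizer _)

/-- The conclusion of S1430 from the structural package. -/
theorem s1430_of_core {M K E U : Subgroup G} (hC : Core M K E U) (hK1 : K ≠ ⊥)
    (hUc : IsMulCommutative U)
    (hUH : IsPiHallOf {q | q.Prime ∧ q ∉ kappa M ∧ q ∉ sigma M} U M)
    (hA : ∀ X : Subgroup G, X ≤ K → (Nat.card X).Prime → ∀ Mstar : Subgroup G, IsCoatom Mstar →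
      Subgroup.normalizer (X : Set G) ≤ Mstar → X ≤ sigmaCore Mstar) :
    (∀ k ∈ K, k ≠ 1 → Cfsg.sigmaCore M ⊓ Subgroup.centralizer ({k} : Set G) = (Cfsg.sigmaCore M ⊓ Subgroup.centralizer (K : Set G))) ∧
      (∃ U : Subgroup G, IsMulCommutative U ∧ Cfsg.IsPiHallOf {q | q.Prime ∧ q ∉ Cfsg.kappa M ∧ q ∉ Cfsg.sigma M} U M ∧
        K ≤ Subgroup.normalizer (U : Set G) ∧ ∀ k ∈ K, k ≠ 1 → U ⊓ Subgroup.centralizer ({k} : Set G) = ⊥) ∧
      ∀ X : Subgroup G, X ≤ K → (Nat.card X).Prime →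
        M ⊓ Subgroup.normalizer (X : Set G) = K ⊔ (Cfsg.sigmaCore M ⊓ Subgroup.centralizer (K : Set G)) ∧ M ⊓ Subgroup.normalizer (K : Set G) = K ⊔ (Cfsg.sigmaCore M ⊓ Subgroup.centralizer (K : Set G)) ∧
        ∀ Mstar : Subgroup G, IsCoatom Mstar → Subgroup.normalizer (X : Set G) ≤ Mstar → X ≤ Cfsg.sigmaCore Mstar := by
  refine ⟨hC.semiprime, ⟨U, hUc, hUH, ?_, ?_⟩, ?_⟩
  · intro k hk
    rw [Subgroup.mem_normalizer_iff]
    intro h
    constructor
    · exact hC.normU k hk h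
    · intro hh
      have h1 := hC.normU k⁻¹ (K.inv_mem hk) _ hh
      have h2 : k⁻¹ * (k * h * k⁻¹) * k⁻¹⁻¹ = h := by group
      rwa [h2] at h1
  · intro k hk hk1
    rw [eq_bot_iff]
    rintro u ⟨huU, huC⟩
    rw [Subgroup.mem_bot]
    apply hC.regU k hk hk1 u huU
    have h1 : u * k = k * u := Subgroup.mem_centralizer_singleton_iff.mp huC
    rw [h1]; group
  · intro X hXK hXp
    have hKne : ∃ x ∈ K, x ≠ 1 := by
      obtain ⟨⟨x, hx⟩, hx1⟩ := (Subgroup.ne_bot_iff_exists_ne_one).mp hK1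
      exact ⟨x, hx, fun h => hx1 (Subtype.ext h)⟩
    exact ⟨normalizer_eq hC X hXK (exists_ne_one_of_card_prime hXp) (hC.normX X hXK hXp),
      normalizer_eq hC K le_rfl hKne Subgroup.le_normalizer, hA X hXK hXp⟩

/-- The conclusion of S1431 from the structural package. -/
theorem s1431_of_core [Finite G] {M K E U : Subgroup G} (hM : IsCoatom M) (hC : Core M K E U)
    (hK1 : K ≠ ⊥)
    (hsig : ∀ r : ℕ, r.Prime → r ∣ Nat.card (sigmaCore M) → r ∈ sigma M)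
    (h1404 : ∀ (p : ℕ) [Fact p.Prime], p ∈ sigma M → ∀ X : Subgroup G, IsPGroup p X → X ≠ ⊥ →
      X ≤ M → ∀ g : G, X.map (MulAut.conj g).toMonoidHom ≤ M →
        ∃ m ∈ M, ∃ c ∈ Subgroup.centralizer (X : Set G), g = m * c)
    (h6 : ∀ (q : ℕ) [Fact q.Prime] (X : Subgroup G),
      X ≤ sigmaCore M ⊓ Subgroup.centralizer (K : Set G) → Nat.card X = q →
        Subgroup.centralizer (X : Set G) ≤ M ∧ ∀ S : Sylow q ↥(sigmaCore M),
          InUniqueMaximal ((S : Subgroup ↥(sigmaCore M)).map (sigmaCore M).subtype))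
    (hMstar : ∀ X : Subgroup G, X ≤ K → (Nat.card X).Prime →
      ∃ Mstar : Subgroup G, IsCoatom Mstar ∧ Mstar ≠ M ∧ Subgroup.normalizer (X : Set G) ≤ Mstar)
    (h1425 : ∀ Y : Subgroup G, Y ≠ ⊥ → (∀ p : ℕ, p.Prime → p ∣ Nat.card Y → p ∈ sigma M) →
      ∃ g : G, Y.map (MulAut.conj g).toMonoidHom ≤ sigmaCore M) :
    (∀ g : G, g ∉ M → (Cfsg.sigmaCore M ⊓ Subgroup.centralizer (K : Set G)) ⊓ M.map (MulAut.conj g).toMonoidHom = ⊥) ∧
      (∀ g ∈ M, g ∉ K ⊔ (Cfsg.sigmaCore M ⊓ Subgroup.centralizer (K : Set G)) → K ⊓ K.map (MulAut.conj g).toMonoidHom = ⊥) ∧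
      (∀ (p : ℕ), p.Prime → p ∣ Nat.card ↥(Cfsg.sigmaCore M ⊓ Subgroup.centralizer (K : Set G)) → ∀ S : Sylow p ↥(Cfsg.sigmaCore M),
        Cfsg.InUniqueMaximal ((S : Subgroup ↥(Cfsg.sigmaCore M)).map (Cfsg.sigmaCore M).subtype) ∧
        (S : Subgroup ↥(Cfsg.sigmaCore M)).map (Cfsg.sigmaCore M).subtype ≤ M ∧
        ¬ (S : Subgroup ↥(Cfsg.sigmaCore M)).map (Cfsg.sigmaCore M).subtype ≤ (Cfsg.sigmaCore M ⊓ Subgroup.centralizer (K : Set G))) ∧
      ∀ Y : Subgroup G, (∀ p : ℕ, p.Prime → p ∣ Nat.card Y → p ∈ Cfsg.sigma M) → Y ⊓ (Cfsg.sigmaCore M ⊓ Subgroup.centralizer (K : Set G)) ≠ ⊥ → Y ≤ Cfsg.sigmaCore M := by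
  have hMsM : sigmaCore M ≤ M := hC.compl.2.1
  -- a prime-order subgroup of `K*` has its centralizer in `M`, and lies in `σ(M)`
  have hkey : ∀ {y : G}, y ∈ sigmaCore M ⊓ Subgroup.centralizer (K : Set G) → y ≠ 1 →
      ∃ (q : ℕ) (X : Subgroup G), ∃ (_ : Fact q.Prime), q ∈ sigma M ∧ IsPGroup q X ∧ X ≠ ⊥ ∧
        X ≤ M ∧ X ≤ Subgroup.zpowers y ∧ Subgroup.centralizer (X : Set G) ≤ M := by
    intro y hy hy1
    obtain ⟨q, X, hq, hXc, hXle, hXz, hXne, hXp⟩ := exists_prime_card_le hy hy1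
    have : Fact q.Prime := ⟨hq⟩
    refine ⟨q, X, ⟨hq⟩, ?_, hXp, hXne, (hXle.trans inf_le_left).trans hMsM, hXz, (h6 q X hXle hXc).1⟩
    apply hsig q hq
    rw [← hXc]
    exact Subgroup.card_dvd_of_le (hXle.trans inf_le_left)
  refine ⟨?_, ?_, ?_, ?_⟩
  · intro g hg
    rw [eq_bot_iff]
    rintro y ⟨hyKs, hyMg⟩
    rw [Subgroup.mem_bot]
    by_contra hy1
    obtain ⟨q, X, _, hqσ, hXp, hXne, hXM, hXz, hXC⟩ := hkey hyKs hy1
    have hXMg : X ≤ M.map (MulAut.conj g).toMonoidHom :=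
      hXz.trans ((Subgroup.zpowers_le).mpr hyMg)
    have hXg : X.map (MulAut.conj g⁻¹).toMonoidHom ≤ M := by
      rintro w ⟨x, hx, rfl⟩
      obtain ⟨m, hm, hmx⟩ := hXMg hx
      have h1 : x = g * m * g⁻¹ := by rw [← hmx]; rfl
      show g⁻¹ * x * g⁻¹⁻¹ ∈ M
      have h2 : g⁻¹ * x * g⁻¹⁻¹ = m := by rw [h1]; group
      rw [h2]; exact hm
    obtain ⟨m, hm, c, hc, hgmc⟩ := h1404 q hqσ X hXp hXne hXM g⁻¹ hXg
    apply hg
    have h3 : g⁻¹ ∈ M := by rw [hgmc]; exact M.mul_mem hm (hXC hc)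
    simpa using M.inv_mem h3
  · intro g hgM hgN
    rw [eq_bot_iff]
    rintro z ⟨hzK, hzKg⟩
    rw [Subgroup.mem_bot]
    by_contra hz1
    obtain ⟨q, X, hq, hXc, hXK, hXz, hXne, hXp⟩ := exists_prime_card_le hzK hz1
    have hXp' : (Nat.card X).Prime := by rw [hXc]; exact hq
    have hXKg : X ≤ K.map (MulAut.conj g).toMonoidHom :=
      hXz.trans ((Subgroup.zpowers_le).mpr hzKg)
    have hX'K : X.map (MulAut.conj g⁻¹).toMonoidHom ≤ K := by
      rintro w ⟨x, hx, rfl⟩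
      obtain ⟨k, hk, hkx⟩ := hXKg hx
      have h1 : x = g * k * g⁻¹ := by rw [← hkx]; rfl
      show g⁻¹ * x * g⁻¹⁻¹ ∈ K
      have h2 : g⁻¹ * x * g⁻¹⁻¹ = k := by rw [h1]; group
      rw [h2]; exact hk
    have hcard : Nat.card (X.map (MulAut.conj g⁻¹).toMonoidHom) = Nat.card X :=
      Subgroup.card_map_of_injective (MulAut.conj g⁻¹).injective
    have hXX := hC.uniqX X _ hXK hX'K hXp' hcard
    have hginv : g⁻¹ ∈ Subgroup.normalizer (X : Set G) := by
      rw [Subgroup.mem_normalizer_iff]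
      intro h
      constructor
      · intro hh
        rw [← hXX]
        exact ⟨h, hh, rfl⟩
      · intro hh
        rw [← hXX] at hh
        obtain ⟨h', hh', heq⟩ := hh
        have h1 : g⁻¹ * h' * g⁻¹⁻¹ = g⁻¹ * h * g⁻¹⁻¹ := heq
        have h2 : h' = h := by
          have := congrArg (fun t => g * t * g⁻¹) h1
          simpa [mul_assoc] using this
        rw [← h2]; exact hh'
    have hgN' : g ∈ Subgroup.normalizer (X : Set G) := by
      simpa using (Subgroup.normalizer (X : Set G)).inv_mem hginv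
    apply hgN
    rw [← normalizer_eq hC X hXK (exists_ne_one_of_card_prime hXp') (hC.normX X hXK hXp')]
    exact ⟨hgM, hgN'⟩
  · intro p hp hpd S
    have : Fact p.Prime := ⟨hp⟩
    obtain ⟨y, hy⟩ := exists_prime_orderOf_dvd_card' p hpd
    have hyo : orderOf (y : G) = p := by rw [Subgroup.orderOf_coe]; exact hy
    have hY1c : Nat.card (Subgroup.zpowers (y : G)) = p := by rw [Nat.card_zpowers, hyo]
    have hY1le : Subgroup.zpowers (y : G) ≤
        sigmaCore M ⊓ Subgroup.centralizer (K : Set G) := (Subgroup.zpowers_le).mpr y.2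
    have h6' := h6 p _ hY1le hY1c
    refine ⟨h6'.2 S, (Subgroup.map_subtype_le _).trans hMsM, ?_⟩
    intro hle
    obtain ⟨k, hkK, hk1⟩ : ∃ x ∈ K, x ≠ 1 := by
      obtain ⟨⟨x, hx⟩, hx1⟩ := (Subgroup.ne_bot_iff_exists_ne_one).mp hK1
      exact ⟨x, hx, fun h => hx1 (Subtype.ext h)⟩
    obtain ⟨r, X, hr, hXc, hXK, -, -, -⟩ := exists_prime_card_le hkK hk1
    have hXp' : (Nat.card X).Prime := by rw [hXc]; exact hr
    obtain ⟨Mstar, hMs, hne, hN⟩ := hMstar X hXK hXp'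
    have hSle : (S : Subgroup ↥(sigmaCore M)).map (sigmaCore M).subtype ≤ Mstar := by
      refine hle.trans (inf_le_right.trans ?_)
      exact ((Subgroup.centralizer_le (SetLike.coe_subset_coe.mpr hXK)).trans
        (Subgroup.centralizer_le_normalizer _)).trans hN
    obtain ⟨L, -, huniq⟩ := h6'.2 S
    have h1 := huniq M ⟨hM, (Subgroup.map_subtype_le _).trans hMsM⟩
    have h2 := huniq Mstar ⟨hMs, hSle⟩
    exact hne (h2.trans h1.symm)
  · intro Y hYσ hYK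
    have hYne : Y ≠ ⊥ := by
      intro h
      apply hYK
      rw [h, bot_inf_eq]
    obtain ⟨g, hg⟩ := h1425 Y hYne hYσ
    obtain ⟨⟨y, hy⟩, hy1'⟩ := (Subgroup.ne_bot_iff_exists_ne_one).mp hYK
    have hy1 : y ≠ 1 := fun h => hy1' (Subtype.ext h)
    obtain ⟨q, X, _, hqσ, hXp, hXne, hXM, hXz, hXC⟩ := hkey hy.2 hy1
    have hXY : X ≤ Y := hXz.trans ((Subgroup.zpowers_le).mpr hy.1)
    have hXg : X.map (MulAut.conj g).toMonoidHom ≤ M :=
      ((Subgroup.map_mono hXY).trans hg).trans hMsM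
    obtain ⟨m, hm, c, hc, hgmc⟩ := h1404 q hqσ X hXp hXne hXM g hXg
    have hgM : g ∈ M := by rw [hgmc]; exact M.mul_mem hm (hXC hc)
    intro w hw
    have h1 : g * w * g⁻¹ ∈ sigmaCore M := hg ⟨w, hw, rfl⟩
    have h2 := conj_mem_sigmaCore_aux (M.inv_mem hgM) h1
    have h3 : g⁻¹ * (g * w * g⁻¹) * g⁻¹⁻¹ = w := by group
    rwa [h3] at h2

end Cfsg.Agent.Lib.Helper96.BG142
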