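/-
helper96: Bender–Glauberman Proposition 14.2 (S1430 / S1431): preliminary facts about a complement `E`
of `M_σ` (primes of `E`, the sets `τ₁, τ₂, τ₃, κ`, prime action of the Hall `τ₁`-subgroup).
-/
import Mathlib
import Cfsg.Prelude.Def_OddOrderLocal
import Cfsg.Agent.Lib.Helper96.BGFourteenTwoA
import Cfsg.Agent.Lib.Helper97.BGTwelveCor
import Cfsg.Agent.Lib.Helper54.BGElevenA
import Cfsg.Agent.Lib.Helper50.AlphaCore
import Cfsg.Agent.Lib.Helper24.PrimeAction
import Cfsg.Agent.Lib.Helper34.NonSigma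

set_option autoImplicit false

namespace Cfsg.Agent.Lib.Helper96.BG142

open Cfsg
open scoped Pointwise
open Cfsg.Agent.Lib.Helper34 (UniquenessThm)

universe u

variable {G : Type u} [Group G] [Finite G]

/-- a prime dividing the order of a complement of `M_σ` is not in `σ(M)` -/
theorem not_mem_sigma_of_dvd_card_compl (hG : IsMinSimpleOddOrder G) (hU : UniquenessThm G)
    (M : Subgroup G) (hM : IsCoatom M) {E : Subgroup G} (hE : IsComplIn E (sigmaCore M) M) {p : ℕ}
    (hp : p.Prime) (hpE : p ∣ Nat.card E) : p ∉ sigma M := by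
  intro hσ
  exact Cfsg.Agent.Lib.Helper97.BGTwelve.not_dvd_card_of_isComplIn hE
    (Cfsg.Agent.Lib.Helper54.sigmaCore_hall_of hG hU M hM).1 hp hσ hpE

/-- the primes of a complement of `M_σ` lie in `τ₁ ∪ τ₂ ∪ τ₃` -/
theorem tau_trichotomy (hG : IsMinSimpleOddOrder G) (hU : UniquenessThm G)
    (M : Subgroup G) (hM : IsCoatom M) {E : Subgroup G} (hE : IsComplIn E (sigmaCore M) M) {p : ℕ}
    (hp : p.Prime) (hpE : p ∣ Nat.card E) : p ∈ tau1 M ∨ p ∈ tau2 M ∨ p ∈ tau3 M := by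
  have hσ := not_mem_sigma_of_dvd_card_compl hG hU M hM hE hp hpE
  have hpM : p ∣ Nat.card M := hpE.trans (Subgroup.card_dvd_of_le hE.1)
  have h2 : PRankLE p 2 M := by
    by_contra h
    exact hσ (Cfsg.Agent.Lib.Helper50.alpha_subset_sigma hG
      (Cfsg.Agent.Lib.Helper54.uniqThree_of_uniquenessThm hU) M hM ⟨hp, h⟩)
  by_cases h1 : PRankLE p 1 M
  · by_cases hc : p ∣ Nat.card ↥⁅M, M⁆
    · exact Or.inr (Or.inr ⟨hp, hσ, hc, h1⟩)
    · exact Or.inl ⟨hp, hσ, hpM, hc, h1⟩
  · exact Or.inr (Or.inl ⟨hp, hσ, h2, h1⟩)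

theorem rank_one_of_tau13 {M : Subgroup G} {p : ℕ} (h : p ∈ tau1 M ∪ tau3 M) : PRankLE p 1 M := by
  rcases h with h | h
  · exact h.2.2.2.2
  · exact h.2.2.2

theorem ne_two_of_dvd_card (hG : IsMinSimpleOddOrder G) {H : Subgroup G} {p : ℕ}
    (hpH : p ∣ Nat.card H) : p ≠ 2 := by
  rintro rfl
  have h2 : 2 ∣ Nat.card G := hpH.trans (Subgroup.card_subgroup_dvd_card H)
  exact (Nat.not_even_iff_odd.mpr hG.1) (even_iff_two_dvd.mpr h2)

/-- `p`-subgroups of a subgroup of `p`-rank one are cyclic (odd `p`) -/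
theorem isCyclic_of_rank_one {M Q : Subgroup G} {p : ℕ} [Fact p.Prime] (hp2 : p ≠ 2)
    (hr : PRankLE p 1 M) (hQM : Q ≤ M) (hQp : IsPGroup p Q) : IsCyclic Q :=
  Cfsg.Agent.Lib.Helper97.BGTwelve.isCyclic_of_pRankLE_one hp2 Q hQp
    (Cfsg.Agent.Lib.Helper54.pRankLE_of_le hQM hr)

/-- Sylow subgroups (as subgroups of `↥E`) of a subgroup `E ≤ M` are cyclic when `M` has `p`-rank one -/
theorem isCyclic_sylow_of_rank_one {M E : Subgroup G} (hEM : E ≤ M) {p : ℕ} [Fact p.Prime]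
    (hp2 : p ≠ 2) (hr : PRankLE p 1 M) (Q : Sylow p E) : IsCyclic (Q : Subgroup E) := by
  apply Cfsg.Agent.Lib.Helper49.isCyclic_of_pRankLE_one hp2 Q.isPGroup'
  exact Cfsg.Agent.Lib.Helper54.pRankLE_of_injective
    ((Subgroup.inclusion hEM).comp (Q : Subgroup ↥E).subtype)
    ((Subgroup.inclusion_injective hEM).comp (Subgroup.subtype_injective _)) hr

theorem rank_one_of_mem_kappa {M : Subgroup G} {p : ℕ} [Fact p.Prime] (hpκ : p ∈ kappa M) :
    PRankLE p 1 M := by
  have hp : p.Prime := Fact.out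
  obtain ⟨P⟩ : Nonempty (Sylow p M) := inferInstance
  exact Cfsg.Agent.Lib.Helper54.pRankLE_of_sylow P
    (Cfsg.Agent.Lib.Helper24.pRankLE_one_of_isCyclic p hp.pos (hpκ.2.2.2 P).1)

/-- `κ(M) ⊆ τ₁(M) ∪ τ₃(M)` -/
theorem kappa_subset {M : Subgroup G} {p : ℕ} (hpκ : p ∈ kappa M) : p ∈ tau1 M ∪ tau3 M := by
  have hp : p.Prime := hpκ.1
  have : Fact p.Prime := ⟨hp⟩
  have hr := rank_one_of_mem_kappa hpκ
  by_cases hc : p ∣ Nat.card ↥⁅M, M⁆
  · exact Or.inr ⟨hp, hpκ.2.2.1, hc, hr⟩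
  · exact Or.inl ⟨hp, hpκ.2.2.1, hpκ.2.1, hc, hr⟩

/-- for `p ∈ κ(M)`, every Sylow `p`-subgroup of a complement `E` contains a non-identity element with a
non-identity fixed point on `M_σ` -/
theorem exists_nonreg_of_mem_kappa (hG : IsMinSimpleOddOrder G) (hU : UniquenessThm G)
    (M : Subgroup G) (hM : IsCoatom M) {E : Subgroup G} (hE : IsComplIn E (sigmaCore M) M) {p : ℕ}
    [Fact p.Prime] (hpκ : p ∈ kappa M) (Q : Sylow p E) :
    ∃ x ∈ (Q : Subgroup E).map E.subtype, x ≠ 1 ∧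
      sigmaCore M ⊓ Subgroup.centralizer ({x} : Set G) ≠ ⊥ := by
  have hp : p.Prime := Fact.out
  obtain ⟨-, hpM, hpσ, hκ⟩ := hpκ
  set S' := (Q : Subgroup E).map E.subtype with hS'
  have hS'E : S' ≤ E := Subgroup.map_subtype_le _
  have hpN : ¬ p ∣ Nat.card (sigmaCore M) := fun hd =>
    hpσ (Cfsg.Agent.Lib.Helper54.sigmaCore_isPi M p hp hd)
  have hfac : (Nat.card M).factorization p = (Nat.card E).factorization p := by
    rw [Cfsg.Agent.Lib.Helper23.card_of_isComplIn hE,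
      Nat.factorization_mul Nat.card_pos.ne' Nat.card_pos.ne', Finsupp.add_apply,
      Nat.factorization_eq_zero_of_not_dvd hpN, add_zero]
  have hcard : Nat.card S' = p ^ (Nat.card M).factorization p := by
    rw [hfac]
    exact Cfsg.Agent.Lib.Helper54.card_map_sylow E Q
  obtain ⟨P₀, hP₀⟩ :=
    Cfsg.Agent.Lib.Helper54.exists_sylow_of_card M S' (hS'E.trans hE.1) hcard
  obtain ⟨-, x, hxP, hx1, y, hy, hy1, hxy⟩ := hκ P₀
  refine ⟨(x : G), ?_, ?_, ?_⟩
  · rw [← hP₀]
    exact ⟨x, hxP, rfl⟩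
  · intro h
    exact hx1 (Subtype.ext h)
  · intro hbot
    have h1 : y ∈ sigmaCore M ⊓ Subgroup.centralizer ({(x : G)} : Set G) :=
      ⟨hy, Subgroup.mem_centralizer_singleton_iff.mpr hxy.symm⟩
    rw [hbot, Subgroup.mem_bot] at h1
    exact hy1 h1

/-- a criterion for membership in `κ(M)` -/
theorem mem_kappa_of {M : Subgroup G} {p : ℕ} [Fact p.Prime] (hp2 : p ≠ 2) (hpσ : p ∉ sigma M)
    (hr : PRankLE p 1 M) {x y : G} (hxM : x ∈ M) (hx1 : x ≠ 1)
    (hxp : IsPGroup p (Subgroup.zpowers x)) (hy : y ∈ sigmaCore M) (hy1 : y ≠ 1)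
    (hxy : x * y = y * x) : p ∈ kappa M := by
  have hp : p.Prime := Fact.out
  have hzM : Subgroup.zpowers x ≤ M := (Subgroup.zpowers_le).mpr hxM
  have hpM : p ∣ Nat.card M := by
    obtain ⟨n, hn⟩ := hxp.exists_card_eq
    have hn0 : n ≠ 0 := by
      rintro rfl
      rw [pow_zero, Nat.card_zpowers] at hn
      exact hx1 (orderOf_eq_one_iff.mp hn)
    exact (hn ▸ dvd_pow_self p hn0).trans (Subgroup.card_dvd_of_le hzM)
  refine ⟨hp, hpM, hpσ, ?_⟩
  intro P
  refine ⟨?_, ?_⟩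
  · apply Cfsg.Agent.Lib.Helper49.isCyclic_of_pRankLE_one hp2 P.isPGroup'
    exact Cfsg.Agent.Lib.Helper54.pRankLE_of_injective (P : Subgroup ↥M).subtype
      (Subgroup.subtype_injective _) hr
  · obtain ⟨P₁, hP₁⟩ := Cfsg.Agent.Lib.Helper34.exists_sylow_map_ge hxp hzM
    obtain ⟨m, hm⟩ := MulAction.exists_smul_eq M P₁ P
    obtain ⟨x', hx'P, hx'x⟩ := hP₁ (Subgroup.mem_zpowers x)
    have hx'x' : (x' : G) = x := hx'x
    refine ⟨m * x' * m⁻¹, ?_, ?_, (m : G) * y * (m : G)⁻¹, ?_, ?_, ?_⟩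
    · have h1 : (MulAut.conj m • x') ∈ MulAut.conj m • (P₁ : Subgroup ↥M) :=
        Subgroup.smul_mem_pointwise_smul x' (MulAut.conj m) _ hx'P
      have h2 : ((m • P₁ : Sylow p ↥M) : Subgroup ↥M) = MulAut.conj m • (P₁ : Subgroup ↥M) := rfl
      rw [← hm]
      show m * x' * m⁻¹ ∈ ((m • P₁ : Sylow p ↥M) : Subgroup ↥M)
      rw [h2]
      simpa [MulAut.smul_def] using h1
    · intro h
      apply hx1
      have h2 : x' = 1 := by
        have := congrArg (fun t => m⁻¹ * t * m) h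
        simpa [mul_assoc] using this
      rw [← hx'x', h2]; rfl
    · exact conj_mem_sigmaCore_aux m.2 hy
    · intro h
      apply hy1
      have := congrArg (fun t => (m : G)⁻¹ * t * (m : G)) h
      simpa [mul_assoc] using this
    · simp only [Subgroup.coe_mul, Subgroup.coe_inv, hx'x']
      calc (m : G) * x * (m : G)⁻¹ * ((m : G) * y * (m : G)⁻¹)
          = (m : G) * (x * y) * (m : G)⁻¹ := by group
        _ = (m : G) * (y * x) * (m : G)⁻¹ := by rw [hxy]
        _ = (m : G) * y * (m : G)⁻¹ * ((m : G) * x * (m : G)⁻¹) := by group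

/-- an element commuting with all prime-power-order elements of a subgroup centralizes it -/
theorem commute_of_forall_prime_pow {H : Subgroup G} {c : G}
    (hpp : ∀ e ∈ H, e ≠ 1 → (∃ r j : ℕ, r.Prime ∧ orderOf e = r ^ j) → e * c = c * e) :
    ∀ e ∈ H, e * c = c * e := by
  suffices h : ∀ n : ℕ, ∀ e ∈ H, orderOf e = n → e * c = c * e from
    fun e he => h (orderOf e) e he rfl
  intro n
  induction n using Nat.strong_induction_on with
  | _ n ih =>
    intro e he hn
    by_cases he1 : e = 1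
    · rw [he1, one_mul, mul_one]
    have hn0 : orderOf e ≠ 0 := (orderOf_pos e).ne'
    have hn1 : orderOf e ≠ 1 := fun h => he1 (orderOf_eq_one_iff.mp h)
    obtain ⟨r, hr, hrd⟩ := Nat.exists_prime_and_dvd hn1
    obtain ⟨q, hq⟩ : ∃ q, q = ordProj[r] (orderOf e) := ⟨_, rfl⟩
    obtain ⟨m, hm⟩ : ∃ m, m = ordCompl[r] (orderOf e) := ⟨_, rfl⟩
    have hqm : q * m = orderOf e := by
      rw [hq, hm]; exact Nat.ordProj_mul_ordCompl_eq_self _ r
    by_cases hm1 : m = 1
    · apply hpp e he he1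
      refine ⟨r, (orderOf e).factorization r, hr, ?_⟩
      calc orderOf e = q * m := hqm.symm
        _ = q := by rw [hm1, mul_one]
        _ = r ^ (orderOf e).factorization r := hq
    · have hq0 : q ≠ 0 := by
        intro h; rw [h, zero_mul] at hqm; exact hn0 hqm.symm
      have hm0 : m ≠ 0 := by
        intro h; rw [h, mul_zero] at hqm; exact hn0 hqm.symm
      have hq1 : q ≠ 1 := by
        intro h
        have h1 : (orderOf e).factorization r = 0 := by
          have : r ^ (orderOf e).factorization r = r ^ 0 := by rw [pow_zero, ← hq]; exact h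
          exact Nat.pow_right_injective hr.two_le this
        have h2 := (hr.dvd_iff_one_le_factorization hn0).mp hrd
        omega
      have hcop : Nat.Coprime m q := by
        rw [hq, hm]
        exact Nat.Coprime.pow_right _ (Nat.coprime_ordCompl hr hn0).symm
      have ho1 : orderOf (e ^ m) = q := by
        rw [orderOf_pow_of_dvd hm0 (Dvd.intro_left q hqm), ← hqm,
          Nat.mul_div_cancel _ (Nat.pos_of_ne_zero hm0)]
      have ho2 : orderOf (e ^ q) = m := by
        rw [orderOf_pow_of_dvd hq0 (Dvd.intro m hqm), ← hqm,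
          Nat.mul_div_cancel_left _ (Nat.pos_of_ne_zero hq0)]
      have hlt1 : q < n := by
        rw [← hn, ← hqm]
        have : 2 ≤ m := by omega
        nlinarith [Nat.pos_of_ne_zero hq0]
      have hlt2 : m < n := by
        rw [← hn, ← hqm]
        have : 2 ≤ q := by omega
        nlinarith [Nat.pos_of_ne_zero hm0]
      have h1 := ih q hlt1 (e ^ m) (H.pow_mem he m) ho1
      have h2 := ih m hlt2 (e ^ q) (H.pow_mem he q) ho2
      obtain ⟨s, t, hst⟩ := (Nat.isCoprime_iff_coprime.mpr hcop)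
      have hx : e = (e ^ m) ^ s * (e ^ q) ^ t := by
        rw [← zpow_natCast e m, ← zpow_natCast e q, ← zpow_mul, ← zpow_mul, ← zpow_add]
        have : (m : ℤ) * s + (q : ℤ) * t = 1 := by linarith
        rw [this, zpow_one]
      have hc1 : Commute (e ^ m) c := h1
      have hc2 : Commute (e ^ q) c := h2
      have : Commute ((e ^ m) ^ s * (e ^ q) ^ t) c := (hc1.zpow_left s).mul_left (hc2.zpow_left t)
      rw [hx]
      exact this

end Cfsg.Agent.Lib.Helper96.BG142
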