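/-
helper96: Bender–Glauberman Proposition 14.2 (S1430 / S1431): Hall-subgroup lemmas and
Corollary 13.5 (the Hall `τ₁(M)`-subgroup of a complement acts in a prime manner on `M_σ`).
-/
import Mathlib
import Cfsg.Prelude.Def_OddOrderLocal
import Cfsg.Agent.Lib.Helper96.BGFourteenTwoB
import Cfsg.Agent.Lib.Helper62.PiHall
import Cfsg.Agent.Lib.Helper82.NilAbelCyclic

set_option autoImplicit false

namespace Cfsg.Agent.Lib.Helper96.BG142

open Cfsg
open Cfsg.Agent.Lib.Helper34 (UniquenessThm)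
open Cfsg.Agent.Lib.Helper62 (IsPiNum IsPiPrimeNum)

universe u

variable {G : Type u} [Group G] [Finite G]

omit [Finite G] in
/-- `g` normalizes `X` as soon as conjugation by `g` maps `X` onto `X` -/
theorem mem_normalizer_of_map_conj_eq {X : Subgroup G} {g : G}
    (h : X.map (MulAut.conj g).toMonoidHom = X) : g ∈ Subgroup.normalizer (X : Set G) := by
  rw [Subgroup.mem_normalizer_iff]
  intro a
  constructor
  · intro ha
    rw [← h]
    exact ⟨a, ha, rfl⟩
  · intro ha
    rw [← h] at ha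
    obtain ⟨a', ha', heq⟩ := ha
    have h1 : g * a' * g⁻¹ = g * a * g⁻¹ := heq
    have h2 : a' = a := by
      have := congrArg (fun t => g⁻¹ * t * g) h1
      simpa [mul_assoc] using this
    rw [← h2]; exact ha'

/-- a normal Hall `π`-subgroup of `E` contains every `π`-subgroup of `E` -/
theorem le_hall_of_normal {π : Set ℕ} {E H X : Subgroup G} (hH : IsPiHallOf π H E)
    (hn : E ≤ Subgroup.normalizer (H : Set G)) (hXE : X ≤ E)
    (hX : ∀ p : ℕ, p.Prime → p ∣ Nat.card X → p ∈ π) : X ≤ H := by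
  have : (H.subgroupOf E).Normal := Subgroup.normal_subgroupOf_of_le_normalizer hn
  have hidx : (H.subgroupOf E).index = H.relIndex E := rfl
  have hcop : (Nat.card (X.subgroupOf E)).Coprime (H.subgroupOf E).index := by
    rw [hidx, Nat.card_congr (Subgroup.subgroupOfEquivOfLe hXE).toEquiv]
    apply Nat.coprime_of_dvd
    intro k hk hk1 hk2
    exact hH.2.2 k hk (hX k hk hk1) hk2
  have h1 := Cfsg.Agent.Lib.Helper54.le_of_normal_of_coprime_index (H.subgroupOf E) hcop
  intro x hx
  exact Subgroup.mem_subgroupOf.mp (h1 (Subgroup.mem_subgroupOf.mpr (show ((⟨x, hXE hx⟩ : E) : G) ∈ X from hx)))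

/-- a subgroup of `E` whose order is divisible by the orders of two Hall subgroups of coprime orders
multiplying to `|E|` is `E` -/
theorem eq_of_card_mul_dvd {E C A B : Subgroup G} (hCE : C ≤ E) (hA : A ≤ C) (hB : B ≤ C)
    (hcard : Nat.card A * Nat.card B = Nat.card E) (hcop : (Nat.card A).Coprime (Nat.card B)) :
    C = E := by
  apply Subgroup.eq_of_le_of_card_ge hCE
  apply Nat.le_of_dvd Nat.card_pos
  rw [← hcard]
  exact Nat.Coprime.mul_dvd_of_dvd_of_dvd hcop (Subgroup.card_dvd_of_le hA)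
    (Subgroup.card_dvd_of_le hB)

/-- a Hall `κ`-subgroup `K ≤ F` equals `F` when all primes of `F` are in `κ` -/
theorem eq_of_hall_of_le {π : Set ℕ} {M K F : Subgroup G} (hK : IsPiHallOf π K M) (hKF : K ≤ F)
    (hFM : F ≤ M) (hF : ∀ p : ℕ, p.Prime → p ∣ Nat.card F → p ∈ π) : K = F := by
  apply Subgroup.eq_of_le_of_card_ge hKF
  apply Nat.le_of_dvd Nat.card_pos
  have h1 : Nat.card K * K.relIndex M = Nat.card M :=
    Cfsg.Agent.Lib.Helper54.card_mul_relIndex hK.1
  have h2 : Nat.card F ∣ Nat.card K * K.relIndex M := by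
    rw [h1]; exact Subgroup.card_dvd_of_le hFM
  have hcop : (Nat.card F).Coprime (K.relIndex M) := by
    apply Nat.coprime_of_dvd
    intro k hk hk1 hk2
    exact hK.2.2 k hk (hF k hk hk1) hk2
  exact hcop.dvd_of_dvd_mul_right h2

/-- **BG Corollary 13.5**: the (cyclic) Hall `τ₁(M)`-subgroup `E₁` of a complement `E` acts in a prime
manner on `M_σ`; from S1427 and S1428. -/
theorem semiprime_E1 (hG : IsMinSimpleOddOrder G) (M : Subgroup G) {E : Subgroup G}
    (hE : IsComplIn E (sigmaCore M) M)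
    (h1427 : ∀ (p : ℕ) [Fact p.Prime] (S : Sylow p E), (S : Subgroup E) ≠ ⊥ →
      IsCyclic (S : Subgroup E) → ∀ x ∈ (S : Subgroup E).map E.subtype, x ≠ 1 →
        sigmaCore M ⊓ Subgroup.centralizer ({x} : Set G) =
          sigmaCore M ⊓ Subgroup.centralizer
            (((S : Subgroup E).map E.subtype : Subgroup G) : Set G))
    (h1428 : ∀ (p : ℕ), p ∈ tau1 M → ∀ P : Subgroup G, P ≤ E → Nat.card P = p →
      ∀ R : Subgroup G, R ≤ E ⊓ Subgroup.centralizer (P : Set G) → (Nat.card R).Prime →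
        sigmaCore M ⊓ Subgroup.centralizer (P : Set G) ≤
          sigmaCore M ⊓ Subgroup.centralizer (R : Set G))
    {E₁ : Subgroup G} (hE₁ : IsPiHallOf (tau1 M) E₁ E) (hE₁c : IsCyclic E₁) :
    ∀ x ∈ E₁, x ≠ 1 → sigmaCore M ⊓ Subgroup.centralizer ({x} : Set G) =
      sigmaCore M ⊓ Subgroup.centralizer (E₁ : Set G) := by
  intro x hx hx1
  have hcomm : ∀ a ∈ E₁, ∀ b ∈ E₁, a * b = b * a := by
    intro a ha b hb
    have := (IsCyclic.isMulCommutative (α := ↥E₁)).is_comm.comm ⟨a, ha⟩ ⟨b, hb⟩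
    exact congrArg Subtype.val this
  apply le_antisymm
  · rintro c ⟨hcM, hcx⟩
    refine ⟨hcM, ?_⟩
    apply Subgroup.mem_centralizer_iff.mpr
    obtain ⟨p, z, hp, hz, hzx⟩ := exists_prime_orderOf_mem_zpowers hx1
    set P := Subgroup.zpowers z with hP
    have hPcard : Nat.card P = p := by rw [Nat.card_zpowers, hz]
    have hzE₁ : z ∈ E₁ := ((Subgroup.zpowers_le).mpr hx) hzx
    have hPE₁ : P ≤ E₁ := (Subgroup.zpowers_le).mpr hzE₁
    have hpτ : p ∈ tau1 M := hE₁.2.1 p hp (hPcard ▸ Subgroup.card_dvd_of_le hPE₁)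
    have hcP : c ∈ sigmaCore M ⊓ Subgroup.centralizer (P : Set G) := by
      refine ⟨hcM, ?_⟩
      apply Subgroup.mem_centralizer_iff.mpr
      intro h hh
      have hhx : h ∈ Subgroup.zpowers x := ((Subgroup.zpowers_le).mpr hzx) hh
      obtain ⟨k, rfl⟩ := Subgroup.mem_zpowers_iff.mp hhx
      have hc : Commute c x := Subgroup.mem_centralizer_singleton_iff.mp hcx
      exact ((hc.zpow_right k).eq).symm
    intro e he
    revert e
    apply commute_of_forall_prime_pow
    rintro e he he1 ⟨r, j, hr, hej⟩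
    have : Fact r.Prime := ⟨hr⟩
    have hj0 : j ≠ 0 := by
      rintro rfl
      rw [pow_zero] at hej
      exact he1 (orderOf_eq_one_iff.mp hej)
    set zr := e ^ (r ^ (j - 1)) with hzr
    have hzro : orderOf zr = r := by
      rw [hzr, orderOf_pow_of_dvd (pow_ne_zero _ hr.ne_zero)
        (hej ▸ pow_dvd_pow r (Nat.sub_le j 1)), hej, Nat.pow_div (Nat.sub_le j 1) hr.pos]
      have : j - (j - 1) = 1 := by omega
      rw [this, pow_one]
    have hzrE₁ : zr ∈ E₁ := E₁.pow_mem he _
    have hzr1 : zr ≠ 1 := by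
      intro h
      rw [h, orderOf_one] at hzro
      exact hr.one_lt.ne hzro
    have hzre : zr ∈ Subgroup.zpowers e := Subgroup.npow_mem_zpowers e _
    set R := Subgroup.zpowers zr with hR
    have hRcard : Nat.card R = r := by rw [Nat.card_zpowers, hzro]
    have hRE₁ : R ≤ E₁ := (Subgroup.zpowers_le).mpr hzrE₁
    have hRle : R ≤ E ⊓ Subgroup.centralizer (P : Set G) := by
      refine le_inf (hRE₁.trans hE₁.1) ?_
      intro w hw
      apply Subgroup.mem_centralizer_iff.mpr
      intro h hh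
      exact hcomm h (hPE₁ hh) w (hRE₁ hw)
    have h28 := h1428 p hpτ P (hPE₁.trans hE₁.1) hPcard R hRle (by rw [hRcard]; exact hr) hcP
    have hczr : c ∈ sigmaCore M ⊓ Subgroup.centralizer ({zr} : Set G) := by
      refine ⟨hcM, ?_⟩
      apply Subgroup.mem_centralizer_singleton_iff.mpr
      exact ((Subgroup.mem_centralizer_iff.mp h28.2) zr (Subgroup.mem_zpowers zr)).symm
    have hep : IsPGroup r (Subgroup.zpowers e) :=
      IsPGroup.of_card (n := j) (by rw [Nat.card_zpowers, hej])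
    obtain ⟨S, hS⟩ := Cfsg.Agent.Lib.Helper34.exists_sylow_map_ge hep
      ((Subgroup.zpowers_le).mpr (hE₁.1 he))
    have hSne : (S : Subgroup E) ≠ ⊥ := by
      intro h
      have h1 : e ∈ (S : Subgroup E).map E.subtype := hS (Subgroup.mem_zpowers e)
      rw [h, Subgroup.map_bot, Subgroup.mem_bot] at h1
      exact he1 h1
    have hrE₁ : r ∣ Nat.card E₁ := by
      have h1 : orderOf e ∣ Nat.card E₁ := Subgroup.orderOf_dvd_natCard E₁ he
      rw [hej] at h1
      exact (dvd_pow_self r hj0).trans h1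
    have hrτ : r ∈ tau1 M := hE₁.2.1 r hr hrE₁
    have hScyc : IsCyclic (S : Subgroup E) :=
      isCyclic_sylow_of_rank_one hE.1 (ne_two_of_dvd_card hG hrE₁) hrτ.2.2.2.2 S
    have h27 := h1427 r S hSne hScyc zr (hS hzre) hzr1
    rw [h27] at hczr
    exact (Subgroup.mem_centralizer_iff.mp hczr.2) e (hS (Subgroup.mem_zpowers e))
  · exact inf_le_inf_left _ (Subgroup.centralizer_le (Set.singleton_subset_iff.mpr hx))

end Cfsg.Agent.Lib.Helper96.BG142
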