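/-
helper96: the statements of Bender–Glauberman Section 13 (not rows of the list) that the proof of
Proposition 14.2 (S1430 / S1431) consumes, as named propositions.  Each is meant for a minimal simple
group `G` of odd order and is quantified over all maximal subgroups `M` and all complements `E` of
`M_σ` in `M`.
-/
import Mathlib
import Cfsg.Prelude.Def_OddOrderLocal

set_option autoImplicit false

namespace Cfsg.Agent.Lib.Helper96.BG142

open Cfsg

universe u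

/-- **BG Lemma 13.6** (`cent_cent_Msigma_tau1_uniq`): `p ∈ τ₁(M)`, `P ≤ E` of order `p`, `X ≤ C_{M_σ}(P)`
of prime order `q`.  Then `𝓜(C_G(X)) = {M}` and `𝓜(S) = {M}` for every Sylow `q`-subgroup `S` of
`M_σ`. -/
def H136 (G : Type u) [Group G] : Prop :=
  ∀ (M : Subgroup G), IsCoatom M → ∀ E : Subgroup G, IsComplIn E (sigmaCore M) M →
    ∀ (p : ℕ), p ∈ tau1 M → ∀ P : Subgroup G, P ≤ E → Nat.card P = p →
    ∀ (q : ℕ) [Fact q.Prime] (X : Subgroup G),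
      X ≤ sigmaCore M ⊓ Subgroup.centralizer (P : Set G) → Nat.card X = q →
      (Subgroup.centralizer (X : Set G) ≤ M ∧
        ∀ L : Subgroup G, IsCoatom L → Subgroup.centralizer (X : Set G) ≤ L → L = M) ∧
      ∀ S : Sylow q ↥(sigmaCore M),
        InUniqueMaximal ((S : Subgroup ↥(sigmaCore M)).map (sigmaCore M).subtype)

/-- **BG Lemma 13.10(b)** (`tau13_regular`): `p ∈ τ₁(M)`, `P ≤ E` of order `p` not centralizing the Hall
`τ₃(M)`-subgroup `E₃` of `E`.  Then `E₃` acts regularly on `M_σ`. -/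
def H1310b (G : Type u) [Group G] : Prop :=
  ∀ (M : Subgroup G), IsCoatom M → ∀ E : Subgroup G, IsComplIn E (sigmaCore M) M →
    ∀ (p : ℕ), p ∈ tau1 M → ∀ P : Subgroup G, P ≤ E → Nat.card P = p →
    ∀ E₃ : Subgroup G, IsPiHallOf (tau3 M) E₃ E → ¬ P ≤ Subgroup.centralizer (E₃ : Set G) →
      ∀ x ∈ E₃, x ≠ 1 → sigmaCore M ⊓ Subgroup.centralizer ({x} : Set G) = ⊥

/-- **BG Corollary 13.11** (`tau13_nonregular`): if the Hall `τ₃(M)`-subgroup `E₃` of `E` does not act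
regularly on `M_σ`, then `E₁ ≠ 1`, `E₂ = 1` and `E` acts in a prime manner on `M_σ`. -/
def H1311 (G : Type u) [Group G] : Prop :=
  ∀ (M : Subgroup G), IsCoatom M → ∀ E : Subgroup G, IsComplIn E (sigmaCore M) M →
    ∀ E₃ : Subgroup G, IsPiHallOf (tau3 M) E₃ E →
    (∃ x ∈ E₃, x ≠ 1 ∧ sigmaCore M ⊓ Subgroup.centralizer ({x} : Set G) ≠ ⊥) →
      (∃ p ∈ tau1 M, p ∣ Nat.card E) ∧ (∀ q ∈ tau2 M, ¬ q ∣ Nat.card E) ∧
      ∀ e ∈ E, e ≠ 1 → sigmaCore M ⊓ Subgroup.centralizer ({e} : Set G) =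
        sigmaCore M ⊓ Subgroup.centralizer (E : Set G)

/-- **BG Lemma 13.12** (`tau12_regular`): `p ∈ τ₁(M)`, `P ≤ E` of order `p`, `q ∈ τ₂(M)`, `A ≤ E`
elementary abelian of order `q ^ 2` with `C_A(P) ≠ 1`.  Then `C_{M_σ}(P) = 1`. -/
def H1312 (G : Type u) [Group G] : Prop :=
  ∀ (M : Subgroup G), IsCoatom M → ∀ E : Subgroup G, IsComplIn E (sigmaCore M) M →
    ∀ (p : ℕ), p ∈ tau1 M → ∀ P : Subgroup G, P ≤ E → Nat.card P = p →
    ∀ (q : ℕ), q ∈ tau2 M → ∀ A : Subgroup G, A ≤ E → IsElementaryAbelian q A →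
      Nat.card A = q ^ 2 → A ⊓ Subgroup.centralizer (P : Set G) ≠ ⊥ →
      sigmaCore M ⊓ Subgroup.centralizer (P : Set G) = ⊥

/-- **Step A** (part of BG Proposition 14.2(c)): `p ∈ τ₁(M) ∪ τ₃(M)`, `X ≤ M` of order `p` with
`C_{M_σ}(X) ≠ 1`, `H` a maximal subgroup containing `N_G(X)`.  Then `p ∈ σ(H)`. -/
def HStepA (G : Type u) [Group G] : Prop :=
  ∀ (M : Subgroup G), IsCoatom M → ∀ (p : ℕ), p ∈ tau1 M ∪ tau3 M → ∀ X : Subgroup G, X ≤ M →
    Nat.card X = p → sigmaCore M ⊓ Subgroup.centralizer (X : Set G) ≠ ⊥ →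
    ∀ H : Subgroup G, IsCoatom H → Subgroup.normalizer (X : Set G) ≤ H → p ∈ sigma H

end Cfsg.Agent.Lib.Helper96.BG142
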