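/-
helper96: Bender–Glauberman Proposition 14.2 (S1430 / S1431): the structural package in the two cases
(`E₃` acts regularly on `M_σ` or not), and the two statements, conditional on S-rows of Sections 10–13
and on the non-row lemmas 13.6, 13.10(b), 13.11, 13.12 and Step A (`BGFourteenTwoHyp`).
-/
import Mathlib
import Cfsg.Prelude.Def_OddOrderLocal
import Cfsg.Agent.Lib.Helper96.BGFourteenTwoC
import Cfsg.Agent.Lib.Helper96.BGFourteenTwoHyp
import Cfsg.Agent.Lib.Helper50.Lemma141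
import Cfsg.Agent.Lib.Helper54.BGElevenB

set_option autoImplicit false

namespace Cfsg.Agent.Lib.Helper96.BG142

open Cfsg
open Cfsg.Agent.Lib.Helper34 (UniquenessThm)
open Cfsg.Agent.Lib.Helper62 (IsPiNum IsPiPrimeNum)

universe u

variable {G : Type u} [Group G] [Finite G]

omit [Finite G] in
theorem not_mem_tau3_of_mem_tau1 {M : Subgroup G} {p : ℕ} (h1 : p ∈ tau1 M) : p ∉ tau3 M :=
  fun h3 => h1.2.2.2.1 h3.2.2.1

/-- orders of the Hall `τ₁`- and `τ₃`-subgroups of `E` when `π(E) ⊆ τ₁ ∪ τ₃` -/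
theorem card_hall13 {M E E₁ E₃ : Subgroup G}
    (h13 : ∀ p : ℕ, p.Prime → p ∣ Nat.card E → p ∈ tau1 M ∪ tau3 M)
    (hE₁ : IsPiHallOf (tau1 M) E₁ E) (hE₃ : IsPiHallOf (tau3 M) E₃ E) :
    Nat.card E₁ * Nat.card E₃ = Nat.card E ∧ (Nat.card E₁).Coprime (Nat.card E₃) := by
  have h1 : Nat.card E₁ * E₁.relIndex E = Nat.card E :=
    Cfsg.Agent.Lib.Helper62.isPiHallOf_card_mul hE₁
  have hm : IsPiNum (tau3 M) (E₁.relIndex E) := by
    intro p hp hpd
    have hpE : p ∣ Nat.card E := h1 ▸ Dvd.dvd.mul_left hpd _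
    rcases h13 p hp hpE with h | h
    · exact absurd hpd (hE₁.2.2 p hp h)
    · exact h
  have hn : IsPiPrimeNum (tau3 M) (Nat.card E₁) := by
    intro p hp h3 hpd
    exact not_mem_tau3_of_mem_tau1 (hE₁.2.1 p hp hpd) h3
  have h3 : Nat.card E₃ = E₁.relIndex E :=
    Cfsg.Agent.Lib.Helper62.isPiHallOf_card_eq_of_card_mul hE₃
      (by rw [mul_comm]; exact h1.symm) hm hn
  refine ⟨by rw [h3]; exact h1, ?_⟩
  apply Cfsg.Agent.Lib.Helper62.coprime_of_pi (π := tau1 M) hE₁.2.1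
  intro p hp h1' hpd
  exact not_mem_tau3_of_mem_tau1 h1' (hE₃.2.1 p hp hpd)

omit [Finite G] in
theorem comm_of_isCyclic {C : Subgroup G} (hC : IsCyclic C) : ∀ a ∈ C, ∀ b ∈ C, a * b = b * a := by
  intro a ha b hb
  have := (IsCyclic.isMulCommutative (α := ↥C)).is_comm.comm ⟨a, ha⟩ ⟨b, hb⟩
  exact congrArg Subtype.val this

omit [Finite G] in
theorem isPGroup_of_card_prime {X : Subgroup G} (hXp : (Nat.card X).Prime) :
    IsPGroup (Nat.card X) X := by
  have : Fact (Nat.card X).Prime := ⟨hXp⟩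
  exact IsPGroup.of_card (n := 1) (by rw [pow_one])

/-- **Case A** of BG Proposition 14.2: the Hall `τ₃(M)`-subgroup of `E` does not act regularly. -/
theorem core_caseA (hG : IsMinSimpleOddOrder G) (hU : UniquenessThm G) (M : Subgroup G)
    (hM : IsCoatom M) {E : Subgroup G} (hE : IsComplIn E (sigmaCore M) M)
    (h1415 : (∀ E₁ : Subgroup G, IsPiHallOf (tau1 M) E₁ E → IsCyclic E₁) ∧
      ∀ E₃ : Subgroup G, IsPiHallOf (tau3 M) E₃ E →
        IsCyclic E₃ ∧ E ≤ Subgroup.normalizer (E₃ : Set G))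
    (h10 : H1310b G) (h11 : H1311 G)
    {K : Subgroup G} (hK : IsPiHallOf (kappa M) K M) (hKE : K ≤ E)
    {E₃ : Subgroup G} (hE₃ : IsPiHallOf (tau3 M) E₃ E)
    (hcase : ∃ x ∈ E₃, x ≠ 1 ∧ sigmaCore M ⊓ Subgroup.centralizer ({x} : Set G) ≠ ⊥) :
    Core M K E ⊥ ∧
      IsPiHallOf {q | q.Prime ∧ q ∉ kappa M ∧ q ∉ sigma M} (⊥ : Subgroup G) M ∧
      sigmaCore M ⊓ Subgroup.centralizer (K : Set G) ≠ ⊥ ∧
      ∃ P : Subgroup G, P ≤ K ∧ Nat.card P ∈ tau1 M := by
  obtain ⟨⟨p1, hp1τ, hp1E⟩, hno2, hsemi⟩ := h11 M hM E hE E₃ hE₃ hcase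
  obtain ⟨x0, hx0E₃, hx01, hx0C⟩ := hcase
  have hEM : E ≤ M := hE.1
  have hEs : Group.IsSolvable E := hG.2.2.2 E (fun h => hM.1 (top_le_iff.mp (h ▸ hEM)))
  obtain ⟨hE₃c, hE₃n⟩ := h1415.2 E₃ hE₃
  have hKsE : sigmaCore M ⊓ Subgroup.centralizer (E : Set G) ≠ ⊥ := by
    rw [← hsemi x0 (hE₃.1 hx0E₃) hx01]; exact hx0C
  have hprime13 : ∀ p : ℕ, p.Prime → p ∣ Nat.card E → p ∈ tau1 M ∪ tau3 M := by
    intro p hp hpE
    rcases tau_trichotomy hG hU M hM hE hp hpE with h | h | h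
    · exact Or.inl h
    · exact absurd hpE (hno2 p h)
    · exact Or.inr h
  have hκ : ∀ p : ℕ, p.Prime → p ∣ Nat.card E → p ∈ kappa M := by
    intro p hp hpE
    have : Fact p.Prime := ⟨hp⟩
    obtain ⟨x, hx⟩ := exists_prime_orderOf_dvd_card' p hpE
    have hxo : orderOf (x : G) = p := by rw [Subgroup.orderOf_coe]; exact hx
    have hx1 : (x : G) ≠ 1 := by
      intro h; rw [h, orderOf_one] at hxo; exact hp.one_lt.ne hxo
    have hC : sigmaCore M ⊓ Subgroup.centralizer ({(x : G)} : Set G) ≠ ⊥ := by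
      rw [hsemi x x.2 hx1]; exact hKsE
    obtain ⟨⟨y, hy⟩, hy1⟩ := (Subgroup.ne_bot_iff_exists_ne_one).mp hC
    have hpσ := not_mem_sigma_of_dvd_card_compl hG hU M hM hE hp hpE
    refine mem_kappa_of (ne_two_of_dvd_card hG hpE) hpσ (rank_one_of_tau13 (hprime13 p hp hpE))
      (hEM x.2) hx1 (IsPGroup.of_card (n := 1) (by rw [Nat.card_zpowers, hxo, pow_one])) hy.1
      (fun h => hy1 (Subtype.ext h)) ?_
    exact (Subgroup.mem_centralizer_singleton_iff.mp hy.2).symm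
  have hKE' : K = E := eq_of_hall_of_le hK hKE hEM hκ
  have hnorm : ∀ X : Subgroup G, X ≤ E → (Nat.card X).Prime →
      E ≤ Subgroup.normalizer (X : Set G) := by
    intro X hXE hXp
    have hpE : Nat.card X ∣ Nat.card E := Subgroup.card_dvd_of_le hXE
    have hXπ : ∀ {π : Set ℕ}, Nat.card X ∈ π → ∀ q : ℕ, q.Prime → q ∣ Nat.card X → q ∈ π := by
      intro π hπ q hq hqX
      rw [(Nat.prime_dvd_prime_iff_eq hq hXp).mp hqX]; exact hπ
    rcases hprime13 _ hXp hpE with hτ | hτ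
    · have hXc : X ≤ Subgroup.centralizer (E₃ : Set G) := by
        by_contra hnc
        exact hx0C (h10 M hM E hE _ hτ X hXE rfl E₃ hE₃ hnc x0 hx0E₃ hx01)
      obtain ⟨E₁, hE₁, hXE₁⟩ :=
        Cfsg.Agent.Lib.Helper62.isPiHallOf_dom (π := tau1 M) hEs hXE (hXπ hτ)
      have hcomm := comm_of_isCyclic (h1415.1 E₁ hE₁)
      obtain ⟨hcard, hcop⟩ := card_hall13 hprime13 hE₁ hE₃
      have hC : E ⊓ Subgroup.centralizer (X : Set G) = E := by
        apply eq_of_card_mul_dvd inf_le_left (A := E₁) (B := E₃) _ _ hcard hcop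
        · exact le_inf hE₁.1 (fun a ha => Subgroup.mem_centralizer_iff.mpr
            (fun h hh => hcomm h (hXE₁ hh) a ha))
        · exact le_inf hE₃.1 (Subgroup.le_centralizer_iff.mp hXc)
      intro e he
      have he' : e ∈ E ⊓ Subgroup.centralizer (X : Set G) := by rw [hC]; exact he
      exact Subgroup.centralizer_le_normalizer _ he'.2
    · have hXE₃ : X ≤ E₃ := le_hall_of_normal hE₃ hE₃n hXE (hXπ hτ)
      intro e he
      apply mem_normalizer_of_map_conj_eq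
      apply Cfsg.Agent.Lib.Helper82.NilAbel.eq_of_card_eq_of_le_cyclic hE₃c _ hXE₃
        (Subgroup.card_map_of_injective (MulAut.conj e).injective)
      rintro _ ⟨a, ha, rfl⟩
      exact (Subgroup.mem_normalizer_iff.mp (hE₃n he) a).mp (hXE₃ ha)
  have huniq : ∀ X X' : Subgroup G, X ≤ E → X' ≤ E → (Nat.card X).Prime →
      Nat.card X' = Nat.card X → X' = X := by
    intro X X' hXE hX'E hXp hcard
    have : Fact (Nat.card X).Prime := ⟨hXp⟩
    have hXpg : IsPGroup (Nat.card X) X := isPGroup_of_card_prime hXp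
    have hX'pg : IsPGroup (Nat.card X) X' := IsPGroup.of_card (n := 1) (by rw [pow_one, hcard])
    have hsup : IsPGroup (Nat.card X) ↥(X' ⊔ X) :=
      IsPGroup.to_sup_of_normal_right' hX'pg hXpg (hX'E.trans (hnorm X hXE hXp))
    have hpE := Subgroup.card_dvd_of_le hXE
    have hcyc : IsCyclic ↥(X' ⊔ X) :=
      isCyclic_of_rank_one (ne_two_of_dvd_card hG hpE) (rank_one_of_tau13 (hprime13 _ hXp hpE))
        ((sup_le hX'E hXE).trans hEM) hsup
    exact Cfsg.Agent.Lib.Helper82.NilAbel.eq_of_card_eq_of_le_cyclic hcyc le_sup_left le_sup_right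
      hcard
  refine ⟨⟨hE, hKE, ?_, ?_, ?_, ?_, ?_, ?_, ?_⟩, ?_, ?_, ?_⟩
  · intro e he
    exact ⟨1, Subgroup.one_mem _, e, by rw [hKE']; exact he, (one_mul e).symm⟩
  · exact inf_bot_eq _
  · intro k _ u hu
    rw [Subgroup.mem_bot] at hu ⊢
    rw [hu]; group
  · intro k _ _ u hu _
    exact Subgroup.mem_bot.mp hu
  · intro k hk hk1
    rw [hKE']; exact hsemi k (hKE hk) hk1
  · intro X hXK hXp
    rw [hKE']; exact hnorm X (hXK.trans hKE) hXp
  · intro X X' hXK hX'K hXp hcard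
    exact huniq X X' (hXK.trans hKE) (hX'K.trans hKE) hXp hcard
  · refine ⟨bot_le, ?_, ?_⟩
    · intro p hp hpd
      rw [Subgroup.card_bot] at hpd
      exact absurd (Nat.dvd_one.mp hpd) hp.one_lt.ne'
    · rintro p hp ⟨-, hpκ, hpσ⟩ hpd
      rw [Subgroup.relIndex_bot_left, Cfsg.Agent.Lib.Helper23.card_of_isComplIn hE] at hpd
      rcases (Nat.Prime.dvd_mul hp).mp hpd with h | h
      · exact hpκ (hκ p hp h)
      · exact hpσ (Cfsg.Agent.Lib.Helper54.sigmaCore_isPi M p hp h)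
  · rw [hKE']; exact hKsE
  · have hp1 : p1.Prime := hp1τ.1
    have : Fact p1.Prime := ⟨hp1⟩
    obtain ⟨x, hx⟩ := exists_prime_orderOf_dvd_card' p1 hp1E
    refine ⟨Subgroup.zpowers (x : G), ?_, ?_⟩
    · rw [hKE']; exact (Subgroup.zpowers_le).mpr x.2
    · rw [Nat.card_zpowers, Subgroup.orderOf_coe, hx]; exact hp1τ

end Cfsg.Agent.Lib.Helper96.BG142
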