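/-
helper96: Bender–Glauberman Proposition 14.2 (S1430 / S1431): Case B (the Hall `τ₃(M)`-subgroup of `E`
acts regularly on `M_σ`), and the final conditional theorems `s1430_of`, `s1431_of`.
-/
import Mathlib
import Cfsg.Prelude.Def_OddOrderLocal
import Cfsg.Agent.Lib.Helper96.BGFourteenTwoD

set_option autoImplicit false

namespace Cfsg.Agent.Lib.Helper96.BG142

open Cfsg
open scoped commutatorElement
open Cfsg.Agent.Lib.Helper34 (UniquenessThm)
open Cfsg.Agent.Lib.Helper62 (IsPiNum IsPiPrimeNum)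

universe u

variable {G : Type u} [Group G] [Finite G]

/-- **Case B** of BG Proposition 14.2: the Hall `τ₃(M)`-subgroup of `E` acts regularly on `M_σ`. -/
theorem core_caseB (hG : IsMinSimpleOddOrder G) (hU : UniquenessThm G) (M : Subgroup G)
    (hM : IsCoatom M) {E : Subgroup G} (hE : IsComplIn E (sigmaCore M) M)
    (h1415 : (∀ E₁ : Subgroup G, IsPiHallOf (tau1 M) E₁ E → IsCyclic E₁) ∧
      ∀ E₃ : Subgroup G, IsPiHallOf (tau3 M) E₃ E →
        IsCyclic E₃ ∧ E ≤ Subgroup.normalizer (E₃ : Set G))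
    (h1418 : ∀ (p : ℕ) [Fact p.Prime], p ∈ tau2 M → ∀ A : Subgroup G, A ≤ E →
      IsElementaryAbelian p A → Nat.card A = p ^ 2 →
        ∀ X : Subgroup G, X ≤ E → Nat.card X = p → X ≤ A)
    (h1420a : ∀ N : Subgroup G, N ≤ M → Group.IsNilpotent N →
      (∀ p : ℕ, p.Prime → p ∣ Nat.card N → p ∉ sigma M) → IsMulCommutative N)
    (h1427 : ∀ (p : ℕ) [Fact p.Prime] (S : Sylow p E), (S : Subgroup E) ≠ ⊥ →
      IsCyclic (S : Subgroup E) → ∀ x ∈ (S : Subgroup E).map E.subtype, x ≠ 1 →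
        sigmaCore M ⊓ Subgroup.centralizer ({x} : Set G) =
          sigmaCore M ⊓ Subgroup.centralizer
            (((S : Subgroup E).map E.subtype : Subgroup G) : Set G))
    (h1428 : ∀ (p : ℕ), p ∈ tau1 M → ∀ P : Subgroup G, P ≤ E → Nat.card P = p →
      ∀ R : Subgroup G, R ≤ E ⊓ Subgroup.centralizer (P : Set G) → (Nat.card R).Prime →
        sigmaCore M ⊓ Subgroup.centralizer (P : Set G) ≤
          sigmaCore M ⊓ Subgroup.centralizer (R : Set G))
    (h12 : H1312 G)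
    {K : Subgroup G} (hK : IsPiHallOf (kappa M) K M) (hK1 : K ≠ ⊥) (hKE : K ≤ E)
    {E₃ : Subgroup G} (hE₃ : IsPiHallOf (tau3 M) E₃ E)
    (hreg : ∀ x ∈ E₃, x ≠ 1 → sigmaCore M ⊓ Subgroup.centralizer ({x} : Set G) = ⊥) :
    ∃ U : Subgroup G, Core M K E U ∧ IsMulCommutative U ∧
      IsPiHallOf {q | q.Prime ∧ q ∉ kappa M ∧ q ∉ sigma M} U M ∧
      sigmaCore M ⊓ Subgroup.centralizer (K : Set G) ≠ ⊥ ∧
      ∃ P : Subgroup G, P ≤ K ∧ Nat.card P ∈ tau1 M := by
  have hEM : E ≤ M := hE.1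
  have hEs : Group.IsSolvable E := hG.2.2.2 E (fun h => hM.1 (top_le_iff.mp (h ▸ hEM)))
  obtain ⟨hE₃c, hE₃n⟩ := h1415.2 E₃ hE₃
  -- `κ(M) ⊆ τ₁(M)`
  have hκτ : ∀ p ∈ kappa M, p ∈ tau1 M := by
    intro p hpκ
    rcases kappa_subset hpκ with h | h
    · exact h
    · exfalso
      have : Fact p.Prime := ⟨hpκ.1⟩
      obtain ⟨Q⟩ : Nonempty (Sylow p E) := inferInstance
      obtain ⟨x, hxQ, hx1, hxC⟩ := exists_nonreg_of_mem_kappa hG hU M hM hE hpκ Q
      have hQE₃ : (Q : Subgroup E).map E.subtype ≤ E₃ := by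
        apply le_hall_of_normal hE₃ hE₃n (Subgroup.map_subtype_le _)
        intro q hq hqd
        have hQp : IsPGroup p ((Q : Subgroup E).map E.subtype) := Q.2.map _
        obtain ⟨n, hn⟩ := hQp.exists_card_eq
        rw [hn] at hqd
        rw [(Nat.prime_dvd_prime_iff_eq hq hpκ.1).mp (hq.dvd_of_dvd_pow hqd)]
        exact h
      exact hxC (hreg x (hQE₃ hxQ) hx1)
  -- the Hall `τ₁`-subgroup containing `K`
  obtain ⟨E₁, hE₁, hKE₁⟩ := Cfsg.Agent.Lib.Helper62.isPiHallOf_dom (π := tau1 M) hEs hKE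
    (fun p hp hpd => hκτ p (hK.2.1 p hp hpd))
  have hE₁c := h1415.1 E₁ hE₁
  have hsemi := semiprime_E1 hG M hE h1427 h1428 hE₁ hE₁c
  -- an element of prime order in `K`
  obtain ⟨⟨k, hk⟩, hk1'⟩ := (Subgroup.ne_bot_iff_exists_ne_one).mp hK1
  have hk1 : k ≠ 1 := fun h => hk1' (Subtype.ext h)
  obtain ⟨p, z, hp, hz, hzk⟩ := exists_prime_orderOf_mem_zpowers hk1
  have : Fact p.Prime := ⟨hp⟩
  have hzK : z ∈ K := ((Subgroup.zpowers_le).mpr hk) hzk
  have hz1 : z ≠ 1 := by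
    intro h; rw [h, orderOf_one] at hz; exact hp.one_lt.ne hz
  have hpK : p ∣ Nat.card K := hz ▸ Subgroup.orderOf_dvd_natCard K hzK
  have hpκ : p ∈ kappa M := hK.2.1 p hp hpK
  have hpτ : p ∈ tau1 M := hκτ p hpκ
  have hzC : sigmaCore M ⊓ Subgroup.centralizer ({z} : Set G) ≠ ⊥ := by
    have hzp : IsPGroup p (Subgroup.zpowers z) :=
      IsPGroup.of_card (n := 1) (by rw [Nat.card_zpowers, hz, pow_one])
    obtain ⟨Q, hQ⟩ := Cfsg.Agent.Lib.Helper34.exists_sylow_map_ge hzp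
      ((Subgroup.zpowers_le).mpr (hKE hzK))
    obtain ⟨x, hxQ, hx1, hxC⟩ := exists_nonreg_of_mem_kappa hG hU M hM hE hpκ Q
    have hQne : (Q : Subgroup E) ≠ ⊥ := by
      intro h
      have h1 : z ∈ (Q : Subgroup E).map E.subtype := hQ (Subgroup.mem_zpowers z)
      rw [h, Subgroup.map_bot, Subgroup.mem_bot] at h1
      exact hz1 h1
    have hQc : IsCyclic (Q : Subgroup E) :=
      isCyclic_sylow_of_rank_one hEM (ne_two_of_dvd_card hG hpK) (rank_one_of_mem_kappa hpκ) Q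
    rw [h1427 p Q hQne hQc z (hQ (Subgroup.mem_zpowers z)) hz1,
      ← h1427 p Q hQne hQc x hxQ hx1]
    exact hxC
  have hKs₁ : sigmaCore M ⊓ Subgroup.centralizer (E₁ : Set G) ≠ ⊥ := by
    rw [← hsemi z (hKE₁ hzK) hz1]; exact hzC
  -- all primes of `E₁` lie in `κ(M)`, so `K = E₁`
  have hκ : ∀ r : ℕ, r.Prime → r ∣ Nat.card E₁ → r ∈ kappa M := by
    intro r hr hrE₁
    have : Fact r.Prime := ⟨hr⟩
    obtain ⟨x, hx⟩ := exists_prime_orderOf_dvd_card' r hrE₁
    have hxo : orderOf (x : G) = r := by rw [Subgroup.orderOf_coe]; exact hx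
    have hx1 : (x : G) ≠ 1 := by
      intro h; rw [h, orderOf_one] at hxo; exact hr.one_lt.ne hxo
    have hC : sigmaCore M ⊓ Subgroup.centralizer ({(x : G)} : Set G) ≠ ⊥ := by
      rw [hsemi x x.2 hx1]; exact hKs₁
    obtain ⟨⟨y, hy⟩, hy1⟩ := (Subgroup.ne_bot_iff_exists_ne_one).mp hC
    have hrτ : r ∈ tau1 M := hE₁.2.1 r hr hrE₁
    refine mem_kappa_of (ne_two_of_dvd_card hG hrE₁) hrτ.2.1 hrτ.2.2.2.2
      (hEM (hE₁.1 x.2)) hx1 (IsPGroup.of_card (n := 1) (by rw [Nat.card_zpowers, hxo, pow_one]))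
      hy.1 (fun h => hy1 (Subtype.ext h)) ?_
    exact (Subgroup.mem_centralizer_singleton_iff.mp hy.2).symm
  have hKE₁' : K = E₁ := eq_of_hall_of_le hK hKE₁ (hE₁.1.trans hEM) hκ
  have hKs : sigmaCore M ⊓ Subgroup.centralizer (K : Set G) ≠ ⊥ := by rw [hKE₁']; exact hKs₁
  have hKc : IsCyclic K := by rw [hKE₁']; exact hE₁c
  have hKcomm := comm_of_isCyclic hKc
  -- the normal Hall `τ₁'`-subgroup `U` of `E`
  have hE'E : ⁅E, E⁆ ≤ E := by
    rw [Subgroup.commutator_le]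
    intro a ha b hb
    exact E.mul_mem (E.mul_mem (E.mul_mem ha hb) (E.inv_mem ha)) (E.inv_mem hb)
  obtain ⟨U, hUH, hE'U⟩ := Cfsg.Agent.Lib.Helper62.isPiHallOf_dom (π := (tau1 M)ᶜ) hEs hE'E (by
    intro q hq hqd hq1
    apply hq1.2.2.2.1
    exact hqd.trans (Subgroup.card_dvd_of_le (Subgroup.commutator_mono hEM hEM)))
  have hUE : U ≤ E := hUH.1
  have hnormU : ∀ e ∈ E, ∀ u ∈ U, e * u * e⁻¹ ∈ U := by
    intro e he u hu
    have h1 : ⁅e, u⁆ ∈ U := hE'U (Subgroup.commutator_mem_commutator he (hUE hu))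
    have h2 : e * u * e⁻¹ = ⁅e, u⁆ * u := by rw [commutatorElement_def]; group
    rw [h2]; exact U.mul_mem h1 hu
  have hKU : K ⊓ U = ⊥ :=
    Cfsg.Agent.Lib.Helper54.inf_eq_bot_of_isPi_disjoint (π₁ := tau1 M) (π₂ := (tau1 M)ᶜ)
      (fun r hr hrd => hκτ r (hK.2.1 r hr hrd)) hUH.2.1 (fun r hr hr' => hr' hr)
  have hcardUK : Nat.card U * Nat.card K = Nat.card E := by
    have h1 : Nat.card U * U.relIndex E = Nat.card E :=
      Cfsg.Agent.Lib.Helper62.isPiHallOf_card_mul hUH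
    have hm : IsPiNum (tau1 M) (U.relIndex E) := by
      intro q hq hqd
      by_contra hq1
      exact hUH.2.2 q hq hq1 hqd
    have hn : IsPiPrimeNum (tau1 M) (Nat.card U) := fun q hq hq1 hqd => hUH.2.1 q hq hqd hq1
    have h3 : Nat.card E₁ = U.relIndex E :=
      Cfsg.Agent.Lib.Helper62.isPiHallOf_card_eq_of_card_mul hE₁
        (by rw [mul_comm]; exact h1.symm) hm hn
    rw [hKE₁', h3]; exact h1
  have hcopUK : (Nat.card U).Coprime (Nat.card K) := by
    apply Nat.coprime_of_dvd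
    intro q hq hqU hqK
    exact hUH.2.1 q hq hqU (hκτ q (hK.2.1 q hq hqK))
  have hprod : ∀ e ∈ E, ∃ u ∈ U, ∃ k ∈ K, e = u * k := by
    have hUc : Nat.card (U.subgroupOf E) = Nat.card U :=
      Nat.card_congr (Subgroup.subgroupOfEquivOfLe hUE).toEquiv
    have hKc' : Nat.card (K.subgroupOf E) = Nat.card K :=
      Nat.card_congr (Subgroup.subgroupOfEquivOfLe hKE).toEquiv
    have hcompl : Subgroup.IsComplement' (U.subgroupOf E) (K.subgroupOf E) :=
      Subgroup.isComplement'_of_coprime (by rw [hUc, hKc', hcardUK])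
        (by rw [hUc, hKc']; exact hcopUK)
    intro e he
    obtain ⟨⟨⟨a, ha⟩, ⟨b, hb⟩⟩, hab, -⟩ :=
      (Subgroup.isComplement_iff_existsUnique.mp hcompl) ⟨e, he⟩
    simp only at hab
    refine ⟨(a : G), Subgroup.mem_subgroupOf.mp ha, (b : G), Subgroup.mem_subgroupOf.mp hb, ?_⟩
    have := congrArg Subtype.val hab
    simpa using this.symm
  -- `K` acts regularly on `U`
  have hregU : ∀ k ∈ K, k ≠ 1 → ∀ u ∈ U, u * k * u⁻¹ = k → u = 1 := by
    intro k hk hk1 u hu huk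
    by_contra hu1
    obtain ⟨p', z', hp', hz', hzk'⟩ := exists_prime_orderOf_mem_zpowers hk1
    obtain ⟨r, w, hr, hw, hwu⟩ := exists_prime_orderOf_mem_zpowers hu1
    have : Fact r.Prime := ⟨hr⟩
    have hz'K : z' ∈ K := ((Subgroup.zpowers_le).mpr hk) hzk'
    have hwU : w ∈ U := ((Subgroup.zpowers_le).mpr hu) hwu
    have hw1 : w ≠ 1 := by
      intro h; rw [h, orderOf_one] at hw; exact hr.one_lt.ne hw
    have hcomm : Commute u k := by
      show u * k = k * u
      calc u * k = u * k * u⁻¹ * u := by group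
        _ = k * u := by rw [huk]
    have hzw : Commute w z' := by
      obtain ⟨a, rfl⟩ := Subgroup.mem_zpowers_iff.mp hwu
      obtain ⟨b, rfl⟩ := Subgroup.mem_zpowers_iff.mp hzk'
      exact (hcomm.zpow_left a).zpow_right b
    have hp'τ : p' ∈ tau1 M :=
      hκτ p' (hK.2.1 p' hp' (hz' ▸ Subgroup.orderOf_dvd_natCard K hz'K))
    have hPE : Subgroup.zpowers z' ≤ E := (Subgroup.zpowers_le).mpr (hKE hz'K)
    have hPcard : Nat.card (Subgroup.zpowers z') = p' := by rw [Nat.card_zpowers, hz']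
    have hRcard : Nat.card (Subgroup.zpowers w) = r := by rw [Nat.card_zpowers, hw]
    have hRle : Subgroup.zpowers w ≤
        E ⊓ Subgroup.centralizer ((Subgroup.zpowers z' : Subgroup G) : Set G) := by
      refine le_inf ((Subgroup.zpowers_le).mpr (hUE hwU)) ?_
      intro a ha
      apply Subgroup.mem_centralizer_iff.mpr
      intro h hh
      obtain ⟨i, rfl⟩ := Subgroup.mem_zpowers_iff.mp ha
      obtain ⟨j, rfl⟩ := Subgroup.mem_zpowers_iff.mp hh
      exact ((hzw.zpow_left i).zpow_right j).eq.symm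
    have h28 := h1428 p' hp'τ _ hPE hPcard _ hRle (by rw [hRcard]; exact hr)
    have hKsP : sigmaCore M ⊓ Subgroup.centralizer (K : Set G) ≤
        sigmaCore M ⊓ Subgroup.centralizer ((Subgroup.zpowers z' : Subgroup G) : Set G) :=
      inf_le_inf_left _ (Subgroup.centralizer_le
        (SetLike.coe_subset_coe.mpr ((Subgroup.zpowers_le).mpr hz'K)))
    have hrU : r ∣ Nat.card U := hw ▸ Subgroup.orderOf_dvd_natCard U hwU
    have hrE : r ∣ Nat.card E := hrU.trans (Subgroup.card_dvd_of_le hUE)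
    have hrτ1 : r ∉ tau1 M := hUH.2.1 r hr hrU
    rcases tau_trichotomy hG hU M hM hE hr hrE with h | h | h
    · exact hrτ1 h
    · obtain ⟨A, hAE, hAe, hAc⟩ :=
        Cfsg.Agent.Lib.Helper97.BGTwelve.exists_elemAb_sq_of_not_pRankLE_one E
          (Cfsg.Agent.Lib.Helper97.BGTwelve.not_pRankLE_complement hE
            (Cfsg.Agent.Lib.Helper54.sigmaCore_isPi M) h.2.1 h.2.2.2)
      have hRA : Subgroup.zpowers w ≤ A :=
        h1418 r h A hAE hAe hAc _ (hRle.trans inf_le_left) hRcard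
      have hne : A ⊓ Subgroup.centralizer ((Subgroup.zpowers z' : Subgroup G) : Set G) ≠ ⊥ := by
        intro hbot
        have h1 : w ∈ A ⊓ Subgroup.centralizer ((Subgroup.zpowers z' : Subgroup G) : Set G) :=
          ⟨hRA (Subgroup.mem_zpowers w), (hRle (Subgroup.mem_zpowers w)).2⟩
        rw [hbot, Subgroup.mem_bot] at h1
        exact hw1 h1
      have h2 := h12 M hM E hE p' hp'τ _ hPE hPcard r h A hAE hAe hAc hne
      apply hKs
      rw [eq_bot_iff, ← h2]
      exact hKsP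
    · have hwE₃ : w ∈ E₃ := by
        apply le_hall_of_normal hE₃ hE₃n ((Subgroup.zpowers_le).mpr (hUE hwU)) _
          (Subgroup.mem_zpowers w)
        intro q hq hqd
        rw [hRcard] at hqd
        rw [(Nat.prime_dvd_prime_iff_eq hq hr).mp hqd]
        exact h
      have h2 := hreg w hwE₃ hw1
      apply hKs
      rw [eq_bot_iff, ← h2]
      refine (hKsP.trans h28).trans (inf_le_inf_left _ (Subgroup.centralizer_le ?_))
      exact Set.singleton_subset_iff.mpr (Subgroup.mem_zpowers w)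
  -- `U` is nilpotent, hence abelian
  have hUnil : Group.IsNilpotent U := by
    apply Cfsg.Agent.Lib.Helper50.isNilpotent_of_fpf_conj hp U z
    · rw [← hz]; exact pow_orderOf_eq_one z
    · intro y hy
      exact hnormU z (hKE hzK) y hy
    · intro y hy hzy
      apply hregU z hzK hz1 y hy
      rw [← hzy]; group
  have hUσ : ∀ q : ℕ, q.Prime → q ∣ Nat.card U → q ∉ sigma M := fun q hq hqd =>
    not_mem_sigma_of_dvd_card_compl hG hU M hM hE hq (hqd.trans (Subgroup.card_dvd_of_le hUE))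
  have hUab : IsMulCommutative U := h1420a U (hUE.trans hEM) hUnil hUσ
  refine ⟨U, ⟨hE, hKE, hprod, hKU, ?_, hregU, ?_, ?_, ?_⟩, hUab, ?_, hKs, ?_⟩
  · intro k hk u hu
    exact hnormU k (hKE hk) u hu
  · intro k hk hk1
    rw [hKE₁']
    exact hsemi k (hKE₁ hk) hk1
  · intro X hXK _ k hk
    apply mem_normalizer_of_map_conj_eq
    ext a
    constructor
    · rintro ⟨x, hx, rfl⟩
      have h1 : k * x * k⁻¹ = x := by rw [hKcomm k hk x (hXK hx)]; group
      show k * x * k⁻¹ ∈ X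
      rw [h1]; exact hx
    · intro ha
      refine ⟨a, ha, ?_⟩
      show k * a * k⁻¹ = a
      rw [hKcomm k hk a (hXK ha)]; group
  · intro X X' hXK hX'K _ hcard
    exact Cfsg.Agent.Lib.Helper82.NilAbel.eq_of_card_eq_of_le_cyclic hKc hX'K hXK hcard
  · refine ⟨hUE.trans hEM, ?_, ?_⟩
    · intro q hq hqd
      exact ⟨hq, fun hκ' => hUH.2.1 q hq hqd (hκτ q hκ'), hUσ q hq hqd⟩
    · rintro q hq ⟨-, hqκ, hqσ⟩ hqd
      have h1 : Nat.card U * U.relIndex M = Nat.card M :=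
        Cfsg.Agent.Lib.Helper54.card_mul_relIndex (hUE.trans hEM)
      have h2 : Nat.card M = Nat.card E * Nat.card (sigmaCore M) :=
        Cfsg.Agent.Lib.Helper23.card_of_isComplIn hE
      have h4 : U.relIndex M = Nat.card K * Nat.card (sigmaCore M) := by
        apply Nat.eq_of_mul_eq_mul_left (Nat.card_pos (α := U))
        rw [h1, h2, ← hcardUK, mul_assoc]
      rw [h4] at hqd
      rcases (Nat.Prime.dvd_mul hq).mp hqd with h | h
      · exact hqκ (hK.2.1 q hq h)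
      · exact hqσ (Cfsg.Agent.Lib.Helper54.sigmaCore_isPi M q hq h)
  · refine ⟨Subgroup.zpowers z, (Subgroup.zpowers_le).mpr hzK, ?_⟩
    rw [Nat.card_zpowers, hz]; exact hpτ

end Cfsg.Agent.Lib.Helper96.BG142
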