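/-
helper96: Bender–Glauberman Proposition 14.2: the statements S1430 and S1431, conditional on clauses of
S1404 (via the Uniqueness Theorem), S1409, S1415, S1418, S1420, S1425, S1427, S1428 and on the non-row
lemmas of Section 13 listed in `BGFourteenTwoHyp`.
-/
import Mathlib
import Cfsg.Prelude.Def_OddOrderLocal
import Cfsg.Agent.Lib.Helper96.BGFourteenTwoE

set_option autoImplicit false

namespace Cfsg.Agent.Lib.Helper96.BG142

open Cfsg
open Cfsg.Agent.Lib.Helper34 (UniquenessThm)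

universe u

variable {G : Type u} [Group G] [Finite G]

/-- the structural package exists for every Hall `κ(M)`-subgroup `K ≠ 1` -/
theorem exists_core (hG : IsMinSimpleOddOrder G) (hU : UniquenessThm G)
    (h1415 : ∀ M : Subgroup G, IsCoatom M → ∀ E : Subgroup G, IsComplIn E (sigmaCore M) M →
      (∀ E₁ : Subgroup G, IsPiHallOf (tau1 M) E₁ E → IsCyclic E₁) ∧
      ∀ E₃ : Subgroup G, IsPiHallOf (tau3 M) E₃ E →
        IsCyclic E₃ ∧ E ≤ Subgroup.normalizer (E₃ : Set G))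
    (h1418 : ∀ M : Subgroup G, IsCoatom M → ∀ E : Subgroup G, IsComplIn E (sigmaCore M) M →
      ∀ (p : ℕ) [Fact p.Prime], p ∈ tau2 M → ∀ A : Subgroup G, A ≤ E →
      IsElementaryAbelian p A → Nat.card A = p ^ 2 →
        ∀ X : Subgroup G, X ≤ E → Nat.card X = p → X ≤ A)
    (h1420a : ∀ M : Subgroup G, IsCoatom M → ∀ E : Subgroup G, IsComplIn E (sigmaCore M) M →
      ∀ N : Subgroup G, N ≤ M → Group.IsNilpotent N →
      (∀ p : ℕ, p.Prime → p ∣ Nat.card N → p ∉ sigma M) → IsMulCommutative N)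
    (h1427 : ∀ M : Subgroup G, IsCoatom M → ∀ E : Subgroup G, IsComplIn E (sigmaCore M) M →
      ∀ (p : ℕ) [Fact p.Prime] (S : Sylow p E), (S : Subgroup E) ≠ ⊥ →
      IsCyclic (S : Subgroup E) → ∀ x ∈ (S : Subgroup E).map E.subtype, x ≠ 1 →
        sigmaCore M ⊓ Subgroup.centralizer ({x} : Set G) =
          sigmaCore M ⊓ Subgroup.centralizer
            (((S : Subgroup E).map E.subtype : Subgroup G) : Set G))
    (h1428 : ∀ M : Subgroup G, IsCoatom M → ∀ E : Subgroup G, IsComplIn E (sigmaCore M) M →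
      ∀ (p : ℕ), p ∈ tau1 M → ∀ P : Subgroup G, P ≤ E → Nat.card P = p →
      ∀ R : Subgroup G, R ≤ E ⊓ Subgroup.centralizer (P : Set G) → (Nat.card R).Prime →
        sigmaCore M ⊓ Subgroup.centralizer (P : Set G) ≤
          sigmaCore M ⊓ Subgroup.centralizer (R : Set G))
    (h10 : H1310b G) (h11 : H1311 G) (h12 : H1312 G)
    (M : Subgroup G) (hM : IsCoatom M) (K : Subgroup G) (hK : IsPiHallOf (kappa M) K M)
    (hK1 : K ≠ ⊥) :
    ∃ E U : Subgroup G, Core M K E U ∧ IsMulCommutative U ∧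
      IsPiHallOf {q | q.Prime ∧ q ∉ kappa M ∧ q ∉ sigma M} U M ∧
      sigmaCore M ⊓ Subgroup.centralizer (K : Set G) ≠ ⊥ ∧
      ∃ P : Subgroup G, P ≤ K ∧ Nat.card P ∈ tau1 M := by
  have hHall := (Cfsg.Agent.Lib.Helper54.sigmaCore_hall_of hG hU M hM).1
  obtain ⟨E, hE, hKE⟩ := Cfsg.Agent.Lib.Helper97.BGTwelve.exists_complIn_ge (hG.2.2.2 M hM.1)
    hHall hK.1 (fun p hp hpd => (hK.2.1 p hp hpd).2.2.1)
  have hEs : Group.IsSolvable E := hG.2.2.2 E (fun h => hM.1 (top_le_iff.mp (h ▸ hE.1)))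
  obtain ⟨E₃, hE₃⟩ := Cfsg.Agent.Lib.Helper62.exists_isPiHallOf (tau3 M) E hEs
  by_cases hcase : ∃ x ∈ E₃, x ≠ 1 ∧ sigmaCore M ⊓ Subgroup.centralizer ({x} : Set G) ≠ ⊥
  · obtain ⟨hC, hUH, hKs, hP⟩ :=
      core_caseA hG hU M hM hE (h1415 M hM E hE) h10 h11 hK hKE hE₃ hcase
    refine ⟨E, ⊥, hC, ?_, hUH, hKs, hP⟩
    refine ⟨⟨fun a b => ?_⟩⟩
    have ha : (a : G) = 1 := Subgroup.mem_bot.mp a.2
    have hb : (b : G) = 1 := Subgroup.mem_bot.mp b.2
    apply Subtype.ext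
    simp [ha, hb]
  · have hreg : ∀ x ∈ E₃, x ≠ 1 →
        sigmaCore M ⊓ Subgroup.centralizer ({x} : Set G) = ⊥ := by
      intro x hx hx1
      by_contra h
      exact hcase ⟨x, hx, hx1, h⟩
    obtain ⟨U, hC, hUc, hUH, hKs, hP⟩ :=
      core_caseB hG hU M hM hE (h1415 M hM E hE) (h1418 M hM E hE) (h1420a M hM E hE)
        (h1427 M hM E hE) (h1428 M hM E hE) h12 hK hK1 hKE hE₃ hreg
    exact ⟨E, U, hC, hUc, hUH, hKs, hP⟩

/-- **BG Proposition 14.2, first half (S1430)**, conditional. -/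
theorem s1430_of (hG : IsMinSimpleOddOrder G) (hU : UniquenessThm G)
    (h1415 : ∀ M : Subgroup G, IsCoatom M → ∀ E : Subgroup G, IsComplIn E (sigmaCore M) M →
      (∀ E₁ : Subgroup G, IsPiHallOf (tau1 M) E₁ E → IsCyclic E₁) ∧
      ∀ E₃ : Subgroup G, IsPiHallOf (tau3 M) E₃ E →
        IsCyclic E₃ ∧ E ≤ Subgroup.normalizer (E₃ : Set G))
    (h1418 : ∀ M : Subgroup G, IsCoatom M → ∀ E : Subgroup G, IsComplIn E (sigmaCore M) M →
      ∀ (p : ℕ) [Fact p.Prime], p ∈ tau2 M → ∀ A : Subgroup G, A ≤ E →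
      IsElementaryAbelian p A → Nat.card A = p ^ 2 →
        ∀ X : Subgroup G, X ≤ E → Nat.card X = p → X ≤ A)
    (h1420a : ∀ M : Subgroup G, IsCoatom M → ∀ E : Subgroup G, IsComplIn E (sigmaCore M) M →
      ∀ N : Subgroup G, N ≤ M → Group.IsNilpotent N →
      (∀ p : ℕ, p.Prime → p ∣ Nat.card N → p ∉ sigma M) → IsMulCommutative N)
    (h1427 : ∀ M : Subgroup G, IsCoatom M → ∀ E : Subgroup G, IsComplIn E (sigmaCore M) M →
      ∀ (p : ℕ) [Fact p.Prime] (S : Sylow p E), (S : Subgroup E) ≠ ⊥ →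
      IsCyclic (S : Subgroup E) → ∀ x ∈ (S : Subgroup E).map E.subtype, x ≠ 1 →
        sigmaCore M ⊓ Subgroup.centralizer ({x} : Set G) =
          sigmaCore M ⊓ Subgroup.centralizer
            (((S : Subgroup E).map E.subtype : Subgroup G) : Set G))
    (h1428 : ∀ M : Subgroup G, IsCoatom M → ∀ E : Subgroup G, IsComplIn E (sigmaCore M) M →
      ∀ (p : ℕ), p ∈ tau1 M → ∀ P : Subgroup G, P ≤ E → Nat.card P = p →
      ∀ R : Subgroup G, R ≤ E ⊓ Subgroup.centralizer (P : Set G) → (Nat.card R).Prime →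
        sigmaCore M ⊓ Subgroup.centralizer (P : Set G) ≤
          sigmaCore M ⊓ Subgroup.centralizer (R : Set G))
    (h10 : H1310b G) (h11 : H1311 G) (h12 : H1312 G) (hA : HStepA G)
    (M : Subgroup G) (hM : IsCoatom M) (K : Subgroup G) (hK : Cfsg.IsPiHallOf (Cfsg.kappa M) K M)
    (hK1 : K ≠ ⊥) :
    (∀ k ∈ K, k ≠ 1 → Cfsg.sigmaCore M ⊓ Subgroup.centralizer ({k} : Set G) = (Cfsg.sigmaCore M ⊓ Subgroup.centralizer (K : Set G))) ∧
      (∃ U : Subgroup G, IsMulCommutative U ∧ Cfsg.IsPiHallOf {q | q.Prime ∧ q ∉ Cfsg.kappa M ∧ q ∉ Cfsg.sigma M} U M ∧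
        K ≤ Subgroup.normalizer (U : Set G) ∧ ∀ k ∈ K, k ≠ 1 → U ⊓ Subgroup.centralizer ({k} : Set G) = ⊥) ∧
      ∀ X : Subgroup G, X ≤ K → (Nat.card X).Prime →
        M ⊓ Subgroup.normalizer (X : Set G) = K ⊔ (Cfsg.sigmaCore M ⊓ Subgroup.centralizer (K : Set G)) ∧ M ⊓ Subgroup.normalizer (K : Set G) = K ⊔ (Cfsg.sigmaCore M ⊓ Subgroup.centralizer (K : Set G)) ∧
        ∀ Mstar : Subgroup G, IsCoatom Mstar → Subgroup.normalizer (X : Set G) ≤ Mstar → X ≤ Cfsg.sigmaCore Mstar := by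
  obtain ⟨E, U, hC, hUc, hUH, hKs, -⟩ :=
    exists_core hG hU h1415 h1418 h1420a h1427 h1428 h10 h11 h12 M hM K hK hK1
  apply s1430_of_core hC hK1 hUc hUH
  intro X hXK hXp Mstar hMs hN
  have hpκ : Nat.card X ∈ kappa M := hK.2.1 _ hXp (Subgroup.card_dvd_of_le hXK)
  have hne : sigmaCore M ⊓ Subgroup.centralizer (X : Set G) ≠ ⊥ := by
    intro h
    apply hKs
    rw [eq_bot_iff, ← h]
    exact inf_le_inf_left _ (Subgroup.centralizer_le (SetLike.coe_subset_coe.mpr hXK))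
  have hσ := hA M hM _ (kappa_subset hpκ) X (hXK.trans hK.1) rfl hne Mstar hMs hN
  apply Cfsg.Agent.Lib.Helper54.le_sigmaCore_of_isPi hG hU Mstar hMs
    (Subgroup.le_normalizer.trans hN)
  intro r hr hrd
  rw [(Nat.prime_dvd_prime_iff_eq hr hXp).mp hrd]
  exact hσ

/-- **BG Proposition 14.2, second half (S1431)**, conditional. -/
theorem s1431_of (hG : IsMinSimpleOddOrder G) (hU : UniquenessThm G)
    (h1409 : ∀ M : Subgroup G, IsCoatom M → ∀ (p : ℕ) [Fact p.Prime], p ∉ sigma M →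
      ∀ X : Subgroup G, Nat.card X = p → Subgroup.normalizer (X : Set G) ≤ M → ¬ PRankLE p 1 M)
    (h1415 : ∀ M : Subgroup G, IsCoatom M → ∀ E : Subgroup G, IsComplIn E (sigmaCore M) M →
      (∀ E₁ : Subgroup G, IsPiHallOf (tau1 M) E₁ E → IsCyclic E₁) ∧
      ∀ E₃ : Subgroup G, IsPiHallOf (tau3 M) E₃ E →
        IsCyclic E₃ ∧ E ≤ Subgroup.normalizer (E₃ : Set G))
    (h1418 : ∀ M : Subgroup G, IsCoatom M → ∀ E : Subgroup G, IsComplIn E (sigmaCore M) M →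
      ∀ (p : ℕ) [Fact p.Prime], p ∈ tau2 M → ∀ A : Subgroup G, A ≤ E →
      IsElementaryAbelian p A → Nat.card A = p ^ 2 →
        ∀ X : Subgroup G, X ≤ E → Nat.card X = p → X ≤ A)
    (h1420a : ∀ M : Subgroup G, IsCoatom M → ∀ E : Subgroup G, IsComplIn E (sigmaCore M) M →
      ∀ N : Subgroup G, N ≤ M → Group.IsNilpotent N →
      (∀ p : ℕ, p.Prime → p ∣ Nat.card N → p ∉ sigma M) → IsMulCommutative N)
    (h1425 : ∀ M : Subgroup G, IsCoatom M → ∀ Y : Subgroup G, Y ≠ ⊥ →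
      (∀ p : ℕ, p.Prime → p ∣ Nat.card Y → p ∈ sigma M) →
        ∃ g : G, Y.map (MulAut.conj g).toMonoidHom ≤ sigmaCore M)
    (h1427 : ∀ M : Subgroup G, IsCoatom M → ∀ E : Subgroup G, IsComplIn E (sigmaCore M) M →
      ∀ (p : ℕ) [Fact p.Prime] (S : Sylow p E), (S : Subgroup E) ≠ ⊥ →
      IsCyclic (S : Subgroup E) → ∀ x ∈ (S : Subgroup E).map E.subtype, x ≠ 1 →
        sigmaCore M ⊓ Subgroup.centralizer ({x} : Set G) =
          sigmaCore M ⊓ Subgroup.centralizer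
            (((S : Subgroup E).map E.subtype : Subgroup G) : Set G))
    (h1428 : ∀ M : Subgroup G, IsCoatom M → ∀ E : Subgroup G, IsComplIn E (sigmaCore M) M →
      ∀ (p : ℕ), p ∈ tau1 M → ∀ P : Subgroup G, P ≤ E → Nat.card P = p →
      ∀ R : Subgroup G, R ≤ E ⊓ Subgroup.centralizer (P : Set G) → (Nat.card R).Prime →
        sigmaCore M ⊓ Subgroup.centralizer (P : Set G) ≤
          sigmaCore M ⊓ Subgroup.centralizer (R : Set G))
    (h6 : H136 G) (h10 : H1310b G) (h11 : H1311 G) (h12 : H1312 G)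
    (M : Subgroup G) (hM : IsCoatom M) (K : Subgroup G) (hK : Cfsg.IsPiHallOf (Cfsg.kappa M) K M)
    (hK1 : K ≠ ⊥) :
    (∀ g : G, g ∉ M → (Cfsg.sigmaCore M ⊓ Subgroup.centralizer (K : Set G)) ⊓ M.map (MulAut.conj g).toMonoidHom = ⊥) ∧
      (∀ g ∈ M, g ∉ K ⊔ (Cfsg.sigmaCore M ⊓ Subgroup.centralizer (K : Set G)) → K ⊓ K.map (MulAut.conj g).toMonoidHom = ⊥) ∧
      (∀ (p : ℕ), p.Prime → p ∣ Nat.card ↥(Cfsg.sigmaCore M ⊓ Subgroup.centralizer (K : Set G)) → ∀ S : Sylow p ↥(Cfsg.sigmaCore M),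
        Cfsg.InUniqueMaximal ((S : Subgroup ↥(Cfsg.sigmaCore M)).map (Cfsg.sigmaCore M).subtype) ∧
        (S : Subgroup ↥(Cfsg.sigmaCore M)).map (Cfsg.sigmaCore M).subtype ≤ M ∧
        ¬ (S : Subgroup ↥(Cfsg.sigmaCore M)).map (Cfsg.sigmaCore M).subtype ≤ (Cfsg.sigmaCore M ⊓ Subgroup.centralizer (K : Set G))) ∧
      ∀ Y : Subgroup G, (∀ p : ℕ, p.Prime → p ∣ Nat.card Y → p ∈ Cfsg.sigma M) → Y ⊓ (Cfsg.sigmaCore M ⊓ Subgroup.centralizer (K : Set G)) ≠ ⊥ → Y ≤ Cfsg.sigmaCore M := by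
  obtain ⟨E, U, hC, -, -, -, P, hPK, hPτ⟩ :=
    exists_core hG hU h1415 h1418 h1420a h1427 h1428 h10 h11 h12 M hM K hK hK1
  apply s1431_of_core hM hC hK1 (Cfsg.Agent.Lib.Helper54.sigmaCore_isPi M)
  · intro p _ hp X hXp _ hXM g hg
    exact (Cfsg.Agent.Lib.Helper54.sigma_ctrl hG hU M hM p hp X hXp hXM).1 g hg
  · intro q _ X hX hXc
    have h := h6 M hM E hC.compl _ hPτ P (hPK.trans hC.KE) rfl q X
      (hX.trans (inf_le_inf_left _ (Subgroup.centralizer_le (SetLike.coe_subset_coe.mpr hPK))))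
      hXc
    exact ⟨h.1.1, h.2⟩
  · intro X hXK hXp
    have hpκ : Nat.card X ∈ kappa M := hK.2.1 _ hXp (Subgroup.card_dvd_of_le hXK)
    have : Fact (Nat.card X).Prime := ⟨hXp⟩
    have hX1 : X ≠ ⊥ := by
      intro h
      rw [h, Subgroup.card_bot] at hXp
      exact Nat.not_prime_one hXp
    have hNtop := Cfsg.Agent.Lib.Helper24.normalizer_ne_top_of_isPGroup hG
      (isPGroup_of_card_prime hXp) hX1
    obtain ⟨Mstar, hMs, hN⟩ := (eq_top_or_exists_le_coatom _).resolve_left hNtop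
    refine ⟨Mstar, hMs, ?_, hN⟩
    intro h
    rw [h] at hN
    exact h1409 M hM _ hpκ.2.2.1 X rfl hN (rank_one_of_mem_kappa hpκ)
  · exact h1425 M hM

end Cfsg.Agent.Lib.Helper96.BG142
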