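/-
helper96: Bender–Glauberman Proposition 14.2 (S1430 / S1431) from the two remaining Section 13 inputs
`H1310b` (BG 13.10(b)) and `H1311` (BG 13.11) only: every other input of `s1430_of` / `s1431_of` is
discharged here from landed rows (S1403, S1409, S1415, S1418, S1420, S1425, S1427, S1428) and from the
landed libraries of helper97 (BG 13.6) and helper50 (Step A, BG 13.12).
-/
import Cfsg.Agent.S1403
import Cfsg.Agent.S1409
import Cfsg.Agent.S1415
import Cfsg.Agent.S1418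
import Cfsg.Agent.S1420
import Cfsg.Agent.S1425
import Cfsg.Agent.S1427
import Cfsg.Agent.S1428
import Cfsg.Agent.Lib.Helper96.BGFourteenTwoF
import Cfsg.Agent.Lib.Helper97.BGThirteenSix
import Cfsg.Agent.Lib.Helper50.BGStepA

set_option autoImplicit false

namespace Cfsg.Agent.Lib.Helper96.BG142

open Cfsg

universe u

variable {G : Type u} [Group G] [Finite G]

/-- S1428, in the shape of helper97's `Stmt1428`. -/
theorem stmt1428_h97 (hG : IsMinSimpleOddOrder G) :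
    Cfsg.Agent.Lib.Helper97.BGThirteenSix.Stmt1428 G :=
  fun M hM E hE p hp P hPE hP R hRE hR =>
    Cfsg.Agent.S1428.result hG M hM E hE p hp P hPE hP R hRE hR

/-- **BG Lemma 13.6**, unconditional (helper97's `h6_of` fed with the landed S1428). -/
theorem h136_uncond (hG : IsMinSimpleOddOrder G) : H136 G := by
  intro M hM E hE p hp P hPE hP q _ X hX hXq
  have h := Cfsg.Agent.Lib.Helper97.BGThirteenSix.h6_of hG (stmt1428_h97 hG) M hM E hE p hp P hPE hP
    q X hXq hX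
  exact ⟨h.1, fun S => (h.2 S).1⟩

/-- **Step A** from BG 13.11 alone. -/
theorem hStepA_of_h1311 (hG : IsMinSimpleOddOrder G) (h11 : H1311 G) : HStepA G :=
  Cfsg.Agent.Lib.Helper50.BGStepA.hStepA_of hG (h136_uncond hG) h11

/-- **BG Lemma 13.12** from BG 13.11 alone. -/
theorem h1312_of_h1311 (hG : IsMinSimpleOddOrder G) (h11 : H1311 G) : H1312 G :=
  Cfsg.Agent.Lib.Helper50.BGStepA.h1312_of hG (hStepA_of_h1311 hG h11) (stmt1428_h97 hG)

/-- **S1430** (BG 14.2(a),(b),(c)) from BG 13.10(b) and BG 13.11. -/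
theorem s1430_final_of (hG : IsMinSimpleOddOrder G) (h10 : H1310b G) (h11 : H1311 G)
    (M : Subgroup G) (hM : IsCoatom M) (K : Subgroup G) (hK : IsPiHallOf (kappa M) K M)
    (hK1 : K ≠ ⊥) :
    (∀ k ∈ K, k ≠ 1 → sigmaCore M ⊓ Subgroup.centralizer ({k} : Set G) =
        (sigmaCore M ⊓ Subgroup.centralizer (K : Set G))) ∧
      (∃ U : Subgroup G, IsMulCommutative U ∧
        IsPiHallOf {q | q.Prime ∧ q ∉ kappa M ∧ q ∉ sigma M} U M ∧
        K ≤ Subgroup.normalizer (U : Set G) ∧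
        ∀ k ∈ K, k ≠ 1 → U ⊓ Subgroup.centralizer ({k} : Set G) = ⊥) ∧
      ∀ X : Subgroup G, X ≤ K → (Nat.card X).Prime →
        M ⊓ Subgroup.normalizer (X : Set G) =
            K ⊔ (sigmaCore M ⊓ Subgroup.centralizer (K : Set G)) ∧
        M ⊓ Subgroup.normalizer (K : Set G) =
            K ⊔ (sigmaCore M ⊓ Subgroup.centralizer (K : Set G)) ∧
        ∀ Mstar : Subgroup G, IsCoatom Mstar → Subgroup.normalizer (X : Set G) ≤ Mstar →
          X ≤ sigmaCore Mstar := by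
  have hU : Cfsg.Agent.Lib.Helper34.UniquenessThm G :=
    fun K hK h1 h2 => Cfsg.Agent.S1403.result hG K hK h1 h2
  exact s1430_of hG hU
    (fun M hM E hE => ⟨(Cfsg.Agent.S1415.result hG M hM E hE).2.1, fun E₃ hE₃ =>
      ⟨((Cfsg.Agent.S1415.result hG M hM E hE).2.2 E₃ hE₃).1,
        ((Cfsg.Agent.S1415.result hG M hM E hE).2.2 E₃ hE₃).2.2⟩⟩)
    (fun M hM E hE p _ hp A hAE hAe hAc X hXE hXc =>
      (Cfsg.Agent.S1418.result hG M hM E hE p hp A ⟨hAE, hAe, hAc⟩).1.2 X hXE hXc)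
    (fun M hM E hE N hNM hNn hNσ => (Cfsg.Agent.S1420.result hG M hM E hE).1 N hNM hNn hNσ)
    (fun M hM E hE p _ S hS1 hSc => Cfsg.Agent.S1427.result hG M hM E hE p S hS1 hSc)
    (fun M hM E hE p hp P hPE hP R hRE hR =>
      Cfsg.Agent.S1428.result hG M hM E hE p hp P hPE hP R hRE hR)
    h10 h11 (h1312_of_h1311 hG h11) (hStepA_of_h1311 hG h11) M hM K hK hK1

/-- **S1431** (BG 14.2(d),(e),(f),(g)) from BG 13.10(b) and BG 13.11. -/
theorem s1431_final_of (hG : IsMinSimpleOddOrder G) (h10 : H1310b G) (h11 : H1311 G)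
    (M : Subgroup G) (hM : IsCoatom M) (K : Subgroup G) (hK : IsPiHallOf (kappa M) K M)
    (hK1 : K ≠ ⊥) :
    (∀ g : G, g ∉ M → (sigmaCore M ⊓ Subgroup.centralizer (K : Set G)) ⊓
        M.map (MulAut.conj g).toMonoidHom = ⊥) ∧
      (∀ g ∈ M, g ∉ K ⊔ (sigmaCore M ⊓ Subgroup.centralizer (K : Set G)) →
        K ⊓ K.map (MulAut.conj g).toMonoidHom = ⊥) ∧
      (∀ (p : ℕ), p.Prime →
        p ∣ Nat.card ↥(sigmaCore M ⊓ Subgroup.centralizer (K : Set G)) →
        ∀ S : Sylow p ↥(sigmaCore M),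
        InUniqueMaximal ((S : Subgroup ↥(sigmaCore M)).map (sigmaCore M).subtype) ∧
        (S : Subgroup ↥(sigmaCore M)).map (sigmaCore M).subtype ≤ M ∧
        ¬ (S : Subgroup ↥(sigmaCore M)).map (sigmaCore M).subtype ≤
          (sigmaCore M ⊓ Subgroup.centralizer (K : Set G))) ∧
      ∀ Y : Subgroup G, (∀ p : ℕ, p.Prime → p ∣ Nat.card Y → p ∈ sigma M) →
        Y ⊓ (sigmaCore M ⊓ Subgroup.centralizer (K : Set G)) ≠ ⊥ → Y ≤ sigmaCore M := by
  have hU : Cfsg.Agent.Lib.Helper34.UniquenessThm G :=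
    fun K hK h1 h2 => Cfsg.Agent.S1403.result hG K hK h1 h2
  exact s1431_of hG hU
    (fun M hM p _ hp X hX hN => (Cfsg.Agent.S1409.result hG M hM p hp X hX hN).1.2)
    (fun M hM E hE => ⟨(Cfsg.Agent.S1415.result hG M hM E hE).2.1, fun E₃ hE₃ =>
      ⟨((Cfsg.Agent.S1415.result hG M hM E hE).2.2 E₃ hE₃).1,
        ((Cfsg.Agent.S1415.result hG M hM E hE).2.2 E₃ hE₃).2.2⟩⟩)
    (fun M hM E hE p _ hp A hAE hAe hAc X hXE hXc =>
      (Cfsg.Agent.S1418.result hG M hM E hE p hp A ⟨hAE, hAe, hAc⟩).1.2 X hXE hXc)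
    (fun M hM E hE N hNM hNn hNσ => (Cfsg.Agent.S1420.result hG M hM E hE).1 N hNM hNn hNσ)
    (fun M hM Y hY1 hY => Cfsg.Agent.S1425.result hG M hM Y hY1 hY)
    (fun M hM E hE p _ S hS1 hSc => Cfsg.Agent.S1427.result hG M hM E hE p S hS1 hSc)
    (fun M hM E hE p hp P hPE hP R hRE hR =>
      Cfsg.Agent.S1428.result hG M hM E hE p hp P hPE hP R hRE hR)
    (h136_uncond hG) h10 h11 (h1312_of_h1311 hG h11) M hM K hK hK1

end Cfsg.Agent.Lib.Helper96.BG142
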