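import Mathlib

/-!
# Numerical lemmas for the order of nilpotent permutation groups

`s2 n` is the order of a Sylow `2`-subgroup of the symmetric group of degree `n`,
`s2' n` the maximal order of a nilpotent subgroup, `bT m` a bound for the order of a transitive
nilpotent group of degree `m`.
-/

set_option autoImplicit false

namespace Cfsg.Agent.Lib.Helper96.NilpotentPerm

open Nat

/-- The order of a Sylow `2`-subgroup of the symmetric group of degree `n`. -/
def s2 (n : ℕ) : ℕ := 2 ^ (n.factorial.factorization 2)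

/-- The maximal order of a nilpotent subgroup of the symmetric group of degree `n`. -/
def s2' (n : ℕ) : ℕ := if n % 4 = 3 then 3 * s2 (n - 3) else s2 n

/-- A bound for the order of a transitive nilpotent permutation group of degree `m`. -/
def bT (m : ℕ) : ℕ :=
  ∏ p ∈ m.primeFactors, p ^ ((p ^ (m.factorization p)).factorial.factorization p)

theorem s2_pos (n : ℕ) : 0 < s2 n := pow_pos (by norm_num) _

theorem two_pow_dvd_factorial_iff (k n : ℕ) : 2 ^ k ∣ n.factorial ↔ k ≤ n.factorial.factorization 2 :=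
  Nat.prime_two.pow_dvd_iff_le_factorization (Nat.factorial_ne_zero n)

theorem s2_dvd_factorial (n : ℕ) : s2 n ∣ n.factorial :=
  (two_pow_dvd_factorial_iff _ _).2 le_rfl

theorem s2_mul_le (a b : ℕ) : s2 a * s2 b ≤ s2 (a + b) := by
  unfold s2
  rw [← pow_add]
  apply Nat.pow_le_pow_right (by norm_num)
  rw [← two_pow_dvd_factorial_iff, pow_add]
  exact (Nat.mul_dvd_mul (s2_dvd_factorial a) (s2_dvd_factorial b)).trans
    (Nat.factorial_mul_factorial_dvd_factorial_add a b)

theorem s2_mono {a b : ℕ} (h : a ≤ b) : s2 a ≤ s2 b := by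
  unfold s2
  apply Nat.pow_le_pow_right (by norm_num)
  rw [← two_pow_dvd_factorial_iff]
  exact (s2_dvd_factorial a).trans (Nat.factorial_dvd_factorial h)

theorem factorial_add_three (k : ℕ) :
    (k + 3).factorial = (k + 1) * (k + 2) * (k + 3) * k.factorial := by
  rw [Nat.factorial_succ, Nat.factorial_succ, Nat.factorial_succ]
  ring

theorem four_mul_s2_le (n : ℕ) (h3 : 3 ≤ n) (hn : n % 4 ≠ 3) : 4 * s2 (n - 3) ≤ s2 n := by
  obtain ⟨k, rfl⟩ : ∃ k, n = k + 3 := ⟨n - 3, by omega⟩
  have hk : k + 3 - 3 = k := by omega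
  rw [hk]
  have h4 : 4 ∣ (k + 1) * (k + 2) * (k + 3) := by
    have hcases : k % 4 = 1 ∨ k % 4 = 2 ∨ k % 4 = 3 := by omega
    rcases hcases with h | h | h
    · -- k + 3 ≡ 0 mod 4
      exact Dvd.dvd.mul_left (Nat.dvd_of_mod_eq_zero (by omega)) _
    · -- k + 2 ≡ 0 mod 4
      exact Dvd.dvd.mul_right (Dvd.dvd.mul_left (Nat.dvd_of_mod_eq_zero (by omega)) _) _
    · -- k + 1 ≡ 0 mod 4
      exact Dvd.dvd.mul_right (Dvd.dvd.mul_right (Nat.dvd_of_mod_eq_zero (by omega)) _) _
  have hdvd : 2 ^ (2 + k.factorial.factorization 2) ∣ (k + 3).factorial := by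
    rw [factorial_add_three, pow_add]
    exact Nat.mul_dvd_mul (by simpa using h4) (s2_dvd_factorial k)
  rw [two_pow_dvd_factorial_iff] at hdvd
  unfold s2
  calc 4 * 2 ^ (k.factorial.factorization 2) = 2 ^ (2 + k.factorial.factorization 2) := by
        rw [pow_add]; norm_num
    _ ≤ 2 ^ ((k + 3).factorial.factorization 2) := Nat.pow_le_pow_right (by norm_num) hdvd

theorem s2_eq_two_mul (n : ℕ) (hn : n % 4 = 3) : s2 n = 2 * s2 (n - 3) := by
  obtain ⟨k, rfl⟩ : ∃ k, n = k + 3 := ⟨n - 3, by omega⟩
  have hk : k + 3 - 3 = k := by omega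
  rw [hk]
  have hk4 : k % 4 = 0 := by omega
  obtain ⟨j, hj⟩ : ∃ j, k + 2 = 2 * (2 * j + 1) := ⟨k / 4, by omega⟩
  have h1 : (k + 1).factorization 2 = 0 :=
    Nat.factorization_eq_zero_of_not_dvd (by omega)
  have h3 : (k + 3).factorization 2 = 0 :=
    Nat.factorization_eq_zero_of_not_dvd (by omega)
  have h2 : (k + 2).factorization 2 = 1 := by
    rw [hj, Nat.factorization_mul (by norm_num) (by omega)]
    have h5 : (2 * j + 1).factorization 2 = 0 :=
      Nat.factorization_eq_zero_of_not_dvd (by omega)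
    simp [h5, Nat.prime_two.factorization_self]
  have hfac : (k + 3).factorial.factorization 2 = 1 + k.factorial.factorization 2 := by
    rw [factorial_add_three, Nat.factorization_mul (by positivity) (Nat.factorial_ne_zero k),
      Nat.factorization_mul (by positivity) (by omega),
      Nat.factorization_mul (by omega) (by omega)]
    simp [h1, h2, h3]
  unfold s2
  rw [hfac, pow_add, pow_one]

theorem s2_le_s2' (n : ℕ) : s2 n ≤ s2' n := by
  unfold s2'
  split_ifs with h
  · rw [s2_eq_two_mul n h]
    have := s2_pos (n - 3)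
    omega
  · exact le_rfl

theorem s2_six : s2 6 = 16 := by
  have h : (6 : ℕ).factorial = 2 ^ 4 * 45 := by norm_num [Nat.factorial]
  unfold s2
  rw [h, Nat.factorization_mul (by norm_num) (by norm_num), Nat.factorization_pow]
  have h45 : (45 : ℕ).factorization 2 = 0 := Nat.factorization_eq_zero_of_not_dvd (by norm_num)
  simp [h45, Nat.prime_two.factorization_self]

/-! ### Prime powers -/

theorem sub_one_mul_factorization_factorial_prime_pow {p : ℕ} (hp : p.Prime) (e : ℕ) :
    (p - 1) * ((p ^ e).factorial.factorization p) = p ^ e - 1 := by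
  rw [Nat.sub_one_mul_factorization_factorial hp]
  have h1 : p.digits (p ^ e) = List.replicate e 0 ++ [1] := by
    have h2 := Nat.digits_base_pow_mul (b := p) (k := e) (m := 1) hp.one_lt one_pos
    rw [mul_one] at h2
    rw [h2, Nat.digits_of_lt p 1 one_ne_zero hp.one_lt]
  rw [h1]
  simp

theorem two_pow_le_s2_mul (q : ℕ) (hq : q ≠ 0) : 2 ^ q ≤ s2 q * (2 * q) := by
  have h1 := Nat.sub_one_mul_factorization_factorial (n := q) Nat.prime_two
  have h2 : (2 - 1) * q.factorial.factorization 2 = q.factorial.factorization 2 := by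
    norm_num
  rw [h2] at h1
  have hsum : ((2 : ℕ).digits q).sum ≤ Nat.log 2 q + 1 := by
    rw [← Nat.length_digits 2 q (by norm_num) hq]
    have h3 : ((2 : ℕ).digits q).sum ≤ ((2 : ℕ).digits q).length • 1 := by
      apply List.sum_le_card_nsmul
      intro x hx
      have := Nat.digits_lt_base (b := 2) (by norm_num) hx
      omega
    simpa using h3
  have hsumle : ((2 : ℕ).digits q).sum ≤ q := Nat.digit_sum_le 2 q
  have hq2 : q ≤ q.factorial.factorization 2 + (Nat.log 2 q + 1) := by omega
  unfold s2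
  calc 2 ^ q ≤ 2 ^ (q.factorial.factorization 2 + (Nat.log 2 q + 1)) :=
        Nat.pow_le_pow_right (by norm_num) hq2
    _ = 2 ^ (q.factorial.factorization 2) * (2 * 2 ^ Nat.log 2 q) := by
        rw [pow_add, pow_succ]; ring
    _ ≤ 2 ^ (q.factorial.factorization 2) * (2 * q) := by
        apply Nat.mul_le_mul_left
        apply Nat.mul_le_mul_left
        exact Nat.pow_log_le_self 2 hq

theorem sq_le_two_pow_pred (p : ℕ) (hp : 7 ≤ p) : p ^ 2 ≤ 2 ^ (p - 1) := by
  induction p, hp using Nat.le_induction with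
  | base => norm_num
  | succ n hn ih =>
    have h1 : n + 1 - 1 = (n - 1) + 1 := by omega
    have h2 : 2 ^ (n + 1 - 1) = 2 * 2 ^ (n - 1) := by rw [h1, pow_succ]; ring
    rw [h2]
    have h3 : (n + 1) ^ 2 ≤ 2 * n ^ 2 := by nlinarith
    exact h3.trans (Nat.mul_le_mul_left 2 ih)

theorem bernoulli_nat (p k : ℕ) (hp : 1 ≤ p) : (p - 1) * k + 1 ≤ p ^ k := by
  induction k with
  | zero => simp
  | succ k ih =>
    obtain ⟨a, rfl⟩ : ∃ a, p = a + 1 := ⟨p - 1, by omega⟩
    have h1 : a + 1 - 1 = a := by omega
    rw [h1] at ih ⊢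
    rw [pow_succ]
    nlinarith [Nat.zero_le (a * (a * k))]

theorem pow_five_mul_le (k : ℕ) (hk : 2 ≤ k) : 5 ^ k * (4 * k + 1) ≤ 16 ^ k := by
  induction k, hk using Nat.le_induction with
  | base => norm_num
  | succ n hn ih =>
    rw [pow_succ, pow_succ]
    have h1 : 5 * (4 * (n + 1) + 1) ≤ 16 * (4 * n + 1) := by omega
    calc 5 ^ n * 5 * (4 * (n + 1) + 1) = 5 ^ n * (5 * (4 * (n + 1) + 1)) := by ring
      _ ≤ 5 ^ n * (16 * (4 * n + 1)) := Nat.mul_le_mul_left _ h1
      _ = (5 ^ n * (4 * n + 1)) * 16 := by ring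
      _ ≤ 16 ^ n * 16 := Nat.mul_le_mul_right _ ih

theorem pow_three_mul_le (k : ℕ) (hk : 11 ≤ k) : 3 ^ k * (2 * k + 1) ≤ 4 ^ k := by
  induction k, hk using Nat.le_induction with
  | base => norm_num
  | succ n hn ih =>
    rw [pow_succ, pow_succ]
    have h1 : 3 * (2 * (n + 1) + 1) ≤ 4 * (2 * n + 1) := by omega
    calc 3 ^ n * 3 * (2 * (n + 1) + 1) = 3 ^ n * (3 * (2 * (n + 1) + 1)) := by ring
      _ ≤ 3 ^ n * (4 * (2 * n + 1)) := Nat.mul_le_mul_left _ h1
      _ = (3 ^ n * (2 * n + 1)) * 4 := by ring
      _ ≤ 4 ^ n * 4 := Nat.mul_le_mul_right _ ih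

theorem s2_five : s2 5 = 8 := by
  have h : (5 : ℕ).factorial = 2 ^ 3 * 15 := by norm_num [Nat.factorial]
  unfold s2
  rw [h, Nat.factorization_mul (by norm_num) (by norm_num), Nat.factorization_pow]
  have h15 : (15 : ℕ).factorization 2 = 0 := Nat.factorization_eq_zero_of_not_dvd (by norm_num)
  simp [h15, Nat.prime_two.factorization_self]

theorem s2_nine : s2 9 = 128 := by
  have h : (9 : ℕ).factorial = 2 ^ 7 * 2835 := by norm_num [Nat.factorial]
  unfold s2
  rw [h, Nat.factorization_mul (by norm_num) (by norm_num), Nat.factorization_pow]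
  have h15 : (2835 : ℕ).factorization 2 = 0 := Nat.factorization_eq_zero_of_not_dvd (by norm_num)
  simp [h15, Nat.prime_two.factorization_self]

/-- The order of a Sylow `p`-subgroup of the symmetric group of degree `p ^ e` is at most the order of
a Sylow `2`-subgroup, except in degree `3`. -/
theorem prime_pow_le_s2 {p : ℕ} (hp : p.Prime) (e : ℕ) (h3 : p ^ e ≠ 3) :
    p ^ ((p ^ e).factorial.factorization p) ≤ s2 (p ^ e) := by
  by_cases hp2 : p = 2
  · subst hp2
    exact le_rfl
  have hq0 : p ^ e ≠ 0 := pow_ne_zero _ hp.ne_zero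
  have hqpos : 0 < p ^ e := Nat.pos_of_ne_zero hq0
  set q := p ^ e with hq
  set k := q.factorial.factorization p with hk
  have hrel : (p - 1) * k = q - 1 := sub_one_mul_factorization_factorial_prime_pow hp e
  have hp1 : 1 ≤ p - 1 := by have := hp.two_le; omega
  -- it suffices to show `p ^ k * (2 * q) ≤ 2 ^ q`
  have hsuff : p ^ k * (2 * q) ≤ 2 ^ q → p ^ k ≤ s2 q := by
    intro h
    have h2 := h.trans (two_pow_le_s2_mul q hq0)
    exact Nat.le_of_mul_le_mul_right h2 (by omega)
  have hq1 : q = (p - 1) * k + 1 := by omega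
  by_cases hp3 : p = 3
  · subst hp3
    have hrel' : 2 * k = q - 1 := by simpa using hrel
    -- `e = 0, 1, 2` or `e ≥ 3`
    rcases Nat.lt_or_ge e 3 with he | he
    · interval_cases e
      · -- q = 1
        have : k = 0 := by
          simp only [hk, hq]
          norm_num
        rw [this]
        exact s2_pos _
      · exact absurd (by simp [hq]) h3
      · have hq9 : q = 9 := by simp [hq]
        have hk4 : k = 4 := by omega
        rw [hk4, hq9, s2_nine]
        norm_num
    · have hq27 : 27 ≤ q := by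
        calc 27 = 3 ^ 3 := by norm_num
          _ ≤ 3 ^ e := Nat.pow_le_pow_right (by norm_num) he
      have hk13 : 11 ≤ k := by omega
      apply hsuff
      have h4 := pow_three_mul_le k hk13
      have hq2 : q = 2 * k + 1 := by omega
      calc 3 ^ k * (2 * q) = 2 * (3 ^ k * (2 * k + 1)) := by rw [hq2]; ring
        _ ≤ 2 * 4 ^ k := Nat.mul_le_mul_left _ h4
        _ = 2 ^ (2 * k + 1) := by
          rw [pow_succ, pow_mul]; norm_num; ring
        _ = 2 ^ q := by rw [← hq2]
  by_cases hp5 : p = 5
  · subst hp5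
    have hrel' : 4 * k = q - 1 := by simpa using hrel
    rcases Nat.lt_or_ge e 2 with he | he
    · interval_cases e
      · have : k = 0 := by
          simp only [hk, hq]
          norm_num
        rw [this]
        exact s2_pos _
      · have hq5 : q = 5 := by simp [hq]
        have hk1 : k = 1 := by omega
        rw [hk1, hq5, s2_five]
        norm_num
    · have hq25 : 25 ≤ q := by
        calc 25 = 5 ^ 2 := by norm_num
          _ ≤ 5 ^ e := Nat.pow_le_pow_right (by norm_num) he
      have hk2 : 2 ≤ k := by omega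
      apply hsuff
      have h4 := pow_five_mul_le k hk2
      have hq2 : q = 4 * k + 1 := by omega
      calc 5 ^ k * (2 * q) = 2 * (5 ^ k * (4 * k + 1)) := by rw [hq2]; ring
        _ ≤ 2 * 16 ^ k := Nat.mul_le_mul_left _ h4
        _ = 2 ^ (4 * k + 1) := by
          rw [pow_succ, pow_mul]; norm_num; ring
        _ = 2 ^ q := by rw [← hq2]
  · -- `p ≥ 7`
    have hp7 : 7 ≤ p := by
      have h2 := hp.two_le
      by_contra hlt
      push Not at hlt
      interval_cases p
      · exact hp2 rfl
      · exact hp3 rfl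
      · exact absurd hp (by norm_num)
      · exact hp5 rfl
      · exact absurd hp (by norm_num)
    apply hsuff
    have h4 := sq_le_two_pow_pred p hp7
    have h5 : q ≤ p ^ k := by rw [hq1]; exact bernoulli_nat p k (by omega)
    calc p ^ k * (2 * q) ≤ p ^ k * (2 * p ^ k) :=
          Nat.mul_le_mul_left _ (Nat.mul_le_mul_left _ h5)
      _ = 2 * (p ^ 2) ^ k := by rw [← pow_mul, mul_comm 2 k, pow_mul]; ring
      _ ≤ 2 * (2 ^ (p - 1)) ^ k := Nat.mul_le_mul_left _ (Nat.pow_le_pow_left h4 k)
      _ = 2 ^ ((p - 1) * k + 1) := by rw [← pow_mul, pow_succ]; ring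
      _ = 2 ^ q := by rw [← hq1]

/-! ### The transitive bound versus the Sylow `2`-bound -/

theorem sum_le_prod_of_two_le {ι : Type*} (S : Finset ι) (f : ι → ℕ) (hf : ∀ i ∈ S, 2 ≤ f i) :
    ∑ i ∈ S, f i ≤ ∏ i ∈ S, f i ∧ (S.Nonempty → 2 ≤ ∏ i ∈ S, f i) := by
  classical
  induction S using Finset.induction_on with
  | empty => simp
  | insert a S ha ih =>
    have hfS : ∀ i ∈ S, 2 ≤ f i := fun i hi => hf i (Finset.mem_insert_of_mem hi)
    obtain ⟨ih1, ih2⟩ := ih hfS
    have ha2 : 2 ≤ f a := hf a (Finset.mem_insert_self a S)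
    rw [Finset.sum_insert ha, Finset.prod_insert ha]
    rcases S.eq_empty_or_nonempty with hS | hS
    · subst hS
      simp only [Finset.sum_empty, add_zero, Finset.prod_empty, mul_one]
      exact ⟨le_rfl, fun _ => ha2⟩
    · have h2 := ih2 hS
      constructor
      · nlinarith
      · intro _
        nlinarith

theorem s2_zero : s2 0 = 1 := by simp [s2]

theorem s2_two : s2 2 = 2 := by
  simp [s2, Nat.factorial, Nat.prime_two.factorization_self]

theorem prod_s2_le {ι : Type*} (S : Finset ι) (f : ι → ℕ) :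
    ∏ i ∈ S, s2 (f i) ≤ s2 (∑ i ∈ S, f i) := by
  classical
  induction S using Finset.induction_on with
  | empty => simp [s2_zero]
  | insert a S ha ih =>
    rw [Finset.sum_insert ha, Finset.prod_insert ha]
    exact (Nat.mul_le_mul_left _ ih).trans (s2_mul_le _ _)

theorem prod_primeFactors_pow_factorization {m : ℕ} (hm : m ≠ 0) :
    ∏ p ∈ m.primeFactors, p ^ (m.factorization p) = m := by
  have h := Nat.prod_factorization_pow_eq_self hm
  rw [Finsupp.prod, Nat.support_factorization] at h
  exact h

theorem bT_three : bT 3 = 3 := by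
  have h3 : (3 : ℕ).primeFactors = {3} := Nat.Prime.primeFactors (by norm_num)
  have hf : (3 : ℕ).factorization 3 = 1 := Nat.Prime.factorization_self (by norm_num)
  have h6 : (6 : ℕ).factorization 3 = 1 := by
    have : (6 : ℕ) = 2 * 3 := by norm_num
    rw [this, Nat.factorization_mul (by norm_num) (by norm_num)]
    have h2 : (2 : ℕ).factorization 3 = 0 := Nat.factorization_eq_zero_of_not_dvd (by norm_num)
    simp [h2, hf]
  unfold bT
  rw [h3, Finset.prod_singleton, hf]
  have : ((3 : ℕ) ^ 1).factorial = 6 := by norm_num [Nat.factorial]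
  rw [this, h6, pow_one]

theorem bT_le_s2 (m : ℕ) (hm : 1 ≤ m) (h3 : m ≠ 3) : bT m ≤ s2 m := by
  have hm0 : m ≠ 0 := by omega
  have hprod := prod_primeFactors_pow_factorization hm0
  have hq2 : ∀ p ∈ m.primeFactors, 2 ≤ p ^ (m.factorization p) := by
    intro p hp
    have hpp := Nat.prime_of_mem_primeFactors hp
    have hpos : 0 < m.factorization p :=
      hpp.factorization_pos_of_dvd hm0 (Nat.dvd_of_mem_primeFactors hp)
    calc 2 ≤ p := hpp.two_le
      _ = p ^ 1 := (pow_one p).symm
      _ ≤ p ^ (m.factorization p) := Nat.pow_le_pow_right hpp.pos hpos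
  by_cases h : 3 ∈ m.primeFactors ∧ m.factorization 3 = 1
  · -- split off the prime `3`
    obtain ⟨h3m, hf3⟩ := h
    have hbT : bT m = 3 * ∏ p ∈ m.primeFactors.erase 3,
        p ^ ((p ^ (m.factorization p)).factorial.factorization p) := by
      unfold bT
      rw [← Finset.mul_prod_erase _ _ h3m, hf3]
      have h6 : (6 : ℕ).factorization 3 = 1 := by
        have : (6 : ℕ) = 2 * 3 := by norm_num
        rw [this, Nat.factorization_mul (by norm_num) (by norm_num)]
        have h2 : (2 : ℕ).factorization 3 = 0 :=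
          Nat.factorization_eq_zero_of_not_dvd (by norm_num)
        have hf : (3 : ℕ).factorization 3 = 1 := Nat.Prime.factorization_self (by norm_num)
        simp [h2, hf]
      have : ((3 : ℕ) ^ 1).factorial = 6 := by norm_num [Nat.factorial]
      rw [this, h6, pow_one]
    have hprod' : 3 * ∏ p ∈ m.primeFactors.erase 3, p ^ (m.factorization p) = m := by
      have h0 := hprod
      rw [← Finset.mul_prod_erase _ _ h3m, hf3, pow_one] at h0
      exact h0
    have hne3 : ∀ p ∈ m.primeFactors.erase 3, p ^ (m.factorization p) ≠ 3 := by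
      intro p hp h
      have hpp := Nat.prime_of_mem_primeFactors (Finset.mem_of_mem_erase hp)
      have hd : p ∣ 3 := by
        rw [← h]
        exact dvd_pow_self p (by
          have := hq2 p (Finset.mem_of_mem_erase hp)
          intro h0
          rw [h0, pow_zero] at this
          omega)
      have : p = 3 := (Nat.prime_dvd_prime_iff_eq hpp (by norm_num)).1 hd
      exact (Finset.ne_of_mem_erase hp) this
    have hR : (m.primeFactors.erase 3).Nonempty := by
      by_contra hemp
      rw [Finset.not_nonempty_iff_eq_empty] at hemp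
      rw [hemp, Finset.prod_empty, mul_one] at hprod'
      exact h3 hprod'.symm
    have hq2' : ∀ p ∈ m.primeFactors.erase 3, 2 ≤ p ^ (m.factorization p) :=
      fun p hp => hq2 p (Finset.mem_of_mem_erase hp)
    obtain ⟨hsum, hprod2⟩ := sum_le_prod_of_two_le (m.primeFactors.erase 3)
      (fun p => p ^ (m.factorization p)) hq2'
    set sg := ∑ p ∈ m.primeFactors.erase 3, p ^ (m.factorization p) with hsgdef
    have hsg2 : 2 ≤ sg := by
      obtain ⟨a, ha⟩ := hR
      calc 2 ≤ a ^ (m.factorization a) := hq2' a ha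
        _ ≤ sg := Finset.single_le_sum (f := fun p => p ^ (m.factorization p))
            (fun i _ => Nat.zero_le _) ha
    have h1 : ∏ p ∈ m.primeFactors.erase 3,
        p ^ ((p ^ (m.factorization p)).factorial.factorization p) ≤ s2 sg := by
      calc ∏ p ∈ m.primeFactors.erase 3,
            p ^ ((p ^ (m.factorization p)).factorial.factorization p)
          ≤ ∏ p ∈ m.primeFactors.erase 3, s2 (p ^ (m.factorization p)) := by
            apply Finset.prod_le_prod'
            intro p hp
            exact prime_pow_le_s2 (Nat.prime_of_mem_primeFactors (Finset.mem_of_mem_erase hp)) _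
              (hne3 p hp)
        _ ≤ s2 sg := prod_s2_le _ _
    have hs2 : 2 ≤ s2 sg := by
      rw [← s2_two]; exact s2_mono hsg2
    have h3sg : sg + (sg + sg) ≤ m := by
      rw [← hprod']
      have := hsum
      omega
    rw [hbT]
    calc 3 * ∏ p ∈ m.primeFactors.erase 3,
          p ^ ((p ^ (m.factorization p)).factorial.factorization p)
        ≤ 3 * s2 sg := Nat.mul_le_mul_left _ h1
      _ ≤ s2 sg * (s2 sg * s2 sg) := by nlinarith
      _ ≤ s2 sg * s2 (sg + sg) := Nat.mul_le_mul_left _ (s2_mul_le _ _)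
      _ ≤ s2 (sg + (sg + sg)) := s2_mul_le _ _
      _ ≤ s2 m := s2_mono h3sg
  · -- no factor `3`
    have hne3 : ∀ p ∈ m.primeFactors, p ^ (m.factorization p) ≠ 3 := by
      intro p hp h'
      have hpp := Nat.prime_of_mem_primeFactors hp
      have hpos : 0 < m.factorization p :=
        hpp.factorization_pos_of_dvd hm0 (Nat.dvd_of_mem_primeFactors hp)
      have hd : p ∣ 3 := by
        rw [← h']
        exact dvd_pow_self p hpos.ne'
      have hp3 : p = 3 := (Nat.prime_dvd_prime_iff_eq hpp (by norm_num)).1 hd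
      subst hp3
      apply h
      refine ⟨hp, ?_⟩
      have h1 : (3 : ℕ) ^ (m.factorization 3) = 3 ^ 1 := by rw [h', pow_one]
      exact Nat.pow_right_injective (le_refl 3 |> fun _ => by norm_num) h1
    obtain ⟨hsum, -⟩ := sum_le_prod_of_two_le m.primeFactors
      (fun p => p ^ (m.factorization p)) hq2
    rw [hprod] at hsum
    unfold bT
    calc ∏ p ∈ m.primeFactors, p ^ ((p ^ (m.factorization p)).factorial.factorization p)
        ≤ ∏ p ∈ m.primeFactors, s2 (p ^ (m.factorization p)) := by
          apply Finset.prod_le_prod'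
          intro p hp
          exact prime_pow_le_s2 (Nat.prime_of_mem_primeFactors hp) _ (hne3 p hp)
      _ ≤ s2 (∑ p ∈ m.primeFactors, p ^ (m.factorization p)) := prod_s2_le _ _
      _ ≤ s2 m := s2_mono hsum

/-- The key numerical inequality for the induction over orbits. -/
theorem bT_mul_s2'_le (m n : ℕ) (hm : 1 ≤ m) (hmn : m ≤ n) : bT m * s2' (n - m) ≤ s2' n := by
  obtain ⟨r, rfl⟩ : ∃ r, n = m + r := ⟨n - m, by omega⟩
  have hr : m + r - m = r := by omega
  rw [hr]
  by_cases h3 : m = 3
  · subst h3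
    rw [bT_three]
    by_cases hr3 : r % 4 = 3
    · -- `r ≡ 3`, `3 + r ≡ 2`
      have h1 : s2' r = 3 * s2 (r - 3) := by unfold s2'; rw [if_pos hr3]
      have h2 : s2' (3 + r) = s2 (3 + r) := by
        unfold s2'; rw [if_neg (by omega)]
      rw [h1, h2]
      have h6 : s2 6 * s2 (r - 3) ≤ s2 (3 + r) := by
        have := s2_mul_le 6 (r - 3)
        have h7 : 6 + (r - 3) = 3 + r := by omega
        rwa [h7] at this
      rw [s2_six] at h6
      have := s2_pos (r - 3)
      omega
    · have h1 : s2' r = s2 r := by unfold s2'; rw [if_neg hr3]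
      rw [h1]
      by_cases hr0 : (3 + r) % 4 = 3
      · have h2 : s2' (3 + r) = 3 * s2 r := by
          unfold s2'; rw [if_pos hr0]
          have : 3 + r - 3 = r := by omega
          rw [this]
        rw [h2]
      · have h2 : s2' (3 + r) = s2 (3 + r) := by unfold s2'; rw [if_neg hr0]
        rw [h2]
        have h4 := four_mul_s2_le (3 + r) (by omega) hr0
        have : 3 + r - 3 = r := by omega
        rw [this] at h4
        have := s2_pos r
        omega
  · have hb := bT_le_s2 m hm h3
    by_cases hr3 : r % 4 = 3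
    · have h1 : s2' r = 3 * s2 (r - 3) := by unfold s2'; rw [if_pos hr3]
      rw [h1]
      have h5 : s2 m * s2 (r - 3) ≤ s2 (m + r - 3) := by
        have := s2_mul_le m (r - 3)
        have h7 : m + (r - 3) = m + r - 3 := by omega
        rwa [h7] at this
      have h6 : 3 * s2 (m + r - 3) ≤ s2' (m + r) := by
        unfold s2'
        split_ifs with h
        · exact le_rfl
        · have h4 := four_mul_s2_le (m + r) (by omega) h
          have := s2_pos (m + r - 3)
          omega
      calc bT m * (3 * s2 (r - 3)) ≤ s2 m * (3 * s2 (r - 3)) := Nat.mul_le_mul_right _ hb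
        _ = 3 * (s2 m * s2 (r - 3)) := by ring
        _ ≤ 3 * s2 (m + r - 3) := Nat.mul_le_mul_left _ h5
        _ ≤ s2' (m + r) := h6
    · have h1 : s2' r = s2 r := by unfold s2'; rw [if_neg hr3]
      rw [h1]
      calc bT m * s2 r ≤ s2 m * s2 r := Nat.mul_le_mul_right _ hb
        _ ≤ s2 (m + r) := s2_mul_le _ _
        _ ≤ s2' (m + r) := s2_le_s2' _

end Cfsg.Agent.Lib.Helper96.NilpotentPerm
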