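import Mathlib
import Cfsg.Agent.Lib.Helper96.NilpotentPermNum

/-!
# Nilpotent permutation groups have order at most that of a Sylow 2-subgroup (almost)

Main result `card_le_s2'`: a nilpotent subgroup of the symmetric group of degree `n` has order at
most `s2' n`, which is the order of a Sylow `2`-subgroup unless `n % 4 = 3`.
-/

set_option autoImplicit false

namespace Cfsg.Agent.Lib.Helper96.NilpotentPerm

open MulAction Subgroup

/-- In a finite nilpotent group a Sylow subgroup together with its centralizer generates the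
group. -/
theorem sylow_sup_centralizer_eq_top {T : Type*} [Group T] [Finite T]
    (hT : Group.IsNilpotent T) {p : ℕ} [Fact p.Prime] (P : Sylow p T) :
    (P : Subgroup T) ⊔ Subgroup.centralizer ((P : Subgroup T) : Set T) = ⊤ := by
  have := hT
  by_contra hne
  set H := (P : Subgroup T) ⊔ Subgroup.centralizer ((P : Subgroup T) : Set T) with hH
  have hidx : H.index ≠ 1 := fun h => hne (Subgroup.index_eq_one.1 h)
  obtain ⟨r, hr, hrdvd⟩ := Nat.exists_prime_and_dvd hidx
  have hrf : Fact r.Prime := ⟨hr⟩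
  by_cases hrp : r = p
  · subst hrp
    exact P.not_dvd_index (hrdvd.trans (Subgroup.index_dvd_of_le le_sup_left))
  · obtain ⟨Q⟩ : Nonempty (Sylow r T) := inferInstance
    have hQn : (Q : Subgroup T).Normal := inferInstance
    have hPn : (P : Subgroup T).Normal := inferInstance
    have hdis : Disjoint (Q : Subgroup T) (P : Subgroup T) :=
      IsPGroup.disjoint_of_ne r p hrp _ _ Q.2 P.2
    have hQH : (Q : Subgroup T) ≤ H := by
      refine le_trans ?_ le_sup_right
      intro x hx
      rw [Subgroup.mem_centralizer_iff]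
      intro y hy
      exact (Subgroup.commute_of_normal_of_disjoint _ _ hPn hQn hdis.symm y x hy hx).eq
    exact Q.not_dvd_index (hrdvd.trans (Subgroup.index_dvd_of_le hQH))

/-- The `p`-part of the order of a transitive nilpotent permutation group of degree `m` is at most
the `p`-part of `(m_p)!`. -/
theorem factorization_card_le_of_transitive {T Ω : Type*} [Group T] [Finite T] [MulAction T Ω]
    [Finite Ω] [FaithfulSMul T Ω] [IsPretransitive T Ω] (hT : Group.IsNilpotent T) (ω₀ : Ω)
    {p : ℕ} (hp : p.Prime) :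
    (Nat.card T).factorization p ≤
      ((p ^ ((Nat.card Ω).factorization p)).factorial).factorization p := by
  have hpf : Fact p.Prime := ⟨hp⟩
  have := hT
  have hΩne : Nonempty Ω := ⟨ω₀⟩
  obtain ⟨P⟩ : Nonempty (Sylow p T) := inferInstance
  have hPn : (P : Subgroup T).Normal := inferInstance
  -- the orbit of `P` is a block of `p`-power size
  obtain ⟨c, hc⟩ : ∃ c, (orbit (P : Subgroup T) ω₀).ncard = p ^ c := by
    have h1 : (orbit (P : Subgroup T) ω₀).ncard ∣ Nat.card (P : Subgroup T) := by
      rw [← MulAction.index_stabilizer]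
      exact Subgroup.index_dvd_card _
    obtain ⟨k, hk⟩ := P.2.exists_card_eq
    rw [hk] at h1
    obtain ⟨c, -, hc⟩ := (Nat.dvd_prime_pow hp).1 h1
    exact ⟨c, hc⟩
  have hblock : IsBlock T (orbit (P : Subgroup T) ω₀) := IsBlock.orbit_of_normal ω₀
  have hce : c ≤ (Nat.card Ω).factorization p := by
    have h2 : (orbit (P : Subgroup T) ω₀).ncard ∣ Nat.card Ω :=
      hblock.ncard_dvd_card ⟨ω₀, mem_orbit_self _⟩
    rw [hc] at h2
    exact (hp.pow_dvd_iff_le_factorization (Nat.card_pos.ne')).1 h2
  -- `P` acts faithfully on its orbit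
  have hinj : Function.Injective
      (MulAction.toPermHom (P : Subgroup T) (orbit (P : Subgroup T) ω₀)) := by
    rw [injective_iff_map_eq_one]
    intro x hx
    have hfix : ∀ y : (P : Subgroup T), (x : T) • ((y : T) • ω₀) = (y : T) • ω₀ := by
      intro y
      have h3 := congrArg (fun σ => ((σ ⟨y • ω₀, mem_orbit _ _⟩ :
        orbit (P : Subgroup T) ω₀) : Ω)) hx
      simpa [Subgroup.smul_def] using h3
    have hx1 : (x : T) = 1 := by
      apply FaithfulSMul.eq_of_smul_eq_smul (α := Ω)
      intro ω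
      obtain ⟨t, rfl⟩ := exists_smul_eq T ω₀ ω
      have ht : t ∈ ((P : Subgroup T) ⊔ Subgroup.centralizer ((P : Subgroup T) : Set T)) := by
        rw [sylow_sup_centralizer_eq_top hT P]; exact Subgroup.mem_top t
      rw [← SetLike.mem_coe, Subgroup.normal_mul, Set.mem_mul] at ht
      obtain ⟨y, hy, c', hc', rfl⟩ := ht
      rw [one_smul]
      have hz : y⁻¹ * (x : T) * y ∈ (P : Subgroup T) :=
        (P : Subgroup T).mul_mem ((P : Subgroup T).mul_mem ((P : Subgroup T).inv_mem hy) x.2) hy
      have hcomm : (y⁻¹ * (x : T) * y) * c' = c' * (y⁻¹ * (x : T) * y) :=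
        ((Subgroup.mem_centralizer_iff.1 hc') _ hz)
      have hzfix : (y⁻¹ * (x : T) * y) • ω₀ = ω₀ := by
        rw [mul_smul, mul_smul, hfix ⟨y, hy⟩, inv_smul_smul]
      calc (x : T) • (y * c') • ω₀ = ((x : T) * (y * c')) • ω₀ := (mul_smul _ _ _).symm
        _ = ((y * c') * (y⁻¹ * (x : T) * y)) • ω₀ := by
            congr 1
            calc (x : T) * (y * c') = y * ((y⁻¹ * (x : T) * y) * c') := by group
              _ = y * (c' * (y⁻¹ * (x : T) * y)) := by rw [hcomm]
              _ = (y * c') * (y⁻¹ * (x : T) * y) := by group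
        _ = (y * c') • ω₀ := by rw [mul_smul, hzfix]
    exact Subtype.ext hx1
  have hdvd : Nat.card (P : Subgroup T) ∣ (p ^ ((Nat.card Ω).factorization p)).factorial := by
    have h4 := Subgroup.card_dvd_of_injective _ hinj
    rw [Nat.card_perm, Nat.card_coe_set_eq, hc] at h4
    exact h4.trans (Nat.factorial_dvd_factorial (Nat.pow_le_pow_right hp.pos hce))
  rw [Sylow.card_eq_multiplicity] at hdvd
  exact (hp.pow_dvd_iff_le_factorization (Nat.factorial_ne_zero _)).1 hdvd

/-- A transitive nilpotent permutation group of degree `m` has order at most `bT m`. -/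
theorem card_le_bT_of_transitive {T Ω : Type*} [Group T] [Finite T] [MulAction T Ω]
    [Finite Ω] [FaithfulSMul T Ω] [IsPretransitive T Ω] (hT : Group.IsNilpotent T) (ω₀ : Ω) :
    Nat.card T ≤ bT (Nat.card Ω) := by
  have hΩne : Nonempty Ω := ⟨ω₀⟩
  have hT0 : Nat.card T ≠ 0 := Nat.card_pos.ne'
  have hΩ0 : Nat.card Ω ≠ 0 := Nat.card_pos.ne'
  have hsub : (Nat.card T).primeFactors ⊆ (Nat.card Ω).primeFactors := by
    intro p hp
    have hpp := Nat.prime_of_mem_primeFactors hp
    have h1 := factorization_card_le_of_transitive hT ω₀ hpp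
    rw [Nat.mem_primeFactors]
    refine ⟨hpp, ?_, hΩ0⟩
    by_contra hnd
    rw [Nat.factorization_eq_zero_of_not_dvd hnd] at h1
    simp only [pow_zero, Nat.factorial_one, Nat.factorization_one, Finsupp.coe_zero,
      Pi.zero_apply, Nat.le_zero_eq] at h1
    have h2 : 0 < (Nat.card T).factorization p :=
      hpp.factorization_pos_of_dvd hT0 (Nat.dvd_of_mem_primeFactors hp)
    omega
  calc Nat.card T = ∏ p ∈ (Nat.card T).primeFactors, p ^ (Nat.card T).factorization p :=
        (prod_primeFactors_pow_factorization hT0).symm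
    _ ≤ ∏ p ∈ (Nat.card T).primeFactors,
          p ^ ((p ^ ((Nat.card Ω).factorization p)).factorial.factorization p) := by
        apply Finset.prod_le_prod'
        intro p hp
        have hpp := Nat.prime_of_mem_primeFactors hp
        exact Nat.pow_le_pow_right hpp.pos (factorization_card_le_of_transitive hT ω₀ hpp)
    _ ≤ bT (Nat.card Ω) := by
        unfold bT
        apply Finset.prod_le_prod_of_subset_of_one_le' hsub
        intro p hp _
        exact Nat.one_le_pow _ _ (Nat.prime_of_mem_primeFactors hp).pos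

theorem s2'_zero : s2' 0 = 1 := by
  simp [s2', s2_zero]

/-- A nilpotent subgroup of the symmetric group of degree `n` has order at most `s2' n`. -/
theorem card_le_s2' : ∀ (n : ℕ) (Ω : Type) [Finite Ω], Nat.card Ω = n →
    ∀ N : Subgroup (Equiv.Perm Ω), Group.IsNilpotent N → Nat.card N ≤ s2' n := by
  intro n
  induction n using Nat.strong_induction_on with
  | _ n ih =>
  intro Ω _ hcard N hN
  rcases isEmpty_or_nonempty Ω with hΩ | ⟨⟨ω₀⟩⟩
  · have h1 : Nat.card N = 1 := Nat.card_unique
    have h0 : n = 0 := by rw [← hcard]; exact Nat.card_of_isEmpty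
    subst h0
    rw [h1, s2'_zero]
  · have := hN
    let S₁ : SubMulAction N Ω :=
      { carrier := orbit N ω₀
        smul_mem' := fun c x hx => mem_orbit_of_mem_orbit c hx }
    let S₂ : SubMulAction N Ω :=
      { carrier := (orbit N ω₀)ᶜ
        smul_mem' := fun c x hx h => hx (by simpa using mem_orbit_of_mem_orbit c⁻¹ h) }
    have hmem₁ : ∀ ω, ω ∈ S₁ ↔ ω ∈ orbit N ω₀ := fun ω => Iff.rfl
    have hmem₂ : ∀ ω, ω ∈ S₂ ↔ ω ∉ orbit N ω₀ := fun ω => Iff.rfl
    let φ₁ : N →* Equiv.Perm S₁ := toPermHom N S₁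
    let φ₂ : N →* Equiv.Perm S₂ := toPermHom N S₂
    have hφ₁ : ∀ (g : N) (ω : S₁), ((φ₁ g ω : S₁) : Ω) = (g : Equiv.Perm Ω) (ω : Ω) :=
      fun g ω => rfl
    have hφ₂ : ∀ (g : N) (ω : S₂), ((φ₂ g ω : S₂) : Ω) = (g : Equiv.Perm Ω) (ω : Ω) :=
      fun g ω => rfl
    -- `N` embeds in the product of the two images
    have hinj : Function.Injective
        (fun g : N => ((φ₁.rangeRestrict g, φ₂.rangeRestrict g) : φ₁.range × φ₂.range)) := by
      intro g h hgh
      simp only [Prod.mk.injEq] at hgh
      have h1 : φ₁ g = φ₁ h := congrArg Subtype.val hgh.1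
      have h2 : φ₂ g = φ₂ h := congrArg Subtype.val hgh.2
      apply Subtype.ext
      apply Equiv.ext
      intro ω
      by_cases hω : ω ∈ orbit N ω₀
      · have h3 := congrArg (fun σ : Equiv.Perm S₁ => ((σ ⟨ω, hω⟩ : S₁) : Ω)) h1
        simpa only [hφ₁] using h3
      · have h3 := congrArg (fun σ : Equiv.Perm S₂ => ((σ ⟨ω, hω⟩ : S₂) : Ω)) h2
        simpa only [hφ₂] using h3
    have hle : Nat.card N ≤ Nat.card φ₁.range * Nat.card φ₂.range := by
      rw [← Nat.card_prod]
      exact Nat.card_le_card_of_injective _ hinj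
    -- the two images are nilpotent
    have hnil₁ : Group.IsNilpotent φ₁.range :=
      Group.nilpotent_of_surjective φ₁.rangeRestrict φ₁.rangeRestrict_surjective
    have hnil₂ : Group.IsNilpotent φ₂.range :=
      Group.nilpotent_of_surjective φ₂.rangeRestrict φ₂.rangeRestrict_surjective
    -- cardinalities
    have hc₁ : Nat.card S₁ = (orbit N ω₀).ncard := Nat.card_coe_set_eq (orbit N ω₀)
    have hc₂ : Nat.card S₂ = (orbit N ω₀)ᶜ.ncard := Nat.card_coe_set_eq (orbit N ω₀)ᶜ
    have hsum : (orbit N ω₀).ncard + (orbit N ω₀)ᶜ.ncard = n := by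
      rw [← hcard]
      exact Set.ncard_add_ncard_compl _ (Set.toFinite _) (Set.toFinite _)
    have hm1 : 1 ≤ (orbit N ω₀).ncard := by
      rw [Nat.one_le_iff_ne_zero]
      exact Set.ncard_ne_zero_of_mem (mem_orbit_self _) (Set.toFinite _)
    -- the first image is transitive
    have htrans : IsPretransitive φ₁.range S₁ := by
      refine ⟨fun a b => ?_⟩
      have ha : (a : Ω) ∈ orbit N ω₀ := a.2
      have hb : (b : Ω) ∈ orbit N ω₀ := b.2
      rw [← orbit_eq_iff.2 ha] at hb
      obtain ⟨g, hg⟩ := hb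
      refine ⟨⟨φ₁ g, g, rfl⟩, Subtype.ext ?_⟩
      exact hg
    have hb₁ : Nat.card φ₁.range ≤ bT (orbit N ω₀).ncard := by
      rw [← hc₁]
      exact card_le_bT_of_transitive hnil₁ (⟨ω₀, mem_orbit_self _⟩ : S₁)
    have hb₂ : Nat.card φ₂.range ≤ s2' (n - (orbit N ω₀).ncard) :=
      ih (n - (orbit N ω₀).ncard) (by omega) S₂ (by rw [hc₂]; omega) φ₂.range hnil₂
    calc Nat.card N ≤ Nat.card φ₁.range * Nat.card φ₂.range := hle
      _ ≤ bT (orbit N ω₀).ncard * s2' (n - (orbit N ω₀).ncard) := Nat.mul_le_mul hb₁ hb₂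
      _ ≤ s2' n := bT_mul_s2'_le _ _ hm1 (by omega)

end Cfsg.Agent.Lib.Helper96.NilpotentPerm
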