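/-
helper96: sheet KSL, module [DSUM-DET].
-/
import Cfsg.Agent.Lib.Helper99.KSL.Defs

set_option autoImplicit false

universe u

namespace Cfsg.Agent.Lib.Helper99.KSL

open Polynomial Finset DirectSum
open Cfsg.Agent.Lib.Helper99.GLClass

variable {F : Type u} [Field F]

/-- determinant of a dependent block diagonal matrix -/
theorem det_blockDiagonal'_aux {ι : Type*} [Fintype ι] [DecidableEq ι] {m' : ι → Type*}
    [∀ i, Fintype (m' i)] [∀ i, DecidableEq (m' i)] {R : Type*} [CommRing R]
    (d : ∀ i, Matrix (m' i) (m' i) R) :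
    (Matrix.blockDiagonal' d).det = ∏ i, (d i).det := by
  classical
  let _ : LinearOrder ι := LinearOrder.lift' (Fintype.equivFin ι) (Fintype.equivFin ι).injective
  rw [(Matrix.blockTriangular_blockDiagonal' d).det_fintype]
  refine Finset.prod_congr rfl fun k _ => ?_
  have : (Matrix.blockDiagonal' d).toSquareBlock Sigma.fst k =
      Matrix.reindex (Equiv.sigmaSubtype k).symm (Equiv.sigmaSubtype k).symm (d k) := by
    ext ⟨⟨i, a⟩, h⟩ ⟨⟨j, c⟩, h'⟩
    cases h
    cases h'
    simp [Matrix.toSquareBlock_def, Equiv.sigmaSubtype]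
  rw [this, Matrix.det_reindex_self]

/-- [DSUM-DET] determinant of a diagonal map on a (dependent) finite direct sum. -/
theorem det_lmap {ι : Type*} [Fintype ι] [DecidableEq ι] {N : ι → Type*}
    [∀ i, AddCommGroup (N i)] [∀ i, Module F (N i)] [∀ i, Module.Finite F (N i)]
    (f : ∀ i, N i →ₗ[F] N i) :
    LinearMap.det (DirectSum.lmap f) = ∏ i, LinearMap.det (f i) := by
  classical
  let b : ∀ i, Module.Basis (Fin (Module.finrank F (N i))) F (N i) :=
    fun i => Module.finBasis F (N i)
  let B : Module.Basis (Σ i, Fin (Module.finrank F (N i))) F (⨁ i, N i) := DFinsupp.basis b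
  have hrepr : ∀ (x : ⨁ i, N i) (s : Σ i, Fin (Module.finrank F (N i))),
      B.repr x s = (b s.1).repr (x s.1) s.2 := by
    intro x s
    rfl
  have hB : ∀ s : Σ i, Fin (Module.finrank F (N i)),
      B s = DirectSum.lof F ι N s.1 (b s.1 s.2) := by
    intro s
    apply B.repr.injective
    ext t
    rw [Module.Basis.repr_self, hrepr]
    obtain ⟨j, c⟩ := s
    obtain ⟨i, a⟩ := t
    by_cases h : j = i
    · subst h
      simp only [DirectSum.lof_apply, Module.Basis.repr_self]
      by_cases hac : c = a
      · subst hac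
        simp
      · rw [Finsupp.single_eq_of_ne (Ne.symm hac), Finsupp.single_eq_of_ne]
        intro h'
        exact hac (by simpa using h'.symm)
    · have h0 : (DirectSum.lof F ι N j (b j c)) i = 0 := by
        rw [DirectSum.lof_eq_of]
        exact DirectSum.of_eq_of_ne _ _ _ (Ne.symm h)
      simp only [h0, map_zero, Finsupp.coe_zero, Pi.zero_apply]
      rw [Finsupp.single_eq_of_ne]
      intro h'
      exact h (by simpa using (congrArg Sigma.fst h').symm)
  rw [← LinearMap.det_toMatrix B]
  have key : LinearMap.toMatrix B B (DirectSum.lmap f) =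
      Matrix.blockDiagonal' (fun i => LinearMap.toMatrix (b i) (b i) (f i)) := by
    ext ⟨i, a⟩ ⟨j, c⟩
    rw [LinearMap.toMatrix_apply, Matrix.blockDiagonal'_apply, hrepr, hB, DirectSum.lmap_lof]
    by_cases h : i = j
    · subst h
      simp [LinearMap.toMatrix_apply, DirectSum.lof_apply]
    · have h0 : (DirectSum.lof F ι N j (f j (b j c))) i = 0 := by
        rw [DirectSum.lof_eq_of]
        exact DirectSum.of_eq_of_ne _ _ _ h
      simp [h, h0]
  rw [key, det_blockDiagonal'_aux]
  simp [LinearMap.det_toMatrix]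

end Cfsg.Agent.Lib.Helper99.KSL
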