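import Mathlib
import Cfsg.Prelude.Def_Characters
import Cfsg.Agent.Lib.Helper75.Monomial

/-!
# S4460 module [MAB] (helper96): abelian normal subgroup of prime power index ⇒ M-group

Adaptation of `Helper75.nilpotent_monomial_aux`.
-/

set_option autoImplicit false
open Cfsg
open scoped ComplexConjugate commutatorElement

universe u

namespace Cfsg.Agent.Lib.Helper96.ThreeDeg

open Cfsg.Agent.Lib.Helper75 Cfsg.Agent.Lib.Helper77 Cfsg.Agent.Lib.Helper78

/-- `Helper75.exists_normal_abelian_mod` with `G ⧸ Z` nilpotent instead of `G`. -/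
theorem exists_normal_abelian_mod' {G : Type u} [Group G] (K Z : Subgroup G) [K.Normal] [Z.Normal]
    [Group.IsNilpotent (G ⧸ Z)]
    (hZ : ∀ g, g ∈ Z ↔ ∀ h, ⁅g, h⁆ ∈ K) (hne : Z ≠ ⊤) :
    ∃ A : Subgroup G, A.Normal ∧ Z ≤ A ∧ ¬ A ≤ Z ∧ ∀ x ∈ A, ∀ y ∈ A, ⁅x, y⁆ ∈ K := by
  have hnt : Nontrivial (G ⧸ Z) := by
    by_contra h
    rw [not_nontrivial_iff_subsingleton] at h
    apply hne
    rw [eq_top_iff]
    intro g _
    rw [← QuotientGroup.eq_one_iff]
    exact Subsingleton.elim _ _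
  have hcen := Group.IsNilpotent.center_ne_bot (G ⧸ Z)
  obtain ⟨c, hc, hc1⟩ : ∃ c : G ⧸ Z, c ∈ Subgroup.center (G ⧸ Z) ∧ c ≠ 1 := by
    obtain ⟨c, h⟩ := (Subgroup.ne_bot_iff_exists_ne_one).mp hcen
    exact ⟨(c : G ⧸ Z), c.2, fun h' => h (Subtype.ext h')⟩
  obtain ⟨b, rfl⟩ := QuotientGroup.mk_surjective c
  have hn : (Subgroup.zpowers (b : G ⧸ Z)).Normal := zpowers_normal_of_mem_center hc
  refine ⟨(Subgroup.zpowers (b : G ⧸ Z)).comap (QuotientGroup.mk' Z), hn.comap _, ?_, ?_, ?_⟩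
  · intro z hz
    rw [Subgroup.mem_comap, QuotientGroup.mk'_apply, (QuotientGroup.eq_one_iff z).mpr hz]
    exact Subgroup.one_mem _
  · intro h
    have : b ∈ Z := h (by
      rw [Subgroup.mem_comap, QuotientGroup.mk'_apply]
      exact Subgroup.mem_zpowers _)
    exact hc1 ((QuotientGroup.eq_one_iff b).mpr this)
  · -- commutators
    have hcenK : ∀ z ∈ Z, (QuotientGroup.mk' K z) ∈ Subgroup.center (G ⧸ K) := by
      intro z hz
      rw [Subgroup.mem_center_iff]
      intro q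
      obtain ⟨g, rfl⟩ := QuotientGroup.mk'_surjective K q
      have h1 := (hZ z).mp hz g
      rw [← QuotientGroup.eq_one_iff, ← QuotientGroup.mk'_apply, map_commutatorElement,
        commutatorElement_eq_one_iff_mul_comm] at h1
      exact h1.symm
    have hdecomp : ∀ x, x ∈ (Subgroup.zpowers (b : G ⧸ Z)).comap (QuotientGroup.mk' Z) →
        ∃ (i : ℤ) (z : G), z ∈ Z ∧ x = b ^ i * z := by
      intro x hx
      rw [Subgroup.mem_comap, QuotientGroup.mk'_apply] at hx
      obtain ⟨i, hi⟩ := Subgroup.mem_zpowers_iff.mp hx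
      refine ⟨i, (b ^ i)⁻¹ * x, ?_, by group⟩
      rw [← QuotientGroup.eq, QuotientGroup.mk_zpow]
      exact hi
    intro x hx y hy
    obtain ⟨i, z, hz, rfl⟩ := hdecomp x hx
    obtain ⟨j, w, hw, rfl⟩ := hdecomp y hy
    rw [← QuotientGroup.eq_one_iff, ← QuotientGroup.mk'_apply, map_commutatorElement,
      commutatorElement_eq_one_iff_commute, map_mul, map_mul, map_zpow, map_zpow]
    have hzc : ∀ q : G ⧸ K, Commute q (QuotientGroup.mk' K z) :=
      fun q => Subgroup.mem_center_iff.mp (hcenK z hz) q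
    have hwc : ∀ q : G ⧸ K, Commute q (QuotientGroup.mk' K w) :=
      fun q => Subgroup.mem_center_iff.mp (hcenK w hw) q
    apply Commute.mul_left
    · apply Commute.mul_right
      · exact Commute.zpow_zpow_self _ _ _
      · exact hwc _
    · exact (hzc _).symm

/-- induction form of [MAB] -/
theorem monomial_aux (p : ℕ) (hp : p.Prime) (n : ℕ) : ∀ (G : Type u) [Group G] [Fintype G]
    (A : Subgroup G) [A.Normal], (∀ a ∈ A, ∀ b ∈ A, a * b = b * a) → (∃ k : ℕ, A.index = p ^ k) →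
    Nat.card G = n → ∀ χ : G → ℂ, IsIrrCharacter G χ →
    ∃ (H : Subgroup G) (lam : H →* ℂˣ), χ = indFun H (fun h => (lam h : ℂ)) := by
  induction n using Nat.strong_induction_on with
  | _ n ih =>
  intro G _ _ A _ hA hidx hcard χ hχ
  classical
  have : Fact p.Prime := ⟨hp⟩
  set χ' : IrrCharacter G := ⟨χ, hχ⟩ with hχ'
  by_cases hZ : irrCenter χ' = ⊤
  · exact monomial_of_apply_one_eq_one (IsIrrCharacter.isCharacter hχ)
      (apply_one_eq_one_of_irrCenter_eq_top χ' hZ)
  · -- the normal subgroup `B`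
    obtain ⟨B, hBn, hBZ, hcomm⟩ : ∃ B : Subgroup G, B.Normal ∧ ¬ B ≤ irrCenter χ' ∧
        ∀ x ∈ B, ∀ y ∈ B, ⁅x, y⁆ ∈ irrKer χ' := by
      by_cases hAZ : A ≤ irrCenter χ'
      · haveI : (irrCenter χ').Normal := inferInstance
        have hpg : IsPGroup p (G ⧸ irrCenter χ') := by
          obtain ⟨k, hk⟩ := hidx
          have hdvd : (irrCenter χ').index ∣ p ^ k := hk ▸ Subgroup.index_dvd_of_le hAZ
          obtain ⟨j, -, hj⟩ := (Nat.dvd_prime_pow hp).mp hdvd
          exact IsPGroup.of_card (n := j) (by rw [← hj]; rfl)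
        have : Group.IsNilpotent (G ⧸ irrCenter χ') := hpg.isNilpotent
        obtain ⟨B, hBn, -, hBZ, hcomm⟩ := exists_normal_abelian_mod' (irrKer χ') (irrCenter χ')
          (mem_irrCenter_iff_commutator χ') hZ
        exact ⟨B, hBn, hBZ, hcomm⟩
      · refine ⟨A, inferInstance, hAZ, ?_⟩
        intro x hx y hy
        have : ⁅x, y⁆ = 1 := by
          rw [commutatorElement_eq_one_iff_mul_comm]
          exact hA x hx y hy
        rw [this]
        exact Subgroup.one_mem _
    have := hBn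
    obtain ⟨θ, hθ⟩ := exists_constituent_res B hχ
    have hT := inertia_ne_top χ' B hBZ hcomm θ hθ
    set T := inertia B (θ : B → ℂ) with hTdef
    have hBT : B ≤ T :=
      le_inertia B (IsCharacter.isClassFunction (IsIrrCharacter.isCharacter θ.2))
    obtain ⟨ψ, hψ, hind, -⟩ := exists_indFun_eq_of_over B T hBT θ.2 (fun g => Iff.rfl) hχ hθ
    have hlt : Nat.card T < n := by
      rw [← hcard]
      apply lt_of_le_of_ne (Subgroup.card_le_card_group T)
      intro h
      exact hT (Subgroup.card_eq_iff_eq_top T |>.mp h)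
    have hAT : ∀ a ∈ A.subgroupOf T, ∀ b ∈ A.subgroupOf T, a * b = b * a := by
      intro a ha b hb
      exact Subtype.ext (hA a (Subgroup.mem_subgroupOf.mp ha) b (Subgroup.mem_subgroupOf.mp hb))
    have hidxT : ∃ k : ℕ, (A.subgroupOf T).index = p ^ k := by
      obtain ⟨k, hk⟩ := hidx
      have hdvd : (A.subgroupOf T).index ∣ p ^ k := hk ▸ Subgroup.relIndex_dvd_index_of_normal A T
      obtain ⟨j, -, hj⟩ := (Nat.dvd_prime_pow hp).mp hdvd
      exact ⟨j, hj⟩
    obtain ⟨H, lam, hlam⟩ := ih (Nat.card T) hlt T (A.subgroupOf T) hAT hidxT rfl ψ hψ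
    refine ⟨H.map T.subtype,
      lam.comp (H.equivMapOfInjective T.subtype T.subtype_injective).symm.toMonoidHom, ?_⟩
    rw [← hind, hlam, indFun_indFun]
    rfl

/-- **[MAB]**: a finite group with an abelian normal subgroup of prime power index is an M-group. -/
theorem monomial_of_abelian_normal_of_index_prime_pow {G : Type u} [Group G] [Fintype G]
    (p : ℕ) (hp : p.Prime) (A : Subgroup G) [A.Normal] (hA : ∀ a ∈ A, ∀ b ∈ A, a * b = b * a)
    (k : ℕ) (hidx : A.index = p ^ k) (χ : G → ℂ) (hχ : IsIrrCharacter G χ) :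
    ∃ (H : Subgroup G) (lam : H →* ℂˣ), χ = indFun H (fun h => (lam h : ℂ)) :=
  monomial_aux p hp (Nat.card G) G A hA ⟨k, hidx⟩ rfl χ hχ

end Cfsg.Agent.Lib.Helper96.ThreeDeg
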