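/-
helper96: sheet KSL, module [CYC-IDX].
-/
import Cfsg.Agent.Lib.Helper99.KSL.Defs

set_option autoImplicit false

universe u

namespace Cfsg.Agent.Lib.Helper99.KSL

open Polynomial Finset DirectSum
open Cfsg.Agent.Lib.Helper99.GLClass

/-- [CYC-IDX] a subgroup of a finite cyclic group containing all `m`-th powers, `m ∈ S`. -/
theorem index_le_gcd_of_pow_mem {A : Type*} [CommGroup A] [Finite A] [IsCyclic A]
    (D : Subgroup A) (S : Finset ℕ) (h : ∀ m ∈ S, ∀ c : A, c ^ m ∈ D) :
    D.index ≤ Nat.gcd (Nat.card A) (S.gcd id) := by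
  have hcyc : IsCyclic (A ⧸ D) :=
    isCyclic_of_surjective (QuotientGroup.mk' D) (QuotientGroup.mk'_surjective D)
  have hexp : Monoid.exponent (A ⧸ D) = Nat.card (A ⧸ D) := IsCyclic.exponent_eq_card
  have hidx : D.index = Nat.card (A ⧸ D) := Subgroup.index_eq_card D
  have hpos : 0 < Nat.gcd (Nat.card A) (S.gcd id) :=
    Nat.gcd_pos_of_pos_left _ Nat.card_pos
  refine Nat.le_of_dvd hpos ?_
  rw [hidx, ← hexp]
  refine Nat.dvd_gcd ?_ ?_
  · refine Monoid.exponent_dvd_of_forall_pow_eq_one ?_
    intro x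
    induction x using QuotientGroup.induction_on with
    | H a =>
      rw [← QuotientGroup.mk_pow, pow_card_eq_one', QuotientGroup.mk_one]
  · refine Finset.dvd_gcd ?_
    intro m hm
    refine Monoid.exponent_dvd_of_forall_pow_eq_one ?_
    intro x
    induction x using QuotientGroup.induction_on with
    | H a =>
      rw [← QuotientGroup.mk_pow]
      exact (QuotientGroup.eq_one_iff _).mpr (h m hm a)

end Cfsg.Agent.Lib.Helper99.KSL
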