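import Mathlib
import Cfsg.Agent.Lib.Helper96.ElemAb

/-!
The basis theorem for elementary abelian `p`-groups and Burnside's basis theorem
(generation modulo the Frattini subgroup).
-/

set_option autoImplicit false

namespace Cfsg.Agent.Lib.Helper96

theorem addImage_coe_finset {E : Type*} [DecidableEq (Additive E)] (T : Finset E) :
    addImage (T : Set E) = ↑(T.image (fun s : E => Additive.ofMul s)) := by
  rw [Finset.coe_image]
  rfl

section ElemAb

variable {E : Type*} [CommGroup E] [Finite E] (p : ℕ) [Fact p.Prime] [Module (ZMod p) (Additive E)]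

theorem finrank_additive_eq (n : ℕ) (hcard : Nat.card E = p ^ n) :
    Module.finrank (ZMod p) (Additive E) = n := by
  have h1 : Nat.card (Additive E) = Nat.card (ZMod p) ^ Module.finrank (ZMod p) (Additive E) :=
    Module.natCard_eq_pow_finrank
  have h2 : Nat.card (Additive E) = Nat.card E := Nat.card_congr Additive.toMul
  rw [h2, hcard, Nat.card_zmod] at h1
  exact (Nat.pow_right_injective (Fact.out : p.Prime).two_le h1).symm

theorem elemAb_le_card (n : ℕ) (hcard : Nat.card E = p ^ n) (T : Finset E)
    (hT : Subgroup.closure (T : Set E) = ⊤) : n ≤ T.card := by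
  classical
  have h1 := span_eq_top_of_closure_eq_top p (T : Set E) hT
  rw [addImage_coe_finset] at h1
  have h2 := finrank_span_finset_le_card (R := ZMod p) (T.image (fun s : E => Additive.ofMul s))
  rw [Set.finrank, h1, finrank_top, finrank_additive_eq p n hcard] at h2
  exact h2.trans Finset.card_image_le

theorem elemAb_exists_subset (n : ℕ) (hcard : Nat.card E = p ^ n) (S : Finset E)
    (hS : Subgroup.closure (S : Set E) = ⊤) :
    ∃ T : Finset E, T ⊆ S ∧ T.card = n ∧ Subgroup.closure (T : Set E) = ⊤ := by
  classical
  have h1 := span_eq_top_of_closure_eq_top p (S : Set E) hS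
  obtain ⟨b, hbS, hspan, hli⟩ := exists_linearIndependent (ZMod p) (addImage (S : Set E))
  rw [h1] at hspan
  have hbfin : b.Finite := Set.Finite.subset (Set.toFinite _) hbS
  set b' : Finset (Additive E) := hbfin.toFinset with hb'
  have hb'coe : (b' : Set (Additive E)) = b := hbfin.coe_toFinset
  have hcardb : b'.card = n := by
    have hli' : LinearIndepOn (ZMod p) id (b' : Set (Additive E)) := by
      rw [hb'coe]; exact hli
    have := finrank_span_finset_eq_card hli'
    rw [hb'coe, hspan, finrank_top, finrank_additive_eq p n hcard] at this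
    exact this.symm
  have hsurj : Set.SurjOn (fun s : E => Additive.ofMul s) (S : Set E) (b' : Set (Additive E)) := by
    rw [hb'coe]
    exact hbS
  obtain ⟨u, huS, hinj, himg⟩ := Finset.exists_subset_injOn_image_eq_of_surjOn _ _ hsurj
  refine ⟨u, by exact_mod_cast huS, ?_, ?_⟩
  · rw [← hcardb, ← himg, Finset.card_image_of_injOn hinj]
  · apply closure_eq_top_of_span_eq_top p
    rw [addImage_coe_finset, himg, hb'coe, hspan]

end ElemAb

/-- The basis theorem for a finite elementary abelian group of order `p ^ n`, stated without instances. -/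
theorem elemAb_basis {E : Type*} [Group E] [Finite E] (p n : ℕ) [Fact p.Prime]
    (hcomm : ∀ a b : E, a * b = b * a) (hexp : ∀ x : E, x ^ p = 1) (hcard : Nat.card E = p ^ n) :
    (∀ S : Finset E, Subgroup.closure (S : Set E) = ⊤ →
      ∃ T : Finset E, T ⊆ S ∧ T.card = n ∧ Subgroup.closure (T : Set E) = ⊤) ∧
    (∀ T : Finset E, Subgroup.closure (T : Set E) = ⊤ → n ≤ T.card) := by
  let _i1 : CommGroup E := { (inferInstance : Group E) with mul_comm := hcomm }
  let _i2 : Module (ZMod p) (Additive E) := AddCommGroup.zmodModule (n := p) (fun v => by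
    have := hexp (Additive.toMul v)
    exact congrArg Additive.ofMul this)
  exact ⟨fun S hS => elemAb_exists_subset p n hcard S hS, fun T hT => elemAb_le_card p n hcard T hT⟩

/-- A subset generating `G` modulo the Frattini subgroup generates `G`. -/
theorem closure_eq_top_of_map_mk_frattini {G : Type*} [Group G] [Finite G] (S : Set G)
    (h : Subgroup.closure ((QuotientGroup.mk' (frattini G)) '' S) = ⊤) : Subgroup.closure S = ⊤ := by
  apply frattini_nongenerating
  have h1 : (Subgroup.closure S).map (QuotientGroup.mk' (frattini G)) = ⊤ := by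
    rw [MonoidHom.map_closure]; exact h
  have h2 := Subgroup.comap_map_eq (QuotientGroup.mk' (frattini G)) (Subgroup.closure S)
  rw [h1, Subgroup.comap_top, QuotientGroup.ker_mk'] at h2
  exact h2.symm

/-- Burnside's basis theorem, assuming the Frattini quotient is elementary abelian of order `p ^ n`. -/
theorem burnside_basis_of_elemAb {G : Type*} [Group G] [Finite G] (p n : ℕ) [Fact p.Prime]
    (hcomm : commutator G ≤ frattini G) (hpow : ∀ x : G, x ^ p ∈ frattini G)
    (hn : (frattini G).index = p ^ n) :
    (∀ S : Finset G, Subgroup.closure (S : Set G) = ⊤ →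
      ∃ T : Finset G, T ⊆ S ∧ T.card = n ∧ Subgroup.closure (T : Set G) = ⊤) ∧
    (∀ T : Finset G, Subgroup.closure (T : Set G) = ⊤ → n ≤ T.card) := by
  classical
  have hc : IsMulCommutative (G ⧸ frattini G) :=
    Subgroup.Normal.quotient_commutative_iff_commutator_le.mpr hcomm
  have hcomm' : ∀ a b : G ⧸ frattini G, a * b = b * a := fun a b => hc.is_comm.comm a b
  have hexp' : ∀ x : G ⧸ frattini G, x ^ p = 1 := by
    intro x
    induction x using QuotientGroup.induction_on with
    | H g =>
      rw [← QuotientGroup.mk_pow, QuotientGroup.eq_one_iff]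
      exact hpow g
  have hcard : Nat.card (G ⧸ frattini G) = p ^ n := by
    rw [← Subgroup.index_eq_card]; exact hn
  obtain ⟨hE1, hE2⟩ := elemAb_basis p n hcomm' hexp' hcard
  have hmap : ∀ S : Finset G, Subgroup.closure (S : Set G) = ⊤ →
      Subgroup.closure ((S.image (QuotientGroup.mk' (frattini G)) : Finset (G ⧸ frattini G)) :
        Set (G ⧸ frattini G)) = ⊤ := by
    intro S hS
    rw [Finset.coe_image, ← MonoidHom.map_closure, hS]
    exact Subgroup.map_top_of_surjective _ (QuotientGroup.mk'_surjective _)
  constructor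
  · intro S hS
    obtain ⟨T', hT'S, hT'card, hT'⟩ := hE1 _ (hmap S hS)
    have hsurj : Set.SurjOn (QuotientGroup.mk' (frattini G)) (S : Set G) (T' : Set (G ⧸ frattini G)) := by
      intro t ht
      have := hT'S ht
      rw [Finset.mem_image] at this
      obtain ⟨s, hs, rfl⟩ := this
      exact ⟨s, hs, rfl⟩
    obtain ⟨u, huS, hinj, himg⟩ := Finset.exists_subset_injOn_image_eq_of_surjOn _ _ hsurj
    refine ⟨u, by exact_mod_cast huS, ?_, ?_⟩
    · rw [← hT'card, ← himg, Finset.card_image_of_injOn hinj]
    · apply closure_eq_top_of_map_mk_frattini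
      rw [← Finset.coe_image, himg]
      exact hT'
  · intro T hT
    exact (hE2 _ (hmap T hT)).trans Finset.card_image_le

end Cfsg.Agent.Lib.Helper96
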