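/-
helper96: sheet KSL, module [NORM-SURJ].
-/
import Cfsg.Agent.Lib.Helper99.KSL.Defs

set_option autoImplicit false

universe u

namespace Cfsg.Agent.Lib.Helper99.KSL

open Polynomial Finset DirectSum
open Cfsg.Agent.Lib.Helper99.GLClass

variable {F : Type u} [Field F]

/-- [NORM-SURJ] the norm of a finite field extension is onto. -/
theorem exists_det_mulBy_eq [Fintype F] (p : F[X]) (hp : Irreducible p) (c : Fˣ) :
    ∃ r : F[X], LinearMap.det (mulBy (F[X] ⧸ (F[X] ∙ p)) r) = (c : F) := by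
  have : Fact (Irreducible p) := ⟨hp⟩
  have : Module.Finite F (AdjoinRoot p) := (AdjoinRoot.powerBasis hp.ne_zero).finite
  have : Finite (AdjoinRoot p) := Module.finite_of_finite F
  obtain ⟨x, hx⟩ := FiniteField.norm_surjective F (AdjoinRoot p) (c : F)
  obtain ⟨r, rfl⟩ := AdjoinRoot.mk_surjective x
  refine ⟨r, ?_⟩
  rw [← hx, Algebra.norm_apply]
  rfl

end Cfsg.Agent.Lib.Helper99.KSL
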