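/-
helper96: sheet KSL, module [SYLV].
-/
import Cfsg.Agent.Lib.Helper99.KSL.Defs

set_option autoImplicit false

universe u

namespace Cfsg.Agent.Lib.Helper99.KSL

open Polynomial Finset DirectSum
open Cfsg.Agent.Lib.Helper99.GLClass

variable {F : Type u} [Field F]

/-- [SYLV] Weinstein–Aronszajn / Sylvester for linear maps. -/
theorem det_one_add_comp_comm {V W : Type*} [AddCommGroup V] [AddCommGroup W] [Module F V]
    [Module F W] [Module.Finite F V] [Module.Finite F W] (A : W →ₗ[F] V) (B : V →ₗ[F] W) :
    LinearMap.det (LinearMap.id + A ∘ₗ B) = LinearMap.det (LinearMap.id + B ∘ₗ A) := by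
  classical
  let bV := Module.finBasis F V
  let bW := Module.finBasis F W
  rw [← LinearMap.det_toMatrix bV, ← LinearMap.det_toMatrix bW]
  rw [map_add, map_add, LinearMap.toMatrix_id, LinearMap.toMatrix_id,
    LinearMap.toMatrix_comp bV bW bV A B, LinearMap.toMatrix_comp bW bV bW B A]
  exact Matrix.det_one_add_mul_comm _ _

end Cfsg.Agent.Lib.Helper99.KSL
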