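import Cfsg.Agent.Lib.Helper80.DG.FrobC

/-!
# S4460 module [COP-F] (helper96): the Frobenius case with three coprime degrees

`N ⊴ G`, `G/N` abelian `≠ 1`, `N/K'` an abelian `q`-group `≠ 1` on which every `g ∉ N` acts fixed point freely,
`cd(G) = {1, m, n}` with `gcd(m,n) = 1`.  Then `cd(N) ⊆ {1, c}`.
-/

set_option autoImplicit false
set_option linter.unusedSectionVars false

namespace Cfsg.Agent.Lib.Helper96.ThreeDeg

open Cfsg
open Cfsg.Agent.Lib
open Cfsg.Agent.Lib.Helper80 Cfsg.Agent.Lib.Helper80.DG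
open scoped ComplexConjugate

universe u

section Main

variable {G : Type u} [Group G] [Fintype G] (N : Subgroup G) [hN : N.Normal] [Fintype N]
variable (K' : Subgroup N) [hK' : K'.Normal]

/-- If the inertia group of `ψ' ∈ Irr(N)` is `N`, the induced character is irreducible of degree
`|G : N| ψ'(1)`. -/
theorem exists_irr_of_inertia_eq (ψ' : IrrCharacter N)
    (hψ' : ∀ g : G, g ∉ N → Helper75.conjFun N g (ψ' : N → ℂ) ≠ (ψ' : N → ℂ)) :
    ∃ ξ : IrrCharacter G, charDegree (ξ : G → ℂ) = N.index * charDegree (ψ' : N → ℂ) := by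
  classical
  have hT : ∀ g : G, g ∈ N ↔ Helper75.conjFun N g (ψ' : N → ℂ) = (ψ' : N → ℂ) := by
    intro g
    constructor
    · intro hg
      exact Helper75.conjFun_of_mem N (Helper78.IsCharacter.isClassFunction
        (Helper78.IsIrrCharacter.isCharacter ψ'.2)) ⟨g, hg⟩
    · intro hg
      by_contra hgN
      exact hψ' g hgN hg
  have hnorm := Helper75.classInner_indFun_self N N ψ'.2 hT
  rw [div_self (by exact_mod_cast (Nat.card_pos (α := N)).ne')] at hnorm
  have hirr : IsIrrCharacter G (indFun N (ψ' : N → ℂ)) :=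
    Helper78.isIrrCharacter_of_classInner_self_eq_one
      (Cfsg.Agent.S0148.result N _ (Helper78.IsIrrCharacter.isCharacter ψ'.2)) hnorm
  have hdegξ : charDegree (indFun N (ψ' : N → ℂ)) = N.index * charDegree (ψ' : N → ℂ) := by
    apply charDegree_natCast
    rw [Helper75.indFun_one,
      Helper78.IsCharacter.apply_one_eq_charDegree (Helper78.IsIrrCharacter.isCharacter ψ'.2)]
    push_cast
    rfl
  exact ⟨⟨_, hirr⟩, hdegξ⟩

/-- (F1) `|G : N|` is a character degree of `G`. -/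
theorem exists_irr_degree_index
    (hKinv : ∀ (g : G) (n : N), n ∈ K' → cj N g n ∈ K')
    (habN : ∀ a b : N, a * b * a⁻¹ * b⁻¹ ∈ K')
    (hfpf : ∀ g : G, g ∉ N → ∀ n : N, cj N g n * n⁻¹ ∈ K' → n ∈ K')
    (hKtop : K' ≠ ⊤) :
    ∃ ξ : IrrCharacter G, charDegree (ξ : G → ℂ) = N.index := by
  classical
  obtain ⟨n₀, hn₀⟩ : ∃ n₀ : N, n₀ ∉ K' := by
    by_contra h
    push Not at h
    exact hKtop (eq_top_iff.mpr fun x _ => h x)
  obtain ⟨lam, hlam1, hlam2⟩ := Helper89.DG.exists_hom_ne_one_of_not_mem K' habN n₀ hn₀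
  have hlamne : lam ≠ 1 := by
    intro h
    apply hlam2
    rw [h, MonoidHom.one_apply]
  set ψ' : IrrCharacter N := ⟨homFun lam, Helper77.isIrrCharacter_of_monoidHom lam⟩ with hψ'def
  have hfix : ∀ g : G, g ∉ N → Helper75.conjFun N g (ψ' : N → ℂ) ≠ (ψ' : N → ℂ) := by
    intro g hg h
    change Helper75.conjFun N g (homFun lam) = homFun lam at h
    rw [← Helper80.homFun_conjHom] at h
    have h2 : Helper80.conjHom N g lam = lam := Helper80.homFun_injective h
    exact hlamne (eq_one_of_conjHom_eq N K' g (hKinv g) (hfpf g hg) lam hlam1 h2)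
  obtain ⟨ξ, hξ⟩ := exists_irr_of_inertia_eq N ψ' hfix
  refine ⟨ξ, ?_⟩
  rw [hξ]
  have : charDegree (ψ' : N → ℂ) = 1 := by
    apply charDegree_natCast
    change homFun lam 1 = ((1 : ℕ) : ℂ)
    simp [homFun]
  rw [this, mul_one]

/-- the core: `f = |G : N|`, `f'` the other degree. -/
theorem frob_three_deg_core
    (hKinv : ∀ (g : G) (n : N), n ∈ K' → cj N g n ∈ K')
    (habN : ∀ a b : N, a * b * a⁻¹ * b⁻¹ ∈ K')
    (habG : ∀ x y : G, x * y * x⁻¹ * y⁻¹ ∈ N)
    (hfpf : ∀ g : G, g ∉ N → ∀ n : N, cj N g n * n⁻¹ ∈ K' → n ∈ K')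
    (q : ℕ) (hq : q.Prime) (hidx : ∃ a : ℕ, 0 < a ∧ K'.index = q ^ a)
    (f f' : ℕ) (hf : N.index = f) (hf1 : 1 < f) (hf'1 : 1 < f') (hcop : Nat.Coprime f f')
    (hcd : ∀ χ : IrrCharacter G, charDegree (χ : G → ℂ) = 1 ∨
      charDegree (χ : G → ℂ) = f ∨ charDegree (χ : G → ℂ) = f')
    (hexf' : ∃ χ : IrrCharacter G, charDegree (χ : G → ℂ) = f') :
    ∀ ψ : IrrCharacter N, charDegree (ψ : N → ℂ) = 1 ∨ charDegree (ψ : N → ℂ) = f' := by
  classical
  -- (F2)
  have hF2 : ∀ ψ : IrrCharacter N, charDegree (ψ : N → ℂ) ≠ 1 → q ∣ charDegree (ψ : N → ℂ) := by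
    intro ψ hψ1
    set d := charDegree (ψ : N → ℂ) with hd
    by_cases hbig : ∀ ψ' : IrrCharacter N, charDegree (ψ' : N → ℂ) = d →
        ∃ g : G, g ∉ N ∧ Helper75.conjFun N g (ψ' : N → ℂ) = (ψ' : N → ℂ)
    · have hvan : ∀ n : N, n ∉ K' → (ψ : N → ℂ) n = 0 := by
        intro n hn
        obtain ⟨lam, hlam1, hlam2⟩ := Helper89.DG.exists_hom_ne_one_of_not_mem K' habN n hn
        have h1 := mul_homFun_eq_self_of_inertia_big N K' hKinv habG hfpf d hbig ψ rfl lam hlam1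
        have h2 := congrFun h1 n
        simp only [Pi.mul_apply] at h2
        have h3 : (ψ : N → ℂ) n * (homFun lam n - 1) = 0 := by rw [mul_sub, h2, mul_one, sub_self]
        rcases mul_eq_zero.mp h3 with h4 | h4
        · exact h4
        · exfalso
          apply hlam2
          have h5 : ((lam n : ℂˣ) : ℂ) = 1 := sub_eq_zero.mp h4
          exact Units.ext (by simpa using h5)
      exact Helper77.prime_dvd_charDegree_of_vanishing_off K' q hq hidx ψ hvan
    · exfalso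
      push Not at hbig
      obtain ⟨ψ', hψ'd, hψ'⟩ := hbig
      obtain ⟨ξ, hξ⟩ := exists_irr_of_inertia_eq N ψ' hψ'
      rw [hψ'd, hf] at hξ
      have hd0 : d ≠ 0 := by
        intro h0
        have h1 := Helper78.IsCharacter.apply_one_eq_charDegree
          (Helper78.IsIrrCharacter.isCharacter ψ.2)
        rw [← hd, h0, Nat.cast_zero] at h1
        exact Helper78.IsIrrCharacter.apply_one_ne_zero ψ.2 h1
      rcases hcd ξ with h | h | h
      · rw [hξ] at h
        have := Nat.eq_one_of_mul_eq_one_right h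
        omega
      · rw [hξ] at h
        have : f * d = f * 1 := by rw [h, mul_one]
        exact hψ1 (Nat.eq_of_mul_eq_mul_left (by omega) this)
      · rw [hξ] at h
        have hdvd : f ∣ f' := Dvd.intro d h
        have := Nat.Coprime.eq_one_of_dvd hcop hdvd
        omega
  -- (F3)
  obtain ⟨χ₀, hχ₀⟩ := hexf'
  have hq' : ¬ q ∣ f := by
    obtain ⟨ψ₀, hψ₀⟩ := Helper75.exists_constituent_res N χ₀.2
    have h1 := charDegree_dvd_index_mul N habG χ₀ ψ₀ hψ₀
    rw [hχ₀, hf] at h1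
    have h2 : f' ∣ charDegree (ψ₀ : N → ℂ) := (Nat.Coprime.symm hcop).dvd_of_dvd_mul_left h1
    have h3 : charDegree (ψ₀ : N → ℂ) ∣ f' := hχ₀ ▸ charDegree_dvd_of_over N χ₀.2 ψ₀.2 hψ₀
    have h4 : charDegree (ψ₀ : N → ℂ) = f' := Nat.dvd_antisymm h3 h2
    have h5 : q ∣ f' := h4 ▸ hF2 ψ₀ (by rw [h4]; omega)
    intro h6
    have := Nat.eq_one_of_dvd_coprimes hcop h6 h5
    exact hq.one_lt.ne' this
  -- (F4)
  intro ψ
  obtain ⟨χ, hχ, hover⟩ := exists_irr_over' N ψ.2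
  have hdvd : charDegree (ψ : N → ℂ) ∣ charDegree χ := charDegree_dvd_of_over N hχ ψ.2 hover
  rcases hcd ⟨χ, hχ⟩ with h | h | h
  · left
    change charDegree χ = 1 at h
    rw [h] at hdvd
    exact Nat.dvd_one.mp hdvd
  · left
    change charDegree χ = f at h
    rw [h] at hdvd
    by_contra hne
    exact hq' ((hF2 ψ hne).trans hdvd)
  · right
    change charDegree χ = f' at h
    have h1 := charDegree_dvd_index_mul N habG ⟨χ, hχ⟩ ψ hover
    change charDegree χ ∣ _ at h1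
    rw [h, hf] at h1
    have h2 : f' ∣ charDegree (ψ : N → ℂ) := (Nat.Coprime.symm hcop).dvd_of_dvd_mul_left h1
    rw [h] at hdvd
    exact Nat.dvd_antisymm hdvd h2

/-- **[COP-F]** -/
theorem frob_three_deg_coprime
    (hKinv : ∀ (g : G) (n : N), n ∈ K' → Helper80.DG.cj N g n ∈ K')
    (habN : ∀ a b : N, a * b * a⁻¹ * b⁻¹ ∈ K')
    (habG : ∀ x y : G, x * y * x⁻¹ * y⁻¹ ∈ N)
    (hfpf : ∀ g : G, g ∉ N → ∀ n : N, Helper80.DG.cj N g n * n⁻¹ ∈ K' → n ∈ K')
    (q : ℕ) (hq : q.Prime) (hidx : ∃ a : ℕ, 0 < a ∧ K'.index = q ^ a) (hNidx : N.index ≠ 1)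
    (m n : ℕ) (hm1 : 1 < m) (hn1 : 1 < n) (hcop : Nat.Coprime m n)
    (hcd : ∀ χ : IrrCharacter G, charDegree (χ : G → ℂ) = 1 ∨
      charDegree (χ : G → ℂ) = m ∨ charDegree (χ : G → ℂ) = n)
    (hexm : ∃ χ : IrrCharacter G, charDegree (χ : G → ℂ) = m)
    (hexn : ∃ χ : IrrCharacter G, charDegree (χ : G → ℂ) = n) :
    ∃ c : ℕ, ∀ ψ : IrrCharacter N, charDegree (ψ : N → ℂ) = 1 ∨ charDegree (ψ : N → ℂ) = c := by
  have hKtop : K' ≠ ⊤ := by
    intro h
    obtain ⟨a, ha, hKa⟩ := hidx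
    rw [h, Subgroup.index_top] at hKa
    have : 1 < q ^ a := Nat.one_lt_pow ha.ne' hq.one_lt
    omega
  obtain ⟨ξ, hξ⟩ := exists_irr_degree_index N K' hKinv habN hfpf hKtop
  rcases hcd ξ with h | h | h
  · exact absurd (hξ ▸ h) hNidx
  · exact ⟨n, frob_three_deg_core N K' hKinv habN habG hfpf q hq hidx m n (hξ ▸ h) hm1 hn1 hcop
      hcd hexn⟩
  · refine ⟨m, frob_three_deg_core N K' hKinv habN habG hfpf q hq hidx n m (hξ ▸ h) hn1 hm1
      hcop.symm (fun χ => ?_) hexm⟩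
    rcases hcd χ with h' | h' | h'
    · exact Or.inl h'
    · exact Or.inr (Or.inr h')
    · exact Or.inr (Or.inl h')

end Main

end Cfsg.Agent.Lib.Helper96.ThreeDeg
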