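-- helper96: generic counting lemmas for Alperin's theorem (S3782).
import Mathlib
import Cfsg.Agent.S3780

set_option autoImplicit false
set_option linter.unusedSectionVars false

namespace Cfsg.Agent.Lib.Helper96.Alp

open scoped Pointwise

section FixQuot

variable {X : Type*} [Group X] [Finite X]

/-- An endomorphism `f` of a finite group inducing `g` on a quotient `X ⧸ Y`: `g` has at most as
many fixed points as `f`. -/
theorem card_fix_quot_le (Y : Subgroup X) [Y.Normal] (f : X →* X) (g : X ⧸ Y → X ⧸ Y)
    (hg : ∀ x : X, g (x : X ⧸ Y) = ((f x : X) : X ⧸ Y)) :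
    Nat.card {t : X ⧸ Y // g t = t} ≤ Nat.card {x : X // f x = x} := by
  classical
  -- `K` : preimage of the fixed points
  set T : Set (X ⧸ Y) := {t | g t = t} with hT
  set K : Set X := QuotientGroup.mk ⁻¹' T with hK
  have hKcard : Nat.card K = Nat.card Y * Nat.card T := QuotientGroup.card_preimage_mk Y T
  have hKmem : ∀ x : X, x ∈ K ↔ x⁻¹ * f x ∈ Y := by
    intro x
    rw [hK, Set.mem_preimage, hT, Set.mem_ofPred_eq, hg, eq_comm, QuotientGroup.eq]
  -- the map `x ↦ x⁻¹ f x`
  let ψ : K → Y := fun x => ⟨(x : X)⁻¹ * f (x : X), (hKmem x).1 x.2⟩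
  let rep : Y → K := fun y => if h : ∃ x : K, ψ x = y then h.choose else
    ⟨1, (hKmem 1).2 (by simp)⟩
  have hrep : ∀ x : K, ψ (rep (ψ x)) = ψ x := by
    intro x
    have h : ∃ x' : K, ψ x' = ψ x := ⟨x, rfl⟩
    simp only [rep, dif_pos h]
    exact h.choose_spec
  have hfix : ∀ x r : K, ψ r = ψ x → f ((x : X) * (r : X)⁻¹) = (x : X) * (r : X)⁻¹ := by
    intro x r h
    have h' : (r : X)⁻¹ * f (r : X) = (x : X)⁻¹ * f (x : X) := congrArg Subtype.val h
    have h1 : f (x : X) = (x : X) * ((r : X)⁻¹ * f (r : X)) := by rw [h']; group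
    rw [map_mul, map_inv, h1]
    group
  have hinj : Function.Injective (fun x : K =>
      ((ψ x, ⟨(x : X) * ((rep (ψ x) : K) : X)⁻¹, hfix x (rep (ψ x)) (hrep x)⟩) :
        Y × {x : X // f x = x})) := by
    intro x x' h
    have h1 : ψ x = ψ x' := congrArg Prod.fst h
    have h2 : (x : X) * ((rep (ψ x) : K) : X)⁻¹ = (x' : X) * ((rep (ψ x') : K) : X)⁻¹ :=
      congrArg (fun z => ((z.2 : {x : X // f x = x}) : X)) h
    rw [h1] at h2
    exact Subtype.ext (mul_right_cancel h2)
  have hle : Nat.card K ≤ Nat.card Y * Nat.card {x : X // f x = x} := by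
    rw [← Nat.card_prod]
    exact Nat.card_le_card_of_injective _ hinj
  rw [hKcard] at hle
  have hpos : 0 < Nat.card Y := Nat.card_pos
  exact Nat.le_of_mul_le_mul_left hle hpos

end FixQuot

section Closure

variable {V : Type*} [CommGroup V] [Finite V]

/-- in a finite abelian group of exponent dividing `c`, the subgroup generated by a finite set `S`
has at most `c ^ |S|` elements. -/
theorem card_closure_le_pow (c : ℕ) (hc : 0 < c) (hexp : ∀ t : V, t ^ c = 1) (S : Finset V) :
    Nat.card (Subgroup.closure (S : Set V)) ≤ c ^ S.card := by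
  classical
  induction S using Finset.induction_on with
  | empty => simp
  | insert s S hs ih =>
    rw [Finset.card_insert_of_notMem hs, Finset.coe_insert, Set.insert_eq, Subgroup.closure_union]
    have h1 : Nat.card (Subgroup.closure ({s} : Set V)) ≤ c := by
      rw [← Subgroup.zpowers_eq_closure, Nat.card_zpowers]
      exact Nat.le_of_dvd hc (orderOf_dvd_of_pow_eq_one (hexp s))
    have h2 : ((Subgroup.closure ({s} : Set V) ⊔ Subgroup.closure (S : Set V) : Subgroup V) :
        Set V) = (Subgroup.closure ({s} : Set V) : Set V) * (Subgroup.closure (S : Set V) : Set V) :=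
      Subgroup.normal_mul _ _
    calc Nat.card ↥(Subgroup.closure ({s} : Set V) ⊔ Subgroup.closure (S : Set V))
        = Nat.card ((Subgroup.closure ({s} : Set V) : Set V) *
            (Subgroup.closure (S : Set V) : Set V) : Set V) := by
          rw [← h2]; rfl
      _ ≤ Nat.card (Subgroup.closure ({s} : Set V) : Set V) *
            Nat.card (Subgroup.closure (S : Set V) : Set V) := Set.natCard_mul_le
      _ ≤ c * c ^ S.card := Nat.mul_le_mul h1 ih
      _ = c ^ (S.card + 1) := by rw [pow_succ']

end Closure

section AutBound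

/-- **Rank bound, packaged.** A finite abelian `p`-group `V` of exponent dividing `c` with an
automorphism `θ`, `θ ^ p = 1`, having at most `p ^ n` fixed points, has at most
`p ^ n * c ^ (p * n)` elements. -/
theorem card_le_of_aut {V : Type*} [Group V] [Finite V] (hcomm : ∀ a b : V, a * b = b * a)
    {p : ℕ} [hp : Fact p.Prime] (hV : IsPGroup p V) (c : ℕ) (hc : 0 < c)
    (hexp : ∀ t : V, t ^ c = 1) (θ : MulAut V) (hθ : θ ^ p = 1) (n : ℕ)
    (hfix : Nat.card {v : V // θ v = v} ≤ p ^ n) : Nat.card V ≤ p ^ n * c ^ (p * n) := by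
  classical
  let _ : CommGroup V := { (inferInstance : Group V) with mul_comm := hcomm }
  -- the fixed point subgroup
  let F : Subgroup V :=
    { carrier := {v | θ v = v}
      mul_mem' := by
        intro a b ha hb
        change θ (a * b) = a * b
        rw [map_mul, ha, hb]
      one_mem' := map_one θ
      inv_mem' := by
        intro a ha
        change θ a⁻¹ = a⁻¹
        rw [map_inv, ha] }
  have hFcard : Nat.card F = Nat.card {v : V // θ v = v} := rfl
  obtain ⟨k, hk⟩ := IsPGroup.iff_card.mp (hV.to_subgroup F)
  have hkn : k ≤ n := by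
    have h1 : p ^ k ≤ p ^ n := by rw [← hk, hFcard]; exact hfix
    exact (Nat.pow_le_pow_iff_right hp.out.one_lt).1 h1
  have hc1 : 1 ≤ c := hc
  have hpn1 : 1 ≤ p ^ n := Nat.one_le_pow _ _ hp.out.pos
  have hord : orderOf θ ∣ p := orderOf_dvd_of_pow_eq_one hθ
  rcases (Nat.dvd_prime hp.out).1 hord with h1 | h1
  · -- θ = 1 : everything is fixed
    have hθ1 : θ = 1 := orderOf_eq_one_iff.1 h1
    have hall : Nat.card V = Nat.card {v : V // θ v = v} := by
      apply Nat.card_congr
      exact
        { toFun := fun v => ⟨v, by rw [hθ1]; rfl⟩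
          invFun := fun v => v.1
          left_inv := fun _ => rfl
          right_inv := fun _ => rfl }
    rw [hall]
    calc Nat.card {v : V // θ v = v} ≤ p ^ n := hfix
      _ = p ^ n * 1 := (mul_one _).symm
      _ ≤ p ^ n * c ^ (p * n) := Nat.mul_le_mul le_rfl (Nat.one_le_pow _ _ hc)
  · -- order exactly p : S3780
    have hfix' : Nat.card {v : V // θ v = v} = p ^ k := by rw [← hFcard, hk]
    obtain ⟨S, hS, hgen⟩ := Cfsg.Agent.S3780.result (V := V) hV θ h1 k hfix'
    have h2 := card_closure_le_pow c hc hexp S
    rw [hgen, Subgroup.card_top] at h2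
    calc Nat.card V ≤ c ^ S.card := h2
      _ ≤ c ^ (p * n) := Nat.pow_le_pow_right hc (le_trans hS (Nat.mul_le_mul le_rfl hkn))
      _ = 1 * c ^ (p * n) := (one_mul _).symm
      _ ≤ p ^ n * c ^ (p * n) := Nat.mul_le_mul hpn1 le_rfl

end AutBound

section Derived

variable {G : Type*} [Group G]

theorem derivedSeries_add_bot (S : Subgroup G) {a b : ℕ} (h1 : derivedSeries G a ≤ S)
    (h2 : derivedSeries ↥S b = ⊥) : derivedSeries G (a + b) = ⊥ := by
  have key : ∀ n, derivedSeries G (a + n) ≤ (derivedSeries ↥S n).map S.subtype := by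
    intro n
    induction n with
    | zero =>
      rw [derivedSeries_zero, ← MonoidHom.range_eq_map, Subgroup.range_subtype]
      exact h1
    | succ n ih =>
      rw [← add_assoc, derivedSeries_succ, derivedSeries_succ, Subgroup.map_commutator]
      exact Subgroup.commutator_mono ih ih
  have := key b
  rw [h2, Subgroup.map_bot] at this
  exact le_bot_iff.1 this

theorem derivedSeries_le_ker {H : Type*} [Group H] (f : G →* H) (k : ℕ)
    (h : derivedSeries H k = ⊥) : derivedSeries G k ≤ f.ker := by
  intro x hx
  rw [MonoidHom.mem_ker]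
  have h1 : f x ∈ (derivedSeries G k).map f := Subgroup.mem_map_of_mem f hx
  have h2 := map_derivedSeries_le_derivedSeries f k h1
  rw [h] at h2
  exact Subgroup.mem_bot.1 h2

/-- a finite solvable group has derived length at most its order. -/
theorem derivedSeries_card_eq_bot [Finite G] [hG : Group.IsSolvable G] :
    derivedSeries G (Nat.card G) = ⊥ := by
  have key : ∀ k, derivedSeries G k = ⊥ ∨ Nat.card (derivedSeries G k) + k ≤ Nat.card G := by
    intro k
    induction k with
    | zero =>
      right
      rw [derivedSeries_zero, Subgroup.card_top, add_zero]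
    | succ k ih =>
      rcases ih with h | h
      · left
        rw [derivedSeries_succ, h, Subgroup.commutator_bot_left]
      · by_cases hb : derivedSeries G k = ⊥
        · left
          rw [derivedSeries_succ, hb, Subgroup.commutator_bot_left]
        · right
          have hlt : derivedSeries G (k + 1) < derivedSeries G k := by
            rw [derivedSeries_succ]
            exact Group.IsSolvable.commutator_lt_of_ne_bot hb
          have hcard : Nat.card (derivedSeries G (k + 1)) < Nat.card (derivedSeries G k) := by
            have hfin : (derivedSeries G k : Set G).Finite := Set.toFinite _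
            have := Set.ncard_lt_ncard (s := (derivedSeries G (k + 1) : Set G))
              (t := (derivedSeries G k : Set G)) hlt hfin
            rw [← Nat.card_coe_set_eq, ← Nat.card_coe_set_eq] at this
            exact this
          omega
  rcases key (Nat.card G) with h | h
  · exact h
  · exfalso
    have : 0 < Nat.card (derivedSeries G (Nat.card G)) := Nat.card_pos
    omega

end Derived

end Cfsg.Agent.Lib.Helper96.Alp
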