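-- helper96: Lie ring part of Alperin's theorem (S3782).
-- A Lie ring with an automorphism of order dividing `p` whose fixed points are killed by `p ^ a`:
-- all long left-normed products are killed by a bounded power of `p`.
import Mathlib
import Cfsg.Agent.Lib.Helper63.KKExt

set_option autoImplicit false
set_option linter.unusedSectionVars false

namespace Cfsg.Agent.Lib.Helper96.Alp

open Cfsg.Agent.Lib.Helper63.KK
open scoped TensorProduct

section LprodScalar

variable {L : Type*} [LieRing L]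

theorem lprod_nsmul_left (c : ℕ) : ∀ (zs : List L) (u : L), lprod (c • u) zs = c • lprod u zs
  | [], u => rfl
  | z :: zs, u => by
    rw [lprod_cons, lprod_cons, nsmul_lie, lprod_nsmul_left c zs]

theorem lprod_zero_left : ∀ (zs : List L), lprod (0 : L) zs = 0
  | [] => rfl
  | z :: zs => by rw [lprod_cons, zero_lie, lprod_zero_left zs]

theorem lprod_nsmul_all (c : ℕ) : ∀ (zs : List L) (u : L),
    lprod (c • u) (zs.map (fun z => c • z)) = c ^ (zs.length + 1) • lprod u zs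
  | [], u => by simp
  | z :: zs, u => by
    rw [List.map_cons, lprod_cons, lprod_cons, nsmul_lie, lie_nsmul, lprod_nsmul_left,
      lprod_nsmul_all c zs, List.length_cons, ← mul_nsmul', ← pow_succ']

theorem lprod_append (u : L) (l1 l2 : List L) : lprod u (l1 ++ l2) = lprod (lprod u l1) l2 := by
  unfold lprod
  rw [List.foldl_append]

end LprodScalar

section Main

variable {p : ℕ} [hp : Fact p.Prime] {L : Type*} [LieRing L]

/-- the eigen-subgroup of `id ⊗ φ` for the eigenvalue `ω ^ j` -/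
noncomputable def eig (φ : L →ₗ⁅ℤ⁆ L) (j : ZMod p) : AddSubgroup (AA p L) where
  carrier := {y | Phi φ y = omz p j • y}
  zero_mem' := by simp
  add_mem' := by
    intro y z hy hz
    simp only [Set.mem_ofPred_eq] at hy hz ⊢
    rw [map_add, smul_add, hy, hz]
  neg_mem' := by
    intro y hy
    simp only [Set.mem_ofPred_eq] at hy ⊢
    rw [map_neg, smul_neg, hy]

theorem mem_eig (φ : L →ₗ⁅ℤ⁆ L) (j : ZMod p) (y : AA p L) :
    y ∈ eig φ j ↔ Phi φ y = omz p j • y := Iff.rfl

theorem nsmul_mem_eig (φ : L →ₗ⁅ℤ⁆ L) (j : ZMod p) (c : ℕ) {y : AA p L} (hy : y ∈ eig φ j) :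
    c • y ∈ eig φ j := (eig φ j).nsmul_mem hy c

theorem lie_mem_eig (φ : L →ₗ⁅ℤ⁆ L) {i j : ZMod p} {y z : AA p L} (hy : y ∈ eig φ i)
    (hz : z ∈ eig φ j) : ⁅y, z⁆ ∈ eig φ (i + j) := by
  rw [mem_eig] at hy hz ⊢
  rw [LieHom.map_lie, hy, hz, smul_lie_AA, lie_smul_AA, smul_smul, omz_add]

/-- the sum of the `φ`-orbit of `x` is fixed by `φ`. -/
theorem phi_orbit_sum (φ : L →ₗ⁅ℤ⁆ L) (hφp : ∀ x, (⇑φ)^[p] x = x) (x : L) :
    φ (∑ k ∈ Finset.range p, (⇑φ)^[k] x) = ∑ k ∈ Finset.range p, (⇑φ)^[k] x := by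
  rw [map_sum]
  have h1 : ∀ k ∈ Finset.range p, φ ((⇑φ)^[k] x) = (⇑φ)^[k + 1] x := by
    intro k _
    rw [Function.iterate_succ_apply']
  rw [Finset.sum_congr rfl h1]
  have h2 := Finset.sum_range_succ' (fun k => (⇑φ)^[k] x) p
  have h3 := Finset.sum_range_succ (fun k => (⇑φ)^[k] x) p
  rw [h3] at h2
  simp only [Function.iterate_zero, id_eq] at h2
  rw [hφp] at h2
  exact (add_right_cancel h2).symm

/-- `p ^ a` kills every orbit sum in the extension. -/
theorem pow_smul_orbit_sum (φ : L →ₗ⁅ℤ⁆ L) (hφp : ∀ x, (⇑φ)^[p] x = x) (a : ℕ)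
    (ha : ∀ x : L, φ x = x → p ^ a • x = 0) (y : AA p L) :
    p ^ a • ∑ k ∈ Finset.range p, (⇑(Phi φ))^[k] y = 0 := by
  refine TensorProduct.induction_on y ?_ ?_ ?_
  · simp
  · intro r x
    simp only [Phi_iter_tmul]
    rw [← TensorProduct.tmul_sum, ← TensorProduct.tmul_smul,
      ha _ (phi_orbit_sum φ hφp x), TensorProduct.tmul_zero]
  · intro y z hy hz
    simp only [Phi_iter_add]
    rw [Finset.sum_add_distrib, smul_add, hy, hz, add_zero]

/-- fixed points of `id ⊗ φ` are killed by `p ^ (a + 1)`. -/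
theorem fix_kill (φ : L →ₗ⁅ℤ⁆ L) (hφp : ∀ x, (⇑φ)^[p] x = x) (a : ℕ)
    (ha : ∀ x : L, φ x = x → p ^ a • x = 0) (y : AA p L) (hy : Phi φ y = y) :
    p ^ (a + 1) • y = 0 := by
  have hk : ∀ k : ℕ, (⇑(Phi φ))^[k] y = y := by
    intro k
    induction k with
    | zero => rfl
    | succ k ih => rw [Function.iterate_succ_apply', ih, hy]
  have h := pow_smul_orbit_sum φ hφp a ha y
  simp only [hk] at h
  rw [Finset.sum_const, Finset.card_range, ← mul_nsmul'] at h
  rw [pow_succ]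
  exact h

/-- the scaled eigen-family `p ^ (a+1) • eig j`: a graded family with trivial zero component. -/
noncomputable def scaledFam (φ : L →ₗ⁅ℤ⁆ L) (hφp : ∀ x, (⇑φ)^[p] x = x) (a : ℕ)
    (ha : ∀ x : L, φ x = x → p ^ a • x = 0) : GrFam (AA p L) p where
  C j :=
    { carrier := {z | ∃ y ∈ eig φ j, z = p ^ (a + 1) • y}
      zero_mem' := ⟨0, (eig φ j).zero_mem, by simp⟩
      add_mem' := by
        rintro _ _ ⟨y, hy, rfl⟩ ⟨z, hz, rfl⟩
        exact ⟨y + z, (eig φ j).add_mem hy hz, by rw [smul_add]⟩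
      neg_mem' := by
        rintro _ ⟨y, hy, rfl⟩
        exact ⟨-y, (eig φ j).neg_mem hy, by rw [smul_neg]⟩ }
  lie_mem := by
    rintro i j _ _ ⟨y, hy, rfl⟩ ⟨z, hz, rfl⟩
    refine ⟨p ^ (a + 1) • ⁅y, z⁆, nsmul_mem_eig φ _ _ (lie_mem_eig φ hy hz), ?_⟩
    rw [nsmul_lie, lie_nsmul]
  zero := by
    rw [eq_bot_iff]
    rintro _ ⟨y, hy, rfl⟩
    rw [mem_eig, omz_zero, one_smul] at hy
    exact (AddSubgroup.mem_bot).2 (fix_kill φ hφp a ha y hy)

/-- **Main Lie ring statement.** If `φ ^ p = 1` and `p ^ a` kills the fixed points of `φ`, then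
every left-normed product of length at least the Kreknin–Kostrikin bound is killed by a power
of `p` depending only on `a` and the length. -/
theorem lprod_kill (φ : L →ₗ⁅ℤ⁆ L) (hφp : ∀ x, (⇑φ)^[p] x = x) (a : ℕ)
    (ha : ∀ x : L, φ x = x → p ^ a • x = 0) (u : L) (zs : List L)
    (hlen : xi p (2 ^ (p - 1) - 1) ≤ zs.length) :
    (p ^ (a + 2)) ^ (zs.length + 1) • lprod u zs = 0 := by
  set K := scaledFam φ hφp a ha with hK
  have hmem : ∀ x : L, p ^ (a + 2) • (iota x : AA p L) ∈ K.tot 0 := by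
    intro x
    have e : p ^ (a + 2) • (iota x : AA p L) = ∑ j : ZMod p, p ^ (a + 1) • PP φ j (iota x) := by
      rw [← Finset.smul_sum, sum_PP, ← mul_nsmul', ← pow_succ]
    rw [e]
    refine sum_mem (fun j _ => ?_)
    apply K.mem_tot_of_mem (a := j)
    exact ⟨PP φ j (iota x), Phi_PP φ hφp j (iota x), rfl⟩
  have h0 : lprod (p ^ (a + 2) • (iota u : AA p L))
      ((zs.map iota).map (fun z => p ^ (a + 2) • z)) = 0 := by
    apply K.lprod_eq_zero
    · exact hmem u
    · intro z hz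
      obtain ⟨z', hz', rfl⟩ := List.mem_map.1 hz
      obtain ⟨z'', _, rfl⟩ := List.mem_map.1 hz'
      exact hmem z''
    · rw [List.length_map, List.length_map]; exact hlen
  rw [lprod_nsmul_all, List.length_map, ← iota_lprod, ← iota_nsmul] at h0
  apply iota_injective (p := p)
  rw [h0]
  unfold iota; rw [TensorProduct.tmul_zero]

end Main

end Cfsg.Agent.Lib.Helper96.Alp
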