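-- helper96: the `p`-group case of Alperin's theorem (S3782).
-- A finite `p`-group with an automorphism `α`, `α ^ p = 1`, having at most `p ^ n` fixed points
-- has derived length bounded in terms of `p` and `n`.
import Mathlib
import Cfsg.Agent.Lib.Helper96.AlpLie
import Cfsg.Agent.Lib.Helper96.AlpBasic
import Cfsg.Agent.Lib.Helper63.KKGroup
import Cfsg.Agent.S3781

set_option autoImplicit false
set_option linter.unusedSectionVars false

namespace Cfsg.Agent.Lib.Helper96.Alp

open Cfsg.Agent.Lib.Helper29 Cfsg.Agent.Lib.Helper63.KK Cfsg.Agent.Lib.Helper1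

section FacAut

variable {N : Type*} [Group N]

/-- restriction of an automorphism to `γ_i`, as an endomorphism. -/
def gamRestrict (β : MulAut N) (i : ℕ) : ↥(LcsLie.gam N i) →* ↥(LcsLie.gam N i) where
  toFun y := ⟨β (y : N), LcsLie.aut_mem_gam β y.2⟩
  map_one' := Subtype.ext (map_one β)
  map_mul' a b := Subtype.ext (map_mul β (a : N) (b : N))

theorem card_fix_fac_le [Finite N] (β : MulAut N) (i : ℕ) :
    Nat.card {t : LcsLie.Fac N i // LcsLie.facMap β i t = t} ≤ Nat.card {x : N // β x = x} := by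
  have h1 := card_fix_quot_le ((LcsLie.gam N (i + 1)).subgroupOf (LcsLie.gam N i))
    (gamRestrict β i) (LcsLie.facMap β i) (fun x => rfl)
  refine le_trans h1 ?_
  refine Nat.card_le_card_of_injective
    (fun y => (⟨((y.1 : ↥(LcsLie.gam N i)) : N), congrArg Subtype.val y.2⟩ : {x : N // β x = x})) ?_
  intro a b h
  have h' := congrArg Subtype.val h
  exact Subtype.ext (Subtype.ext h')

theorem cl_pow {i : ℕ} {x : N} (hx : x ∈ LcsLie.gam N i) (c : ℕ) :
    (LcsLie.cl i x hx) ^ c = LcsLie.cl i (x ^ c) (pow_mem hx c) := by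
  induction c with
  | zero =>
    rw [pow_zero]
    exact (LcsLie.cl_congr (pow_zero x) _ (one_mem _)).symm
  | succ c ih =>
    rw [pow_succ, ih, ← LcsLie.cl_mul (pow_mem hx c) hx (mul_mem (pow_mem hx c) hx)]
    exact LcsLie.cl_congr (pow_succ x c).symm _ _

/-- the automorphism of the factor `γ_i/γ_{i+1}` induced by an automorphism. -/
def facAut (β : MulAut N) (i : ℕ) : MulAut (LcsLie.Fac N i) where
  toFun := LcsLie.facMap β i
  invFun := LcsLie.facMap β⁻¹ i
  left_inv := by
    intro t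
    obtain ⟨x, hx, rfl⟩ := LcsLie.cl_surj t
    rw [LcsLie.facMap_cl, LcsLie.facMap_cl]
    exact LcsLie.cl_congr (by simp) _ _
  right_inv := by
    intro t
    obtain ⟨x, hx, rfl⟩ := LcsLie.cl_surj t
    rw [LcsLie.facMap_cl, LcsLie.facMap_cl]
    exact LcsLie.cl_congr (by simp) _ _
  map_mul' := map_mul (LcsLie.facMap β i)

theorem facAut_apply (β : MulAut N) (i : ℕ) (t : LcsLie.Fac N i) :
    facAut β i t = LcsLie.facMap β i t := rfl

theorem facAut_pow_cl (β : MulAut N) (i : ℕ) (k : ℕ) (x : N) (hx : x ∈ LcsLie.gam N i) :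
    ((facAut β i) ^ k) (LcsLie.cl i x hx) = LcsLie.cl i ((β ^ k) x) (LcsLie.aut_mem_gam (β ^ k) hx) := by
  induction k generalizing x with
  | zero => exact LcsLie.cl_congr (by simp) _ _
  | succ k ih =>
    rw [pow_succ, MulAut.mul_apply, facAut_apply, LcsLie.facMap_cl, ih]
    exact LcsLie.cl_congr (by rw [pow_succ, MulAut.mul_apply]) _ _

theorem facAut_pow_eq_one (β : MulAut N) (i : ℕ) (k : ℕ) (hk : β ^ k = 1) :
    (facAut β i) ^ k = 1 := by
  ext t
  obtain ⟨x, hx, rfl⟩ := LcsLie.cl_surj t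
  rw [facAut_pow_cl]
  exact LcsLie.cl_congr (by rw [hk]; rfl) _ _

end FacAut

section PGroupLie

variable {N : Type*} [Group N] [Finite N] {p : ℕ} [hp : Fact p.Prime]

theorem isPGroup_fac (hN : IsPGroup p N) (i : ℕ) : IsPGroup p (LcsLie.Fac N i) :=
  (hN.to_subgroup (LcsLie.gam N i)).to_quotient _

/-- fixed points on the factors are killed by `p ^ n`. -/
theorem fac_fix_pow (hN : IsPGroup p N) (β : MulAut N) (n : ℕ)
    (hfix : Nat.card {x : N // β x = x} ≤ p ^ n) (i : ℕ) (t : LcsLie.Fac N i)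
    (ht : LcsLie.facMap β i t = t) : t ^ (p ^ n) = 1 := by
  let F : Subgroup (LcsLie.Fac N i) := MonoidHom.eqLocus (LcsLie.facMap β i) (MonoidHom.id _)
  have hFcard : Nat.card F ≤ p ^ n := by
    refine le_trans ?_ (le_trans (card_fix_fac_le β i) hfix)
    exact le_of_eq (Nat.card_congr (Equiv.refl _))
  obtain ⟨k, hk⟩ := IsPGroup.iff_card.mp ((isPGroup_fac hN i).to_subgroup F)
  have hkn : k ≤ n := by
    have h1 : p ^ k ≤ p ^ n := by rw [← hk]; exact hFcard
    exact (Nat.pow_le_pow_iff_right hp.out.one_lt).1 h1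
  have htF : t ∈ F := ht
  have h1 : (⟨t, htF⟩ : F) ^ (p ^ k) = 1 := by
    rw [← hk]; exact pow_card_eq_one'
  have h2 : t ^ (p ^ k) = 1 := congrArg Subtype.val h1
  obtain ⟨d, rfl⟩ := Nat.exists_eq_add_of_le hkn
  rw [pow_add, pow_mul, h2, one_pow]

theorem ds_fix_kill (hN : IsPGroup p N) (β : MulAut N) (n : ℕ)
    (hfix : Nat.card {x : N // β x = x} ≤ p ^ n) (a : LcsLie.DS N)
    (ha : LcsLie.mapD β a = a) : p ^ n • a = 0 := by
  refine DFinsupp.ext fun i => ?_
  have hi : (LcsLie.mapD β a) i = a i := by rw [ha]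
  unfold LcsLie.mapD at hi
  rw [DirectSum.map_apply] at hi
  have h1 := fac_fix_pow hN β n hfix i (Additive.toMul (a i)) hi
  have h2 : p ^ n • (a i) = 0 := by
    have : Additive.toMul (p ^ n • (a i)) = 1 := by rw [toMul_nsmul]; exact h1
    exact this
  rw [DFinsupp.smul_apply]
  exact h2

/-- fixed points of the induced Lie ring endomorphism are killed by `p ^ n`. -/
theorem lie_fix_kill (hN : IsPGroup p N) (β : MulAut N) (n : ℕ)
    (hfix : Nat.card {x : N // β x = x} ≤ p ^ n) (a : LcsLie.LcsLie N)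
    (ha : lieMap β a = a) : p ^ n • a = 0 :=
  ds_fix_kill hN β n hfix a ha

/-- Key consequence of the Lie ring theorem: in high degree the lower central factors have bounded
exponent. -/
theorem gam_pow_mem (hN : IsPGroup p N) (β : MulAut N) (hβ : β ^ p = 1) (n : ℕ)
    (hfix : Nat.card {x : N // β x = x} ≤ p ^ n) (i : ℕ) (hi : xi p (2 ^ (p - 1) - 1) ≤ i)
    (x : N) (hx : x ∈ LcsLie.gam N i) :
    x ^ ((p ^ (n + 2)) ^ (i + 1)) ∈ LcsLie.gam N (i + 1) := by
  set c := (p ^ (n + 2)) ^ (i + 1) with hc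
  let T : ℕ → AddSubgroup (LcsLie.LcsLie N) := fun j =>
    AddSubgroup.closure {a | ∃ (u : LcsLie.LcsLie N) (zs : List (LcsLie.LcsLie N)),
      zs.length = j ∧ a = lprod u zs}
  have hT : ∀ j, (LcsLie.homog j : AddSubgroup (LcsLie.LcsLie N)) ≤ T j := by
    refine LcsLie.homog_le_of_step T ?_ ?_
    · intro g
      apply AddSubgroup.subset_closure
      exact ⟨_, [], rfl, rfl⟩
    · intro j a ha g
      refine AddSubgroup.closure_induction
        (p := fun a _ => ⁅a, LcsLie.iota 0 g (Subgroup.mem_top g)⁆ ∈ T (j + 1)) ?_ ?_ ?_ ?_ ha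
      · rintro _ ⟨u, zs, hlen, rfl⟩
        apply AddSubgroup.subset_closure
        refine ⟨u, zs ++ [LcsLie.iota 0 g (Subgroup.mem_top g)], by simp [hlen], ?_⟩
        simp [lprod, List.foldl_append]
      · rw [zero_lie]; exact (T (j + 1)).zero_mem
      · intro x y _ _ hx hy
        rw [add_lie]; exact (T (j + 1)).add_mem hx hy
      · intro x _ hx
        rw [neg_lie]; exact (T (j + 1)).neg_mem hx
  have hkill : ∀ a ∈ T i, c • a = 0 := by
    intro a ha
    refine AddSubgroup.closure_induction (p := fun a _ => c • a = 0) ?_ ?_ ?_ ?_ ha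
    · rintro _ ⟨u, zs, hlen, rfl⟩
      have h := lprod_kill (p := p) (lieMap β)
        (fun x => by rw [lieMap_iterate]; exact LcsLie.map_iterate_of_pow_eq_one β hβ x) n
        (fun a ha => lie_fix_kill hN β n hfix a ha) u zs (by rw [hlen]; exact hi)
      rw [hlen] at h
      exact h
    · exact smul_zero _
    · intro x y _ _ hx hy
      rw [smul_add, hx, hy, add_zero]
    · intro x _ hx
      rw [smul_neg, hx, neg_zero]
  have h1 := hkill _ (hT i (LcsLie.iota_mem_homog hx))
  rw [← LcsLie.iota_pow hx, LcsLie.iota_eq_zero_iff] at h1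
  exact h1

/-- the lower central factors of high degree have bounded order. -/
theorem card_fac_le (hN : IsPGroup p N) (β : MulAut N) (hβ : β ^ p = 1) (n : ℕ)
    (hfix : Nat.card {x : N // β x = x} ≤ p ^ n) (i : ℕ) (hi : xi p (2 ^ (p - 1) - 1) ≤ i) :
    Nat.card (LcsLie.Fac N i) ≤ p ^ n * ((p ^ (n + 2)) ^ (i + 1)) ^ (p * n) := by
  refine card_le_of_aut (fun a b => mul_comm a b) (isPGroup_fac hN i) _
    (pow_pos (pow_pos hp.out.pos _) _) ?_ (facAut β i) (facAut_pow_eq_one β i p hβ) n ?_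
  · intro t
    obtain ⟨x, hx, rfl⟩ := LcsLie.cl_surj t
    rw [cl_pow, LcsLie.cl_eq_one_iff]
    exact gam_pow_mem hN β hβ n hfix i hi x hx
  · exact le_trans (card_fix_fac_le β i) hfix

end PGroupLie

section Main

variable {P : Type*} [Group P] [Finite P] {p : ℕ} [hp : Fact p.Prime]

/-- the constant `h(p)` of Higman–Kreknin–Kostrikin. -/
def hkk (p : ℕ) : ℕ := xi p (2 ^ (p - 1) - 1)

/-- a bound for the order of the `(h+1)`-st lower central factor. -/
def bigB (p n : ℕ) : ℕ := p ^ n * ((p ^ (n + 2)) ^ (hkk p + 2)) ^ (p * n)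

theorem one_le_bigB (n : ℕ) : 1 ≤ bigB p n := by
  unfold bigB
  exact Nat.mul_pos (pow_pos hp.out.pos _) (pow_pos (pow_pos (pow_pos hp.out.pos _) _) _)

/-- the derived length bound in the `p`-group case. -/
def pBound (p n : ℕ) : ℕ := (bigB p n - 1) + (hkk p + 2)

/-- **Alperin's theorem for `p`-groups.** -/
theorem pgroup_derived (hP : IsPGroup p P) (α : MulAut P) (hα : α ^ p = 1) (n : ℕ)
    (hfix : Nat.card {x : P // α x = x} ≤ p ^ n) : derivedSeries P (pBound p n) = ⊥ := by
  set m := bigB p n with hm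
  have hm1 : 1 ≤ m := one_le_bigB n
  set Nn : Subgroup P := (⊤ : Subgroup P).lowerCentralSeries (m - 1) with hNn
  have hchar : Nn.Characteristic := inferInstance
  have hinv : AutInv α Nn := (Subgroup.characteristic_iff_map_eq.1 hchar) α
  set β : MulAut Nn := restrictAut α Nn hinv with hβdef
  have hβ : β ^ p = 1 := restrictAut_pow_eq_one α Nn hinv p hα
  have hfixβ : Nat.card {x : Nn // β x = x} ≤ p ^ n := by
    refine le_trans ?_ hfix
    refine Nat.card_le_card_of_injective
      (fun y => (⟨((y.1 : Nn) : P), congrArg Subtype.val y.2⟩ : {x : P // α x = x})) ?_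
    intro a b h
    have h' := congrArg Subtype.val h
    exact Subtype.ext (Subtype.ext h')
  have hNp : IsPGroup p Nn := hP.to_subgroup Nn
  have hcard := card_fac_le hNp β hβ n hfixβ (hkk p + 1) (Nat.le_succ _)
  -- Hall's lemma
  have hbot : Nn.lowerCentralSeries (hkk p + 2) = ⊥ := by
    by_contra hne
    have hH := Cfsg.Agent.S3781.result hP m hm1 Nn le_rfl (hkk p + 2) (by omega) hne
    have e1 : hkk p + 2 - 1 = hkk p + 1 := by omega
    rw [e1, ← Subgroup.top_subtype_lowerCentralSeries Nn (hkk p + 2),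
      ← Subgroup.top_subtype_lowerCentralSeries Nn (hkk p + 1),
      Subgroup.relIndex_map_map_of_injective _ _ Nn.subtype_injective] at hH
    have e2 : ((⊤ : Subgroup Nn).lowerCentralSeries (hkk p + 2)).relIndex
        ((⊤ : Subgroup Nn).lowerCentralSeries (hkk p + 1)) = Nat.card (LcsLie.Fac Nn (hkk p + 1)) := by
      unfold Subgroup.relIndex
      rw [Subgroup.index_eq_card]
    rw [e2] at hH
    have h3 : m < p ^ m := Nat.lt_pow_self hp.out.one_lt
    have h4 : Nat.card (LcsLie.Fac Nn (hkk p + 1)) ≤ m := hcard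
    omega
  have h1 : derivedSeries P (m - 1) ≤ Nn := Subgroup.derived_le_lower_central (m - 1)
  have h2 : derivedSeries Nn (hkk p + 2) = ⊥ := by
    rw [eq_bot_iff]
    refine le_trans (Subgroup.derived_le_lower_central (hkk p + 2)) ?_
    have h5 := Subgroup.top_subtype_lowerCentralSeries Nn (hkk p + 2)
    rw [hbot] at h5
    rw [(Subgroup.map_eq_bot_iff_of_injective _ Nn.subtype_injective).1 h5]
  exact derivedSeries_add_bot Nn h1 h2

end Main

end Cfsg.Agent.Lib.Helper96.Alp
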