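-- helper96: Alperin's theorem (S3782), reduction of the solvable case to the `p`-group case.
import Mathlib
import Cfsg.Agent.Lib.Helper96.AlpPGroup
import Cfsg.Agent.Lib.Helper55.Cores2
import Cfsg.Agent.Lib.Helper70.FrattiniFaithful

set_option autoImplicit false
set_option linter.unusedSectionVars false

namespace Cfsg.Agent.Lib.Helper96.Alp

open Cfsg Cfsg.Agent.Lib.Helper1 Cfsg.Agent.Lib.Helper55 Cfsg.Agent.Lib.Helper70
open Cfsg.Agent.Lib.Helper63.KK

section FrattQuot

/-- the Frattini subgroup is invariant under every automorphism. -/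
theorem autInv_frattini {R : Type*} [Group R] (β : MulAut R) : AutInv β (frattini R) :=
  (Subgroup.characteristic_iff_map_eq.1 frattini_characteristic) β

/-- the action of `Aut R` on the Frattini quotient. -/
noncomputable def frattQuotHom (R : Type*) [Group R] : MulAut R →* MulAut (R ⧸ frattini R) where
  toFun β := quotAut β (frattini R) (autInv_frattini β)
  map_one' := by
    ext t
    induction t using QuotientGroup.induction_on with
    | H x => rw [quotAut_mk]; rfl
  map_mul' β γ := by
    ext t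
    induction t using QuotientGroup.induction_on with
    | H x => rw [MulAut.mul_apply, quotAut_mk, quotAut_mk, quotAut_mk]; rfl

theorem frattQuotHom_mk {R : Type*} [Group R] (β : MulAut R) (x : R) :
    frattQuotHom R β (x : R ⧸ frattini R) = ((β x : R) : R ⧸ frattini R) :=
  quotAut_mk β (frattini R) (autInv_frattini β) x

variable {p : ℕ} [hp : Fact p.Prime]

/-- the Frattini quotient of a `p`-group with an automorphism of order dividing `p` having at most
`p ^ n` fixed points has bounded order. -/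
theorem card_frattQuot_le {R : Type*} [Group R] [Finite R] (hR : IsPGroup p R) (β : MulAut R)
    (hβ : β ^ p = 1) (n : ℕ) (hfix : Nat.card {x : R // β x = x} ≤ p ^ n) :
    Nat.card (R ⧸ frattini R) ≤ p ^ n * p ^ (p * n) := by
  obtain ⟨hcomm, hpow⟩ := Cfsg.Agent.S0012.result p hR
  refine card_le_of_aut ?_ (hR.to_quotient _) p hp.out.pos ?_ (frattQuotHom R β)
    (by rw [← map_pow, hβ, map_one]) n ?_
  · intro a b
    obtain ⟨a, rfl⟩ := QuotientGroup.mk_surjective a
    obtain ⟨b, rfl⟩ := QuotientGroup.mk_surjective b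
    rw [← QuotientGroup.mk_mul, ← QuotientGroup.mk_mul, QuotientGroup.eq]
    apply hcomm
    rw [commutator_eq_closure]
    apply Subgroup.subset_closure
    refine ⟨b⁻¹, a⁻¹, ?_⟩
    simp [commutatorElement_def, mul_assoc]
  · intro t
    obtain ⟨v, rfl⟩ := QuotientGroup.mk_surjective t
    rw [← QuotientGroup.mk_pow]
    exact (QuotientGroup.eq_one_iff (N := frattini R) (v ^ p)).2 (hpow v)
  · refine le_trans (card_fix_quot_le (frattini R) β.toMonoidHom (frattQuotHom R β)
      (fun x => frattQuotHom_mk β x)) ?_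
    exact hfix

end FrattQuot

section FrattAction

variable {Γ : Type*} [Group Γ] [Finite Γ] {p : ℕ} [hp : Fact p.Prime]

/-- the conjugation action of `Γ` on the Frattini quotient of a normal subgroup. -/
noncomputable def conjFratt (R : Subgroup Γ) [R.Normal] : Γ →* MulAut (↥R ⧸ frattini ↥R) :=
  (frattQuotHom ↥R).comp (MulAut.conjNormal (H := R))

theorem ker_conjFratt_le (R : Subgroup Γ) [hRn : R.Normal] :
    (conjFratt R).ker ≤ trivOnFrattiniQuot R := by
  intro g hg
  rw [MonoidHom.mem_ker] at hg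
  intro r hr
  have h1 : (conjFratt R g) ((⟨r, hr⟩ : R) : ↥R ⧸ frattini ↥R) = ((⟨r, hr⟩ : R) : ↥R ⧸ frattini ↥R) := by
    rw [hg]; rfl
  unfold conjFratt at h1
  rw [MonoidHom.comp_apply, frattQuotHom_mk, eq_comm, QuotientGroup.eq] at h1
  -- h1 : r⁻¹ * (g r g⁻¹) ∈ frattini R
  have hmem : g * r * g⁻¹ * r⁻¹ ∈ R := R.mul_mem (hRn.conj_mem r hr g) (R.inv_mem hr)
  rw [mem_frattiniIn hmem]
  have hn : (frattini ↥R).Normal := inferInstance
  have h2 := hn.conj_mem _ h1 (⟨r, hr⟩ : R)
  have e : (⟨g * r * g⁻¹ * r⁻¹, hmem⟩ : R) =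
      (⟨r, hr⟩ : R) * ((⟨r, hr⟩ : R)⁻¹ * (MulAut.conjNormal g : MulAut R) ⟨r, hr⟩) * (⟨r, hr⟩ : R)⁻¹ := by
    apply Subtype.ext
    simp [MulAut.conjNormal_apply, mul_assoc]
  rw [e]
  exact h2

/-- If `R` is a normal `p`-subgroup containing its centralizer and every normal `p`-subgroup, and
the Frattini quotient of `R` has order at most `W`, then `Γ^{(W^W)} ≤ R` for solvable `Γ`. -/
theorem derived_le_of_frattini [hsolv : Group.IsSolvable Γ] (R : Subgroup Γ) [R.Normal]
    (hR : IsPGroup p R) (hcent : Subgroup.centralizer (R : Set Γ) ≤ R)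
    (hmax : ∀ N : Subgroup Γ, N.Normal → IsPGroup p N → N ≤ R) (W : ℕ) (hW1 : 1 ≤ W)
    (hW : Nat.card (↥R ⧸ frattini ↥R) ≤ W) : derivedSeries Γ (W ^ W) ≤ R := by
  set c := conjFratt R with hc
  have hcard : Nat.card c.range ≤ W ^ W := by
    have h1 : Nat.card c.range ≤ Nat.card (MulAut (↥R ⧸ frattini ↥R)) :=
      Subgroup.card_le_card_group _
    have h2 : Nat.card (MulAut (↥R ⧸ frattini ↥R)) ≤
        Nat.card ((↥R ⧸ frattini ↥R) → (↥R ⧸ frattini ↥R)) :=
      Nat.card_le_card_of_injective (fun e => (e : (↥R ⧸ frattini ↥R) → (↥R ⧸ frattini ↥R)))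
        DFunLike.coe_injective
    rw [Nat.card_fun] at h2
    refine le_trans h1 (le_trans h2 ?_)
    have hV1 : 1 ≤ Nat.card (↥R ⧸ frattini ↥R) := Nat.card_pos
    exact le_trans (Nat.pow_le_pow_left hW _) (Nat.pow_le_pow_right hW1 hW)
  have : Group.IsSolvable c.range := Group.isSolvable_of_surjective c.rangeRestrict_surjective
  have h3 : derivedSeries c.range (W ^ W) = ⊥ := by
    rw [eq_bot_iff, ← derivedSeries_card_eq_bot (G := c.range)]
    exact derivedSeries_antitone _ hcard
  have h4 := derivedSeries_le_ker c.rangeRestrict (W ^ W) h3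
  rw [MonoidHom.ker_rangeRestrict] at h4
  exact le_trans h4 (le_trans (ker_conjFratt_le R) (trivOnFrattiniQuot_le R hR hcent hmax))

end FrattAction

section Main

variable {G : Type*} [Group G] [Finite G] {p : ℕ} [hp : Fact p.Prime]

/-- the bound for the order of the Frattini quotient. -/
def wBound (p n : ℕ) : ℕ := p ^ n * p ^ (p * n)

/-- the derived length bound of Alperin's theorem. -/
def sBound (p n : ℕ) : ℕ := (wBound p n ^ wBound p n + pBound p n) + hkk p

theorem restrict_fix_le {X : Type*} [Group X] [Finite X] (φ : MulAut X) (H : Subgroup X)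
    (h : AutInv φ H) :
    Nat.card {x : H // restrictAut φ H h x = x} ≤ Nat.card {x : X // φ x = x} := by
  refine Nat.card_le_card_of_injective
    (fun y => (⟨((y.1 : H) : X), congrArg Subtype.val y.2⟩ : {x : X // φ x = x})) ?_
  intro a b hab
  have h' := congrArg Subtype.val hab
  exact Subtype.ext (Subtype.ext h')

/-- **Alperin's theorem**: a finite solvable group with an automorphism of prime order `p` having
exactly `p ^ n` fixed points has derived length at most `sBound p n`. -/
theorem solvable_derived [hsolv : Group.IsSolvable G] (α : MulAut G) (hα : orderOf α = p) (n : ℕ)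
    (hfix : Nat.card {g : G // α g = g} = p ^ n) : derivedSeries G (sBound p n) = ⊥ := by
  have hαp : α ^ p = 1 := by rw [← hα]; exact pow_orderOf_eq_one α
  -- the `p'`-core
  set N0 : Subgroup G := pPrimeCore p G with hN0
  have hN0n : N0.Normal := pPrimeCore_normal' p
  have hinv0 : AutInv α N0 :=
    (Subgroup.characteristic_iff_map_eq.1 (Helper55.pPrimeCore_characteristic p)) α
  set β0 : MulAut N0 := restrictAut α N0 hinv0 with hβ0
  have hβ0p : β0 ^ p = 1 := restrictAut_pow_eq_one α N0 hinv0 p hαp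
  -- fixed point subgroup of α
  let FixG : Subgroup G := MonoidHom.eqLocus α.toMonoidHom (MonoidHom.id G)
  have hFixcard : Nat.card FixG = p ^ n := by
    rw [← hfix]; exact Nat.card_congr (Equiv.refl _)
  have hfpf : ∀ x : N0, β0 x = x → x = 1 := by
    intro x hx
    have hxF : (x : G) ∈ FixG := congrArg Subtype.val hx
    have h1 : orderOf (x : G) ∣ p ^ n := by
      rw [← hFixcard]
      have := orderOf_dvd_natCard (⟨(x : G), hxF⟩ : FixG)
      rwa [Subgroup.orderOf_mk] at this
    have h2 : orderOf (x : G) ∣ Nat.card N0 := by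
      have := orderOf_dvd_natCard x
      rwa [← Subgroup.orderOf_coe] at this
    have hcop : (Nat.card N0).Coprime (p ^ n) := (card_pPrimeCore_coprime p).pow_right n
    have h3 : orderOf (x : G) ∣ 1 := by
      have := Nat.dvd_gcd h2 h1
      rwa [hcop] at this
    have h4 : (x : G) = 1 := orderOf_eq_one_iff.1 (Nat.dvd_one.1 h3)
    exact Subtype.ext h4
  have hN0der : derivedSeries N0 (hkk p) = ⊥ := by
    have hord : orderOf β0 ∣ p := orderOf_dvd_of_pow_eq_one hβ0p
    rcases (Nat.dvd_prime hp.out).1 hord with h1 | h1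
    · have hβ1 : β0 = 1 := orderOf_eq_one_iff.1 h1
      have hsub : Subsingleton N0 := by
        refine ⟨fun a b => ?_⟩
        have ha : a = 1 := hfpf a (by rw [hβ1]; rfl)
        have hb : b = 1 := hfpf b (by rw [hβ1]; rfl)
        rw [ha, hb]
      exact Subsingleton.elim _ _
    · rw [eq_bot_iff]
      refine le_trans (Subgroup.derived_le_lower_central (hkk p)) ?_
      rw [hkk, gam_xi_eq_bot hp.out β0 h1 hfpf]
  -- the quotient
  set αb : MulAut (G ⧸ N0) := quotAut α N0 hinv0 with hαb
  have hαbp : αb ^ p = 1 := quotAut_pow_eq_one α N0 hinv0 p hαp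
  have hfixb : Nat.card {t : G ⧸ N0 // αb t = t} ≤ p ^ n := by
    rw [← hfix]
    exact card_fix_quot_le N0 α.toMonoidHom αb (fun x => quotAut_mk α N0 hinv0 x)
  have hcore : pPrimeCore p (G ⧸ N0) = ⊥ := pPrimeCore_quotient_pPrimeCore p
  set R : Subgroup (G ⧸ N0) := pCore p (G ⧸ N0) with hRdef
  have hRn : R.Normal := pCore_normal' p
  have hRp : IsPGroup p R := isPGroup_pCore p
  have hinvR : AutInv αb R := (Subgroup.characteristic_iff_map_eq.1 (Helper55.pCore_characteristic p)) αb
  have hcent : Subgroup.centralizer (R : Set (G ⧸ N0)) ≤ R := centralizer_pCore_le p hcore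
  have hmax : ∀ N : Subgroup (G ⧸ N0), N.Normal → IsPGroup p N → N ≤ R :=
    fun N hN hNp => Helper55.le_pCore hN hNp
  set βR : MulAut R := restrictAut αb R hinvR with hβR
  have hβRp : βR ^ p = 1 := restrictAut_pow_eq_one αb R hinvR p hαbp
  have hfixR : Nat.card {x : R // βR x = x} ≤ p ^ n := by
    exact le_trans (restrict_fix_le αb R hinvR) hfixb
  have hRder : derivedSeries R (pBound p n) = ⊥ := pgroup_derived hRp βR hβRp n hfixR
  have hW : Nat.card (↥R ⧸ frattini ↥R) ≤ wBound p n := card_frattQuot_le hRp βR hβRp n hfixR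
  have hW1 : 1 ≤ wBound p n :=
    Nat.mul_pos (pow_pos hp.out.pos _) (pow_pos hp.out.pos _)
  have h1 : derivedSeries (G ⧸ N0) (wBound p n ^ wBound p n) ≤ R :=
    derived_le_of_frattini R hRp hcent hmax (wBound p n) hW1 hW
  have h2 : derivedSeries (G ⧸ N0) (wBound p n ^ wBound p n + pBound p n) = ⊥ :=
    derivedSeries_add_bot R h1 hRder
  have h3 : derivedSeries G (wBound p n ^ wBound p n + pBound p n) ≤ N0 := by
    have := derivedSeries_le_ker (QuotientGroup.mk' N0) _ h2
    rwa [QuotientGroup.ker_mk'] at this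
  exact derivedSeries_add_bot N0 h3 hN0der

end Main

end Cfsg.Agent.Lib.Helper96.Alp
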