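/-
helper96: towards Bender–Glauberman 13.10(b) / 13.11 (`H1310b`, `H1311`).  Part A: general tools and
**L1** (= BG 13.11(a),(b)): for `X ≤ E₃` of prime order not acting regularly on `M_σ` and a maximal
subgroup `H ≥ N_G(X)`: `E ≤ H`, `H` is not conjugate to `M`, `M_σ ∩ H = C_{M_σ}(X) = C_{M_σ}(E₃)`, and
no prime of `τ₂(M)` divides `|E|`.
-/
import Mathlib
import Cfsg.Prelude.Def_OddOrderLocal
import Cfsg.Agent.Lib.Helper96.BGFourteenTwoA
import Cfsg.Agent.Lib.Helper96.BGFourteenTwoB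
import Cfsg.Agent.Lib.Helper96.BGFourteenTwoC
import Cfsg.Agent.Lib.Helper96.BGFourteenTwoD
import Cfsg.Agent.Lib.Helper50.BGStepA
import Cfsg.Agent.S1378
import Cfsg.Agent.S1404
import Cfsg.Agent.S1409
import Cfsg.Agent.S1427
import Cfsg.Agent.S1428

set_option autoImplicit false

namespace Cfsg.Agent.Lib.Helper96.BG1310

open scoped Pointwise
open Cfsg Cfsg.Agent.Lib.Helper54 Cfsg.Agent.Lib.Helper97.BGTwelve
open Cfsg.Agent.Lib.Helper34 (UniquenessThm)
open Cfsg.Agent.Lib.Helper96.BG142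

variable {G : Type*} [Group G]

theorem conj_smul_eq_map' (g : G) (H : Subgroup G) :
    MulAut.conj g • H = H.map (MulAut.conj g).toMonoidHom := rfl

theorem mem_normalizer_inf {A B : Subgroup G} {x : G}
    (hA : x ∈ Subgroup.normalizer (A : Set G)) (hB : x ∈ Subgroup.normalizer (B : Set G)) :
    x ∈ Subgroup.normalizer ((A ⊓ B : Subgroup G) : Set G) := by
  rw [Subgroup.mem_normalizer_iff] at *
  intro h
  rw [Subgroup.mem_inf, Subgroup.mem_inf, hA h, hB h]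

variable [Finite G]

theorem hU_of (hG : IsMinSimpleOddOrder G) : UniquenessThm G :=
  fun K hK h1 h2 => Cfsg.Agent.S1403.result hG K hK h1 h2

/-- **BG Theorem 13.9**, from the landed `S1378`. -/
theorem sigmaDisjoint (hG : IsMinSimpleOddOrder G) : SigmaDisjoint G := by
  intro M L hM hL hnc p hpM hpL
  obtain ⟨g, hg⟩ := (Cfsg.Agent.S1378.result hG).2 M L hM hL ⟨p, hpM, hpL⟩
  apply hnc g⁻¹
  rw [hg, Subgroup.map_map]
  have : (MulAut.conj g⁻¹).toMonoidHom.comp (MulAut.conj g).toMonoidHom = MonoidHom.id G := by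
    ext x
    simp [MulAut.conj_apply, mul_assoc]
  rw [this, Subgroup.map_id]

/-- the primes of `σ(M)` are not in `σ(H)` for `H` not conjugate to `M` -/
theorem not_mem_sigma_of_mem_sigma (hG : IsMinSimpleOddOrder G) {M H : Subgroup G}
    (hM : IsCoatom M) (hH : IsCoatom H) (hnc : ∀ g : G, MulAut.conj g • H ≠ M) {t : ℕ}
    (ht : t ∈ sigma M) : t ∉ sigma H :=
  sigmaDisjoint hG M H hM hH (fun g => by rw [← conj_smul_eq_map']; exact hnc g) t ht

/-- the primes of `σ(M)` are not in `β(H)` for `H` not conjugate to `M` -/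
theorem not_mem_beta_of_mem_sigma (hG : IsMinSimpleOddOrder G) {M H : Subgroup G}
    (hM : IsCoatom M) (hH : IsCoatom H) (hnc : ∀ g : G, MulAut.conj g • H ≠ M) {t : ℕ}
    (ht : t ∈ sigma M) : t ∉ beta H := by
  intro hβ
  have hσ : t ∈ sigma H := Cfsg.Agent.Lib.Helper50.alpha_subset_sigma hG
    (uniqThree_of_uniquenessThm (hU_of hG)) H hH hβ.1
  exact not_mem_sigma_of_mem_sigma hG hM hH hnc ht hσ

omit [Finite G] in
theorem nc_symm {M H : Subgroup G} (hnc : ∀ g : G, MulAut.conj g • H ≠ M) :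
    ∀ g : G, MulAut.conj g • M ≠ H := by
  intro g hg
  apply hnc g⁻¹
  rw [← hg, ← mul_smul, ← map_mul, inv_mul_cancel, map_one, one_smul]

omit [Finite G] in
theorem ne_of_nc {M H : Subgroup G} (hnc : ∀ g : G, MulAut.conj g • H ≠ M) : H ≠ M := by
  intro h
  apply hnc 1
  rw [map_one, one_smul]
  exact h

/-- **KL**: `L` maximal, `D ≤ L` with no prime divisor in `β(L)`, `x ∈ L'` of order prime to `|D|`
normalizing `D`: then `x` centralizes `D` (`L'` has a normal `t`-complement for every `t ∉ β(L)`). -/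
theorem commute_of_mem_commutator (hG : IsMinSimpleOddOrder G) (L : Subgroup G) (hL : IsCoatom L)
    (D : Subgroup G) (hDL : D ≤ L) (hDβ : ∀ t : ℕ, t.Prime → t ∣ Nat.card D → t ∉ beta L) {x : G}
    (hx : x ∈ ⁅L, L⁆) (hxo : (orderOf x).Coprime (Nat.card D))
    (hxD : x ∈ Subgroup.normalizer (D : Set G)) : ∀ d ∈ D, x * d = d * x := by
  intro d hd
  by_contra hne
  have hxL : x ∈ L := Subgroup.commutator_le_self L hx
  have hdL : d ∈ L := hDL hd
  have hcD : x * d * x⁻¹ * d⁻¹ ∈ D :=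
    D.mul_mem ((Subgroup.mem_normalizer_iff.mp hxD d).mp hd) (D.inv_mem hd)
  have hc1 : x * d * x⁻¹ * d⁻¹ ≠ 1 := by
    intro h
    apply hne
    calc x * d = (x * d * x⁻¹ * d⁻¹) * (d * x) := by group
      _ = d * x := by rw [h, one_mul]
  obtain ⟨t, ht, htc⟩ := Nat.exists_prime_and_dvd (n := orderOf (x * d * x⁻¹ * d⁻¹))
    (by rw [Ne, orderOf_eq_one_iff]; exact hc1)
  have : Fact t.Prime := ⟨ht⟩
  have hcD' : orderOf (x * d * x⁻¹ * d⁻¹) ∣ Nat.card D := by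
    have := orderOf_dvd_natCard (⟨_, hcD⟩ : ↥D)
    rwa [Subgroup.orderOf_mk] at this
  have htD : t ∣ Nat.card D := htc.trans hcD'
  have htL : t ∣ Nat.card L := htD.trans (Subgroup.card_dvd_of_le hDL)
  obtain ⟨N, hNn, hNt, hN⟩ :=
    Cfsg.Agent.Lib.Helper97.BGThirteenSix.exists_normal_qprime hG L hL t htL (hDβ t ht htD)
  have hx'c : (⟨x, hxL⟩ : ↥L) ∈ commutator ↥L :=
    Cfsg.Agent.Lib.Helper97.BGThirteenSix.mem_commutator_of_val_mem ⟨x, hxL⟩ hx
  have hx'o : (orderOf (⟨x, hxL⟩ : ↥L)).Coprime t := by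
    rw [Subgroup.orderOf_mk]
    exact Nat.Coprime.coprime_dvd_right htD hxo
  have hx'N := hN _ hx'c hx'o
  have hc'N : (⟨x, hxL⟩ : ↥L) * ((⟨d, hdL⟩ : ↥L) * (⟨x, hxL⟩ : ↥L)⁻¹ * (⟨d, hdL⟩ : ↥L)⁻¹) ∈ N :=
    N.mul_mem hx'N (hNn.conj_mem _ (N.inv_mem hx'N) _)
  have hc'o : orderOf ((⟨x, hxL⟩ : ↥L) * ((⟨d, hdL⟩ : ↥L) * (⟨x, hxL⟩ : ↥L)⁻¹ *
      (⟨d, hdL⟩ : ↥L)⁻¹)) = orderOf (x * d * x⁻¹ * d⁻¹) := by
    rw [← Subgroup.orderOf_coe]
    congr 1
    simp [mul_assoc]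
  have h1 : orderOf (x * d * x⁻¹ * d⁻¹) ∣ Nat.card N := by
    rw [← hc'o]
    have := orderOf_dvd_natCard (⟨_, hc'N⟩ : ↥N)
    rwa [Subgroup.orderOf_mk] at this
  exact (Nat.Prime.coprime_iff_not_dvd ht).mp hNt.symm (htc.trans h1)

/-- `|E|` is prime to `|M_σ|` -/
theorem coprime_card_compl (hG : IsMinSimpleOddOrder G) {M E : Subgroup G} (hM : IsCoatom M)
    (hE : IsComplIn E (sigmaCore M) M) : (Nat.card E).Coprime (Nat.card (sigmaCore M)) := by
  apply Nat.coprime_of_dvd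
  intro k hk hk1 hk2
  exact not_mem_sigma_of_dvd_card_compl hG (hU_of hG) M hM hE hk hk1 (sigmaCore_isPi M k hk hk2)

omit [Finite G] in
/-- Dedekind: `M ∩ H = (M_σ ∩ H) E` when `E ≤ H`. -/
theorem inf_eq_sup_of_compl {M E N H : Subgroup G} (hE : IsComplIn E N M) (hEH : E ≤ H) :
    M ⊓ H = (N ⊓ H) ⊔ E := by
  apply le_antisymm
  · rintro m ⟨hmM, hmH⟩
    obtain ⟨a, ha, b, hb, rfl⟩ := hE.2.2.2 m hmM
    -- `m = a * b` with `a ∈ E`, `b ∈ N`; conjugate: `a * b = (a * b * a⁻¹) * a`?  use `b ∈ H`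
    have hbH : b ∈ H := by
      have := H.mul_mem (H.inv_mem (hEH ha)) hmH
      simpa [mul_assoc] using this
    have h1 : a ∈ (N ⊓ H) ⊔ E := Subgroup.mem_sup_right ha
    have h2 : b ∈ (N ⊓ H) ⊔ E := Subgroup.mem_sup_left ⟨hb, hbH⟩
    exact Subgroup.mul_mem _ h1 h2
  · exact sup_le (inf_le_inf_right _ hE.2.1) (le_inf hE.1 hEH)

/-- **L1** (BG 13.11(a),(b)). -/
theorem l1 (hG : IsMinSimpleOddOrder G) {M E E₃ : Subgroup G} (hM : IsCoatom M)
    (hE : IsComplIn E (sigmaCore M) M) (hE₃ : IsPiHallOf (tau3 M) E₃ E)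
    {X : Subgroup G} (hXE : X ≤ E₃) (hXp : (Nat.card X).Prime)
    (hnr : sigmaCore M ⊓ Subgroup.centralizer (X : Set G) ≠ ⊥)
    {H : Subgroup G} (hH : IsCoatom H) (hNX : Subgroup.normalizer (X : Set G) ≤ H) :
    E ≤ H ∧ (∀ g : G, MulAut.conj g • H ≠ M) ∧
      sigmaCore M ⊓ H = sigmaCore M ⊓ Subgroup.centralizer (E₃ : Set G) ∧
      sigmaCore M ⊓ Subgroup.centralizer (X : Set G) =
        sigmaCore M ⊓ Subgroup.centralizer (E₃ : Set G) ∧
      (∀ q ∈ tau2 M, False) := by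
  have hU := hU_of hG
  have : Fact (Nat.card X).Prime := ⟨hXp⟩
  obtain ⟨hE₃c, hE₃E', hE₃n⟩ := (Cfsg.Agent.S1415.result hG M hM E hE).2.2 E₃ hE₃
  have hXpg : IsPGroup (Nat.card X) X := isPGroup_of_card_prime hXp
  have hX1 : X ≠ ⊥ := by
    intro h
    rw [h, Subgroup.card_bot] at hXp
    exact Nat.not_prime_one hXp
  have hXM : X ≤ M := hXE.trans (hE₃.1.trans hE.1)
  have hs3 : Nat.card X ∈ tau3 M := hE₃.2.1 _ hXp (Subgroup.card_dvd_of_le hXE)
  -- `E` normalizes `X`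
  have hEN : E ≤ Subgroup.normalizer (X : Set G) := by
    intro e he
    apply mem_normalizer_of_map_conj_eq
    apply Cfsg.Agent.Lib.Helper82.NilAbel.eq_of_card_eq_of_le_cyclic hE₃c _ hXE
      (Subgroup.card_map_of_injective (MulAut.conj e).injective)
    rintro _ ⟨a, ha, rfl⟩
    exact (Subgroup.mem_normalizer_iff.mp (hE₃n he) a).mp (hXE ha)
  have hEH : E ≤ H := hEN.trans hNX
  have hnc0 := not_conj_of_normalizer_le hG hU M H hM (Nat.card X) X hXpg hX1 hXM hNX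
    (Or.inr (Or.inr hs3))
  have hnc : ∀ g : G, MulAut.conj g • H ≠ M := nc_symm hnc0
  have hHM : H ≠ M := ne_of_nc hnc
  have hCD : sigmaCore M ⊓ Subgroup.centralizer (X : Set G) ≤ sigmaCore M ⊓ H :=
    inf_le_inf_left _ ((Subgroup.centralizer_le_normalizer _).trans hNX)
  have hD1 : sigmaCore M ⊓ H ≠ ⊥ := fun h => hnr (le_bot_iff.mp (h ▸ hCD))
  -- `D ≤ C(E₃)`
  have hcop := coprime_card_compl hG hM hE
  have hDC : sigmaCore M ⊓ H ≤ sigmaCore M ⊓ Subgroup.centralizer (E₃ : Set G) := by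
    refine le_inf inf_le_left ?_
    intro d hd
    rw [Subgroup.mem_centralizer_iff]
    intro x hx
    have hxE : x ∈ E := hE₃.1 hx
    refine commute_of_mem_commutator hG H hH (sigmaCore M ⊓ H) inf_le_right ?_
      (Subgroup.commutator_mono hEH hEH (hE₃E' hx)) ?_ ?_ d hd
    · intro t ht htD
      exact not_mem_beta_of_mem_sigma hG hM hH hnc
        (sigmaCore_isPi M t ht (htD.trans (Subgroup.card_dvd_of_le inf_le_left)))
    · have h1 : orderOf x ∣ Nat.card E := by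
        have := orderOf_dvd_natCard (⟨x, hxE⟩ : ↥E)
        rwa [Subgroup.orderOf_mk] at this
      exact (hcop.coprime_dvd_left h1).coprime_dvd_right (Subgroup.card_dvd_of_le inf_le_left)
    · exact mem_normalizer_inf (le_normalizer_sigmaCore M (hE.1 hxE))
        (Subgroup.le_normalizer (hEH hxE))
  have hCC : sigmaCore M ⊓ Subgroup.centralizer (E₃ : Set G) ≤
      sigmaCore M ⊓ Subgroup.centralizer (X : Set G) :=
    inf_le_inf_left _ (Subgroup.centralizer_le hXE)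
  refine ⟨hEH, hnc, le_antisymm hDC (hCC.trans hCD), le_antisymm (hCD.trans hDC) hCC, ?_⟩
  intro q hq
  have hqp : q.Prime := hq.1
  have : Fact q.Prime := ⟨hqp⟩
  have hrk : ¬ PRankLE q 1 ↥E := not_pRankLE_complement hE (sigmaCore_isPi M) hq.2.1 hq.2.2.2
  obtain ⟨A, hAE, hAe, hAc⟩ := exists_elemAb_sq_of_not_pRankLE_one E hrk
  exact hD1 ((Cfsg.Agent.S1417.result hG M hM q hq A ⟨hAE.trans hE.1, hAe, hAc⟩).2.2.2.2.1 H hH hHM
    (hAE.trans hEH))

/-- `E` normalizes every subgroup of prime order of the (cyclic, normal) Hall `τ₃(M)`-subgroup. -/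
theorem le_normalizer_of_le_hall3 (hG : IsMinSimpleOddOrder G) {M E E₃ : Subgroup G}
    (hM : IsCoatom M) (hE : IsComplIn E (sigmaCore M) M) (hE₃ : IsPiHallOf (tau3 M) E₃ E)
    {X : Subgroup G} (hXE : X ≤ E₃) : E ≤ Subgroup.normalizer (X : Set G) := by
  obtain ⟨hE₃c, -, hE₃n⟩ := (Cfsg.Agent.S1415.result hG M hM E hE).2.2 E₃ hE₃
  intro e he
  apply mem_normalizer_of_map_conj_eq
  apply Cfsg.Agent.Lib.Helper82.NilAbel.eq_of_card_eq_of_le_cyclic hE₃c _ hXE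
    (Subgroup.card_map_of_injective (MulAut.conj e).injective)
  rintro _ ⟨a, ha, rfl⟩
  exact (Subgroup.mem_normalizer_iff.mp (hE₃n he) a).mp (hXE ha)

/-- a prime dividing `|H|` and not in `σ(H)` lies in `τ₁(H) ∪ τ₂(H) ∪ τ₃(H)` -/
theorem tau_trichotomy' (hG : IsMinSimpleOddOrder G) (H : Subgroup G) (hH : IsCoatom H) {p : ℕ}
    (hp : p.Prime) (hpH : p ∣ Nat.card H) (hσ : p ∉ sigma H) :
    p ∈ tau1 H ∨ p ∈ tau2 H ∨ p ∈ tau3 H := by
  have h2 : PRankLE p 2 H := by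
    by_contra h
    exact hσ (Cfsg.Agent.Lib.Helper50.alpha_subset_sigma hG
      (uniqThree_of_uniquenessThm (hU_of hG)) H hH ⟨hp, h⟩)
  by_cases h1 : PRankLE p 1 H
  · by_cases hc : p ∣ Nat.card ↥⁅H, H⁆
    · exact Or.inr (Or.inr ⟨hp, hσ, hc, h1⟩)
    · exact Or.inl ⟨hp, hσ, hpH, hc, h1⟩
  · exact Or.inr (Or.inl ⟨hp, hσ, h2, h1⟩)

/-- a `q`-subgroup of `M`, `q ∈ σ(M)`, lies in `M_σ` -/
theorem le_sigmaCore_of_isPGroup (hG : IsMinSimpleOddOrder G) (M : Subgroup G) (hM : IsCoatom M)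
    {q : ℕ} (hq : q ∈ sigma M) {Q : Subgroup G} (hQM : Q ≤ M) (hQ : IsPGroup q Q) :
    Q ≤ sigmaCore M := by
  refine le_hall_of_normal (sigmaCore_hall_of hG (hU_of hG) M hM).1 (le_normalizer_sigmaCore M) hQM ?_
  intro r hr hrd
  have : Fact q.Prime := ⟨hq.1⟩
  obtain ⟨k, hk⟩ := IsPGroup.iff_card.mp hQ
  rw [hk] at hrd
  have := (Nat.prime_dvd_prime_iff_eq hr hq.1).mp (hr.dvd_of_dvd_pow hrd)
  rw [this]; exact hq

/-- a maximal subgroup over the normalizer of a nontrivial `p`-subgroup -/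
theorem exists_max_ge_normalizer (hG : IsMinSimpleOddOrder G) {p : ℕ} [Fact p.Prime]
    {X : Subgroup G} (hXp : IsPGroup p X) (hX1 : X ≠ ⊥) :
    ∃ H : Subgroup G, IsCoatom H ∧ Subgroup.normalizer (X : Set G) ≤ H :=
  exists_isCoatom_ge (normalizer_ne_top_of_simple hG.2.1 hX1
    (ne_top_of_isPGroup hG.2.1 hG.2.2.1 hXp))

omit [Finite G] in
/-- for `P` of prime order and `1 ≠ u ∈ P`: `C_G(P) = C_G(u)` -/
theorem centralizer_eq_of_card_prime {P : Subgroup G} (hP : (Nat.card P).Prime) {u : G}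
    (hu : u ∈ P) (hu1 : u ≠ 1) :
    Subgroup.centralizer (P : Set G) = Subgroup.centralizer ({u} : Set G) := by
  apply le_antisymm
  · exact Subgroup.centralizer_le (by
      intro t ht
      rw [Set.mem_singleton_iff] at ht
      rw [ht]; exact hu)
  · intro g hg
    rw [Subgroup.mem_centralizer_iff]
    intro h hh
    have : Fact (Nat.card P).Prime := ⟨hP⟩
    have htop : Subgroup.zpowers (⟨u, hu⟩ : ↥P) = ⊤ :=
      zpowers_eq_top_of_prime_card rfl (fun h => hu1 (congrArg Subtype.val h))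
    have hmem : (⟨h, hh⟩ : ↥P) ∈ Subgroup.zpowers (⟨u, hu⟩ : ↥P) := by rw [htop]; trivial
    obtain ⟨k, hk⟩ := Subgroup.mem_zpowers_iff.mp hmem
    have hk' : u ^ k = h := by
      have := congrArg Subtype.val hk
      simpa using this
    have hgu : u * g = g * u := Subgroup.mem_centralizer_iff.mp hg u (Set.mem_singleton u)
    rw [← hk']
    exact ((show Commute u g from hgu).zpow_left k).eq

end Cfsg.Agent.Lib.Helper96.BG1310
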