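/-
helper96: definitions for the proof of Bender–Glauberman 13.10(b) / 13.11 (`H1310b`, `H1311` of
`BGFourteenTwoHyp`) along the route of board post #2685 (no 13.8, no 12.18).

* `Phi M E E₃ P p` : the configuration excluded by 13.10(b).
* `Ctx M E E₃ P X H p s` : `Phi` together with a subgroup `X ≤ E₃` of prime order `s`, a maximal
  subgroup `H ≥ N_G(X)`, and the facts L1, L2 of #2685 about them.
* `TwoSide M P` : the input of the two-sided counting lemma (Lemma T) on the side of `M`.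
* `L2a G`, `LemmaA G`, `LemmaC G` : statements of auxiliary lemmas, as propositions.
-/
import Mathlib
import Cfsg.Prelude.Def_OddOrderLocal

set_option autoImplicit false

namespace Cfsg.Agent.Lib.Helper96.BG1310

open scoped Pointwise
open Cfsg

universe u

variable {G : Type u} [Group G]

/-- The configuration excluded by BG 13.10(b): `p ∈ τ₁(M)`, `P ≤ E` of order `p` not centralizing the
Hall `τ₃(M)`-subgroup `E₃` of `E`, and `E₃` does not act regularly on `M_σ`. -/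
structure Phi (M E E₃ P : Subgroup G) (p : ℕ) : Prop where
  hM : IsCoatom M
  hE : IsComplIn E (sigmaCore M) M
  hp : p ∈ tau1 M
  hPE : P ≤ E
  hP : Nat.card P = p
  hE₃ : IsPiHallOf (tau3 M) E₃ E
  hnc : ¬ P ≤ Subgroup.centralizer (E₃ : Set G)
  hnr : ∃ x ∈ E₃, x ≠ 1 ∧ sigmaCore M ⊓ Subgroup.centralizer ({x} : Set G) ≠ ⊥

/-- The working context of the proof of 13.10(b): `Phi`, a subgroup `X ≤ E₃` of prime order `s`, a
maximal subgroup `H ≥ N_G(X)`, and the consequences L1, L2 of #2685.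
Notation: `Y₃ = M_σ ∩ H = C_{M_σ}(E₃)`, `Y = C_{M_σ}(P)`. -/
structure Ctx (M E E₃ P X H : Subgroup G) (p s : ℕ) : Prop where
  hM : IsCoatom M
  hE : IsComplIn E (sigmaCore M) M
  hp : p ∈ tau1 M
  hPE : P ≤ E
  hP : Nat.card P = p
  hE₃ : IsPiHallOf (tau3 M) E₃ E
  hXE : X ≤ E₃
  hX : Nat.card X = s
  hs : s ∈ tau3 M
  hH : IsCoatom H
  hNX : Subgroup.normalizer (X : Set G) ≤ H
  hphi : Phi M E E₃ P p
  /-- L1 -/
  hEH : E ≤ H
  hnc : ∀ g : G, MulAut.conj g • H ≠ M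
  hY₃ : sigmaCore M ⊓ H = sigmaCore M ⊓ Subgroup.centralizer (E₃ : Set G)
  hY₃ne : sigmaCore M ⊓ H ≠ ⊥
  hMH : M ⊓ H = (sigmaCore M ⊓ H) ⊔ E
  htau2 : ∀ q ∈ tau2 M, False
  /-- L2 (i): `E = E₃ ⋊ P` is a Frobenius group -/
  hEeq : E = E₃ ⊔ P
  hcardE : Nat.card E = Nat.card E₃ * p
  hfpf : ∀ u ∈ P, u ≠ 1 → ∀ e ∈ E₃, u * e = e * u → e = 1
  /-- L2 (ii) -/
  hYnot : ¬ sigmaCore M ⊓ Subgroup.centralizer (P : Set G) ≤ Subgroup.centralizer (E₃ : Set G)
  /-- L2 (iii) -/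
  hCM : M ⊓ Subgroup.centralizer (P : Set G) =
    (sigmaCore M ⊓ Subgroup.centralizer (P : Set G)) ⊔ P
  /-- L2 (iv), from BG 13.6 and S1404 -/
  hcent : ∀ y ∈ sigmaCore M ⊓ Subgroup.centralizer (P : Set G), y ≠ 1 →
    Subgroup.centralizer ({y} : Set G) ≤ M
  huniq : ∀ y ∈ sigmaCore M ⊓ Subgroup.centralizer (P : Set G), (orderOf y).Prime →
    ∀ L : Subgroup G, IsCoatom L → Subgroup.centralizer ({y} : Set G) ≤ L → L = M
  hstar : ∀ y ∈ sigmaCore M ⊓ Subgroup.centralizer (P : Set G), y ≠ 1 →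
    ∀ g : G, g * y * g⁻¹ ∈ M → g ∈ M

/-- The input of the two-sided counting lemma on the side of `M`: `Y = C_{M_σ}(P) ≠ 1` and an element
of `C_G(P)` conjugating some `y ∈ Y^#` into `Y P` lies in `Y P`. -/
def TwoSide (M P : Subgroup G) : Prop :=
  sigmaCore M ⊓ Subgroup.centralizer (P : Set G) ≠ ⊥ ∧
    ∀ c ∈ Subgroup.centralizer (P : Set G),
      ∀ y ∈ sigmaCore M ⊓ Subgroup.centralizer (P : Set G), y ≠ 1 →
        c * y * c⁻¹ ∈ (sigmaCore M ⊓ Subgroup.centralizer (P : Set G)) ⊔ P →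
          c ∈ (sigmaCore M ⊓ Subgroup.centralizer (P : Set G)) ⊔ P

/-- **L2 (a)** of #2685: if some subgroup `P₀` of prime order of the Hall `τ₁(M)`-subgroup `E₁` of `E`
does not centralize the Hall `τ₃(M)`-subgroup `E₃`, then every subgroup of prime order of `E₁` acts
without fixed points on `E₃`. -/
def L2a (G : Type u) [Group G] : Prop :=
  ∀ (M E E₁ E₃ : Subgroup G), IsCoatom M → IsComplIn E (sigmaCore M) M →
    IsPiHallOf (tau1 M) E₁ E → IsPiHallOf (tau3 M) E₃ E →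
    ∀ P₀ : Subgroup G, P₀ ≤ E₁ → (Nat.card P₀).Prime →
      ¬ P₀ ≤ Subgroup.centralizer (E₃ : Set G) →
    ∀ P' : Subgroup G, P' ≤ E₁ → (Nat.card P').Prime →
      E₃ ⊓ Subgroup.centralizer (P' : Set G) = ⊥

/-- **Lemma A'** of #2685 (statement of #2703 (3)). -/
def LemmaA (G : Type u) [Group G] : Prop :=
  ∀ (M H : Subgroup G), IsCoatom M → IsCoatom H → (∀ g : G, MulAut.conj g • H ≠ M) →
    ∀ P : Subgroup G, P ≤ M →
    ∀ (t : ℕ) [Fact t.Prime], t ∈ tau2 H → t ∉ sigma M → PRankLE t 1 M →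
    ∀ F : Subgroup G, IsComplIn F (sigmaCore H) H → sigmaCore M ⊓ H ≤ F → P ≤ F →
    ∀ A : Subgroup G, A ≤ F → IsElementaryAbelian t A → Nat.card A = t ^ 2 → A ⊓ M ≠ ⊥ →
      sigmaCore M ⊓ H ≤ Subgroup.centralizer (P : Set G)

/-- **Lemma C** of #2685: in the context `Ctx`, if `p ∉ σ(H)`, `s ∈ σ(H)` (so `X ≤ H_σ`) then
`C_{Y₃}(P) = 1`. -/
def LemmaC (G : Type u) [Group G] : Prop :=
  ∀ (M E E₃ P X H : Subgroup G) (p s : ℕ), Ctx M E E₃ P X H p s → p ∉ sigma H → s ∈ sigma H →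
    sigmaCore M ⊓ H ⊓ Subgroup.centralizer (P : Set G) = ⊥

end Cfsg.Agent.Lib.Helper96.BG1310
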