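/-
helper96: towards Bender–Glauberman 13.10(b) / 13.11.  Part B: **L2** of board post #2685, first half:
a subgroup of prime order of `E₃` not centralized by `P`, Wielandt's formula for Frobenius subgroups
of `E` acting on `M_σ`, the key inequality `C_{M_σ}(P) ≰ C(X)`, and `L2a`.
-/
import Cfsg.Agent.Lib.Helper96.BGThirteenTenDefs
import Cfsg.Agent.Lib.Helper96.BGThirteenTenA
import Cfsg.Agent.Lib.Helper96.BGFourteenTwoFinal
import Cfsg.Agent.Lib.Helper55.BGElevenD
import Cfsg.Agent.Lib.Helper24.Coprime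
import Cfsg.Agent.S1545

set_option autoImplicit false

namespace Cfsg.Agent.Lib.Helper96.BG1310

open scoped Pointwise
open Cfsg Cfsg.Agent.Lib.Helper54 Cfsg.Agent.Lib.Helper97.BGTwelve
open Cfsg.Agent.Lib.Helper34 (UniquenessThm)
open Cfsg.Agent.Lib.Helper96.BG142

variable {G : Type*} [Group G]

/-- `u` normalizes the abelian subgroup `A`, has order prime to `r`, and centralizes the elements of
order dividing `r` of `A`: then `u` centralizes every `r`-element of `A`. -/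
theorem commute_of_commute_omega {A : Subgroup G} (hA : ∀ a ∈ A, ∀ b ∈ A, a * b = b * a) {u : G}
    (hu : u ∈ Subgroup.normalizer (A : Set G)) {r : ℕ} (hcop : (orderOf u).Coprime r)
    (hΩ : ∀ y ∈ A, y ^ r = 1 → u * y = y * u) :
    ∀ k : ℕ, ∀ x ∈ A, x ^ (r ^ k) = 1 → u * x = x * u := by
  intro k
  induction k with
  | zero =>
    intro x _ hx
    rw [pow_zero, pow_one] at hx
    rw [hx, mul_one, one_mul]
  | succ k ih =>
    intro x hxA hx
    have hxr : u * x ^ r = x ^ r * u := by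
      apply ih (x ^ r) (A.pow_mem hxA r)
      rw [← pow_mul, ← pow_succ']
      exact hx
    have hcx : u * x * u⁻¹ ∈ A := (Subgroup.mem_normalizer_iff.mp hu x).mp hxA
    have hzA : x⁻¹ * (u * x * u⁻¹) ∈ A := A.mul_mem (A.inv_mem hxA) hcx
    have hcomm : Commute x⁻¹ (u * x * u⁻¹) := hA _ (A.inv_mem hxA) _ hcx
    have hzr : (x⁻¹ * (u * x * u⁻¹)) ^ r = 1 := by
      rw [hcomm.mul_pow, conj_pow, hxr, mul_assoc, mul_inv_cancel, mul_one, inv_pow,
        inv_mul_cancel]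
    have huz := hΩ _ hzA hzr
    apply Cfsg.Agent.Lib.Helper24.commute_of_comm_commute_of_coprime u x huz
    exact Nat.Coprime.coprime_dvd_right (orderOf_dvd_of_pow_eq_one hzr) hcop

/-- `X`, `P` of prime orders, `P` normalizes `X`, `X ≰ C(P)`: the action is fixed-point-free. -/
theorem fpf_of_not_le_centralizer {X P : Subgroup G} (hX : (Nat.card X).Prime)
    (hP : (Nat.card P).Prime) (hXP : ¬ X ≤ Subgroup.centralizer (P : Set G)) :
    ∀ u ∈ P, u ≠ 1 → ∀ x ∈ X, u * x = x * u → x = 1 := by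
  intro u hu hu1 x hx hux
  by_contra hx1
  apply hXP
  have hxC : x ∈ Subgroup.centralizer (P : Set G) := by
    rw [centralizer_eq_of_card_prime hP hu hu1]
    exact Subgroup.mem_centralizer_iff.mpr (fun h hh => by
      rw [Set.mem_singleton_iff] at hh; rw [hh]; exact hux)
  rw [Subgroup.le_centralizer_iff, centralizer_eq_of_card_prime hX hx hx1]
  intro h hh
  exact Subgroup.mem_centralizer_iff.mpr (fun g hg => by
    rw [Set.mem_singleton_iff] at hg; rw [hg]
    exact (Subgroup.mem_centralizer_iff.mp hxC h hh).symm)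

variable [Finite G]

/-- a subgroup of prime order of `E₃` not centralized by `P` -/
theorem exists_prime_not_le_centralizer (hG : IsMinSimpleOddOrder G) {M E E₃ P : Subgroup G}
    {p : ℕ} (hM : IsCoatom M) (hE : IsComplIn E (sigmaCore M) M) (hp : p ∈ tau1 M) (hPE : P ≤ E)
    (hP : Nat.card P = p) (hE₃ : IsPiHallOf (tau3 M) E₃ E)
    (hnc : ¬ P ≤ Subgroup.centralizer (E₃ : Set G)) :
    ∃ X : Subgroup G, X ≤ E₃ ∧ (Nat.card X).Prime ∧ ¬ X ≤ Subgroup.centralizer (P : Set G) := by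
  obtain ⟨hE₃c, -, hE₃n⟩ := (Cfsg.Agent.S1415.result hG M hM E hE).2.2 E₃ hE₃
  have hnc' : ¬ E₃ ≤ Subgroup.centralizer (P : Set G) := fun h =>
    hnc (Subgroup.le_centralizer_iff.mp h)
  obtain ⟨t, k, v, ht, hvE, hvC, hvo⟩ :=
    Cfsg.Agent.Lib.Helper34.SigmaPartition.exists_prime_pow_orderOf_not_mem hnc'
  rw [Subgroup.mem_centralizer_iff] at hvC
  push Not at hvC
  obtain ⟨u, hu, huv⟩ := hvC
  have huP : u ∈ P := hu
  have hcomm := comm_of_isCyclic hE₃c
  have htd : t ∣ Nat.card E₃ := by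
    have h1 : orderOf v ∣ Nat.card E₃ := by
      have := orderOf_dvd_natCard (⟨v, hvE⟩ : ↥E₃)
      rwa [Subgroup.orderOf_mk] at this
    have hk : k ≠ 0 := by
      rintro rfl
      rw [pow_zero, orderOf_eq_one_iff] at hvo
      apply huv
      rw [hvo, mul_one, one_mul]
    rw [hvo] at h1
    exact (dvd_pow_self t hk).trans h1
  have ht3 : t ∈ tau3 M := hE₃.2.1 t ht htd
  have htp : t ≠ p := fun h => not_mem_tau3_of_mem_tau1 hp (h ▸ ht3)
  have huo : (orderOf u).Coprime t := by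
    have h1 : orderOf u ∣ p := by
      have := orderOf_dvd_natCard (⟨u, huP⟩ : ↥P)
      rwa [Subgroup.orderOf_mk, hP] at this
    exact Nat.Coprime.coprime_dvd_left h1 ((Nat.coprime_primes hp.1 ht).mpr htp.symm)
  have huN : u ∈ Subgroup.normalizer (E₃ : Set G) := hE₃n (hPE huP)
  by_contra hcon
  push Not at hcon
  apply huv
  refine commute_of_commute_omega hcomm huN huo ?_ k v hvE (by rw [← hvo]; exact pow_orderOf_eq_one v)
  intro y hyE hyt
  by_contra hne
  have hy1 : y ≠ 1 := by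
    rintro rfl
    exact hne (by rw [mul_one, one_mul])
  have : Fact t.Prime := ⟨ht⟩
  have hyo : orderOf y = t := orderOf_eq_prime hyt hy1
  have hXc : Nat.card (Subgroup.zpowers y) = t := by rw [Nat.card_zpowers, hyo]
  have hXC := hcon (Subgroup.zpowers y) ((Subgroup.zpowers_le).mpr hyE) (hXc ▸ ht)
  have := Subgroup.mem_centralizer_iff.mp (hXC (Subgroup.mem_zpowers y)) u huP
  exact hne this

/-- **Wielandt** (S1545) for a Frobenius subgroup `U ⋊ K` of `E` acting on `M_σ`. -/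
theorem wielandt_compl (hG : IsMinSimpleOddOrder G) {M E U K : Subgroup G} (hM : IsCoatom M)
    (hE : IsComplIn E (sigmaCore M) M) (hUE : U ≤ E) (hKE : K ≤ E) (hU1 : U ≠ ⊥) (hK1 : K ≠ ⊥)
    (hUK : U ⊓ K = ⊥) (hn : K ≤ Subgroup.normalizer (U : Set G))
    (hfpf : ∀ e ∈ K, e ≠ 1 → ∀ u ∈ U, e * u = u * e → u = 1) :
    Nat.card ↥(sigmaCore M ⊓ Subgroup.centralizer ((U ⊔ K : Subgroup G) : Set G)) ^ Nat.card K *
        Nat.card (sigmaCore M) =
      Nat.card ↥(sigmaCore M ⊓ Subgroup.centralizer (K : Set G)) ^ Nat.card K *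
        Nat.card ↥(sigmaCore M ⊓ Subgroup.centralizer (U : Set G)) := by
  have hUKE : U ⊔ K ≤ E := sup_le hUE hKE
  have hMsT : sigmaCore M ≠ ⊤ := fun h => hM.1 (top_le_iff.mp (h ▸ sigmaCore_le M))
  refine Cfsg.Agent.S1545.result U K (sigmaCore M) hU1 hK1 hUK ?_ hfpf ?_ ?_ (hG.2.2.2 _ hMsT) ?_
  · intro e he u hu
    exact (Subgroup.mem_normalizer_iff.mp (hn he) u).mp hu
  · intro x hx h hh
    exact (Subgroup.mem_normalizer_iff.mp (le_normalizer_sigmaCore M (hE.1 (hUKE hx))) h).mp hh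
  · rw [← le_bot_iff, ← hE.2.2.1, inf_comm]
    exact inf_le_inf_right _ hUKE
  · exact ((coprime_card_compl hG hM hE).coprime_dvd_left (Subgroup.card_dvd_of_le hUKE)).symm

/-- a subgroup of prime order of `E₃` does not centralize `M_σ` -/
theorem not_le_centralizer_of_le_hall3 (hG : IsMinSimpleOddOrder G) {M E E₃ X : Subgroup G}
    (hM : IsCoatom M) (hE : IsComplIn E (sigmaCore M) M) (hE₃ : IsPiHallOf (tau3 M) E₃ E)
    (hXE : X ≤ E₃) (hXp : (Nat.card X).Prime) :
    ¬ sigmaCore M ≤ Subgroup.centralizer (X : Set G) := by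
  intro hC
  have : Fact (Nat.card X).Prime := ⟨hXp⟩
  have hMs1 := Cfsg.Agent.Lib.Helper55.BGEleven.sigmaCore_ne_bot hG (hU_of hG) M hM
  have hnr : sigmaCore M ⊓ Subgroup.centralizer (X : Set G) ≠ ⊥ := by
    rw [inf_eq_left.mpr hC]; exact hMs1
  have hX1 : X ≠ ⊥ := by
    intro h
    rw [h, Subgroup.card_bot] at hXp
    exact Nat.not_prime_one hXp
  obtain ⟨H, hH, hNX⟩ := exists_max_ge_normalizer hG (isPGroup_of_card_prime hXp) hX1
  obtain ⟨hEH, hnc, -, h2, -⟩ := l1 hG hM hE hE₃ hXE hXp hnr hH hNX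
  have hMsH : sigmaCore M ≤ H := by
    have h3 : sigmaCore M ≤ sigmaCore M ⊓ Subgroup.centralizer (X : Set G) := le_inf le_rfl hC
    exact h3.trans (inf_le_right.trans ((Subgroup.centralizer_le_normalizer _).trans hNX))
  have hMH : M ≤ H := by
    intro m hm
    obtain ⟨a, ha, b, hb, rfl⟩ := hE.2.2.2 m hm
    exact H.mul_mem (hEH ha) (hMsH hb)
  rcases hM.le_iff.mp hMH with h | h
  · exact hH.1 h
  · exact ne_of_nc hnc h

/-- **Key inequality**: `C_{M_σ}(P) ≰ C(X)` for `X ≤ E₃`, `P ≤ E` of prime orders with `X ≰ C(P)`. -/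
theorem key_not_le (hG : IsMinSimpleOddOrder G) {M E E₃ X P : Subgroup G}
    (hM : IsCoatom M) (hE : IsComplIn E (sigmaCore M) M) (hE₃ : IsPiHallOf (tau3 M) E₃ E)
    (hXE : X ≤ E₃) (hXp : (Nat.card X).Prime) (hPE : P ≤ E) (hPp : (Nat.card P).Prime)
    (hPτ : Nat.card P ∈ tau1 M) (hXP : ¬ X ≤ Subgroup.centralizer (P : Set G)) :
    ¬ sigmaCore M ⊓ Subgroup.centralizer (P : Set G) ≤ Subgroup.centralizer (X : Set G) := by
  intro hY
  have hX1 : X ≠ ⊥ := by
    intro h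
    rw [h, Subgroup.card_bot] at hXp
    exact Nat.not_prime_one hXp
  have hP1 : P ≠ ⊥ := by
    intro h
    rw [h, Subgroup.card_bot] at hPp
    exact Nat.not_prime_one hPp
  have hs3 : Nat.card X ∈ tau3 M := hE₃.2.1 _ hXp (Subgroup.card_dvd_of_le hXE)
  have hne : Nat.card X ≠ Nat.card P := fun h => not_mem_tau3_of_mem_tau1 hPτ (h ▸ hs3)
  have hXPbot : X ⊓ P = ⊥ :=
    (Subgroup.disjoint_of_coprime_natCard ((Nat.coprime_primes hXp hPp).mpr hne)).eq_bot
  have hn : P ≤ Subgroup.normalizer (X : Set G) :=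
    hPE.trans (le_normalizer_of_le_hall3 hG hM hE hE₃ hXE)
  have hW := wielandt_compl hG hM hE (hXE.trans hE₃.1) hPE hX1 hP1 hXPbot hn
    (fpf_of_not_le_centralizer hXp hPp hXP)
  have hYeq : sigmaCore M ⊓ Subgroup.centralizer ((X ⊔ P : Subgroup G) : Set G) =
      sigmaCore M ⊓ Subgroup.centralizer (P : Set G) := by
    apply le_antisymm
    · exact inf_le_inf_left _ (Subgroup.centralizer_le (show P ≤ X ⊔ P from le_sup_right))
    · refine le_inf inf_le_left ?_
      rw [Subgroup.le_centralizer_iff]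
      exact sup_le (Subgroup.le_centralizer_iff.mp hY)
        (Subgroup.le_centralizer_iff.mp inf_le_right)
  rw [hYeq] at hW
  have hpos : 0 < Nat.card ↥(sigmaCore M ⊓ Subgroup.centralizer (P : Set G)) ^ Nat.card P :=
    pow_pos Nat.card_pos _
  have hcard : Nat.card (sigmaCore M) =
      Nat.card ↥(sigmaCore M ⊓ Subgroup.centralizer (X : Set G)) :=
    Nat.eq_of_mul_eq_mul_left hpos hW
  have heq : sigmaCore M ⊓ Subgroup.centralizer (X : Set G) = sigmaCore M :=
    Subgroup.eq_of_le_of_card_ge inf_le_left (le_of_eq hcard)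
  exact not_le_centralizer_of_le_hall3 hG hM hE hE₃ hXE hXp (inf_eq_left.mp heq)

/-- **BG 13.5**: `C_{M_σ}(P') = C_{M_σ}(E₁)` for `P' ≤ E₁` of prime order. -/
theorem centralizer_eq_of_le_hall1 (hG : IsMinSimpleOddOrder G) {M E E₁ P' : Subgroup G}
    (hM : IsCoatom M) (hE : IsComplIn E (sigmaCore M) M) (hE₁ : IsPiHallOf (tau1 M) E₁ E)
    (hP'E : P' ≤ E₁) (hP' : (Nat.card P').Prime) :
    sigmaCore M ⊓ Subgroup.centralizer (P' : Set G) =
      sigmaCore M ⊓ Subgroup.centralizer (E₁ : Set G) := by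
  have hE₁c := (Cfsg.Agent.S1415.result hG M hM E hE).2.1 E₁ hE₁
  obtain ⟨u, hu, hu1⟩ := exists_ne_one_of_card_prime hP'
  rw [centralizer_eq_of_card_prime hP' hu hu1]
  exact semiprime_E1 hG M hE
    (fun p _ S hS1 hSc => Cfsg.Agent.S1427.result hG M hM E hE p S hS1 hSc)
    (fun p hp P hPE hP R hRE hR => Cfsg.Agent.S1428.result hG M hM E hE p hp P hPE hP R hRE hR)
    hE₁ hE₁c u (hP'E hu) hu1

/-- **L2 (a)**. -/
theorem l2a (hG : IsMinSimpleOddOrder G) : L2a G := by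
  intro M E E₁ E₃ hM hE hE₁ hE₃ P₀ hP₀E hP₀ hnc P' hP'E hP'
  have hp0τ : Nat.card P₀ ∈ tau1 M := hE₁.2.1 _ hP₀ (Subgroup.card_dvd_of_le hP₀E)
  obtain ⟨X, hXE, hXp, hXP⟩ :=
    exists_prime_not_le_centralizer hG hM hE hp0τ (hP₀E.trans hE₁.1) rfl hE₃ hnc
  by_contra hne
  obtain ⟨⟨e, he⟩, he1⟩ := (Subgroup.ne_bot_iff_exists_ne_one).mp hne
  have he1' : e ≠ 1 := fun h => he1 (Subtype.ext h)
  obtain ⟨r, R, hr, hRc, hRE, hRz, hR1, hRp⟩ := exists_prime_card_le he.1 he1'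
  have hRC : R ≤ Subgroup.centralizer (P' : Set G) := hRz.trans ((Subgroup.zpowers_le).mpr he.2)
  have hp'τ : Nat.card P' ∈ tau1 M := hE₁.2.1 _ hP' (Subgroup.card_dvd_of_le hP'E)
  have hRpr : (Nat.card R).Prime := by rw [hRc]; exact hr
  have h28 := Cfsg.Agent.S1428.result hG M hM E hE _ hp'τ P' (hP'E.trans hE₁.1) rfl R
    (le_inf (hRE.trans hE₃.1) hRC) hRpr
  have hYY : sigmaCore M ⊓ Subgroup.centralizer (P₀ : Set G) =
      sigmaCore M ⊓ Subgroup.centralizer (P' : Set G) := by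
    rw [centralizer_eq_of_le_hall1 hG hM hE hE₁ hP₀E hP₀,
      centralizer_eq_of_le_hall1 hG hM hE hE₁ hP'E hP']
  apply key_not_le hG hM hE hE₃ hXE hXp (hP₀E.trans hE₁.1) hP₀ hp0τ hXP
  by_cases hY1 : sigmaCore M ⊓ Subgroup.centralizer (P₀ : Set G) = ⊥
  · rw [hY1]; exact bot_le
  · have hRnr : sigmaCore M ⊓ Subgroup.centralizer (R : Set G) ≠ ⊥ := by
      intro h
      apply hY1
      rw [hYY, ← le_bot_iff, ← h]
      exact h28
    have : Fact r.Prime := ⟨hr⟩
    obtain ⟨H, hH, hNR⟩ := exists_max_ge_normalizer hG hRp hR1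
    obtain ⟨-, -, -, h2, -⟩ := l1 hG hM hE hE₃ hRE hRpr hRnr hH hNR
    calc sigmaCore M ⊓ Subgroup.centralizer (P₀ : Set G)
        = sigmaCore M ⊓ Subgroup.centralizer (P' : Set G) := hYY
      _ ≤ sigmaCore M ⊓ Subgroup.centralizer (R : Set G) := h28
      _ = sigmaCore M ⊓ Subgroup.centralizer (E₃ : Set G) := h2
      _ ≤ Subgroup.centralizer (X : Set G) := inf_le_right.trans (Subgroup.centralizer_le hXE)

end Cfsg.Agent.Lib.Helper96.BG1310
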