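/-
helper96: towards Bender–Glauberman 13.10(b) / 13.11.  Part C: **L2** of board post #2685, second half:
from the configuration `Phi` to the working context `Ctx`, and to `TwoSide`.
-/
import Cfsg.Agent.Lib.Helper96.BGThirteenTenB

set_option autoImplicit false

namespace Cfsg.Agent.Lib.Helper96.BG1310

open scoped Pointwise
open Cfsg Cfsg.Agent.Lib.Helper54 Cfsg.Agent.Lib.Helper97.BGTwelve
open Cfsg.Agent.Lib.Helper34 (UniquenessThm)
open Cfsg.Agent.Lib.Helper96.BG142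

variable {G : Type*} [Group G]

theorem centralizer_sup_eq (A B : Subgroup G) :
    Subgroup.centralizer ((A ⊔ B : Subgroup G) : Set G) =
      Subgroup.centralizer (A : Set G) ⊓ Subgroup.centralizer (B : Set G) := by
  apply le_antisymm
  · exact le_inf (Subgroup.centralizer_le (show A ≤ A ⊔ B from le_sup_left))
      (Subgroup.centralizer_le (show B ≤ A ⊔ B from le_sup_right))
  · rw [Subgroup.le_centralizer_iff]
    exact sup_le (Subgroup.le_centralizer_iff.mp inf_le_left)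
      (Subgroup.le_centralizer_iff.mp inf_le_right)

theorem centralizer_singleton_le_of_le_zpowers {Y₁ : Subgroup G} {y : G}
    (h : Y₁ ≤ Subgroup.zpowers y) :
    Subgroup.centralizer ({y} : Set G) ≤ Subgroup.centralizer (Y₁ : Set G) := by
  intro g hg
  have hgy : y * g = g * y := Subgroup.mem_centralizer_iff.mp hg y (Set.mem_singleton y)
  rw [Subgroup.mem_centralizer_iff]
  intro w hw
  obtain ⟨k, rfl⟩ := Subgroup.mem_zpowers_iff.mp (h hw)
  exact ((show Commute y g from hgy).zpow_left k).eq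

theorem mem_centralizer_of_le_zpowers {Y₁ : Subgroup G} {e u : G}
    (h : Y₁ ≤ Subgroup.zpowers e) (heu : e * u = u * e) :
    u ∈ Subgroup.centralizer (Y₁ : Set G) := by
  rw [Subgroup.mem_centralizer_iff]
  intro w hw
  obtain ⟨k, rfl⟩ := Subgroup.mem_zpowers_iff.mp (h hw)
  exact ((show Commute e u from heu).zpow_left k).eq

variable [Finite G]

/-- arithmetic core of L2 (i) -/
theorem eq_of_wielandt_pair {a b c m n p : ℕ} (ha : 0 < a) (hab : a < b) (hm : 0 < m) (hc : 0 < c)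
    (hpn : p ≤ n) (h1 : a ^ n * m = b ^ n * c) (h2 : a ^ p * m = b ^ p * c) : n = p := by
  obtain ⟨k, rfl⟩ := Nat.exists_eq_add_of_le hpn
  by_contra hk
  have hk0 : k ≠ 0 := fun h => hk (by rw [h, add_zero])
  have h3 : (a ^ (p + k) * m) * (b ^ p * c) = (b ^ (p + k) * c) * (a ^ p * m) := by rw [h1, h2]
  have h4 : a ^ k * (a ^ p * b ^ p * (m * c)) = b ^ k * (a ^ p * b ^ p * (m * c)) := by
    calc a ^ k * (a ^ p * b ^ p * (m * c)) = (a ^ (p + k) * m) * (b ^ p * c) := by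
          rw [pow_add]; ring
      _ = (b ^ (p + k) * c) * (a ^ p * m) := h3
      _ = b ^ k * (a ^ p * b ^ p * (m * c)) := by rw [pow_add]; ring
  have hpos : 0 < a ^ p * b ^ p * (m * c) :=
    Nat.mul_pos (Nat.mul_pos (pow_pos ha p) (pow_pos (ha.trans hab) p)) (Nat.mul_pos hm hc)
  have h5 : a ^ k = b ^ k := Nat.eq_of_mul_eq_mul_right hpos h4
  exact hab.ne (Nat.pow_left_injective hk0 h5)

/-- **L2**: from `Phi` to `Ctx`. -/
theorem exists_ctx (hG : IsMinSimpleOddOrder G) {M E E₃ P : Subgroup G} {p : ℕ}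
    (φ : Phi M E E₃ P p) : ∃ (X H : Subgroup G) (s : ℕ), Ctx M E E₃ P X H p s := by
  have φ' := φ
  obtain ⟨hM, hE, hp, hPE, hP, hE₃, hnc, x0, hx0E, hx01, hx0C⟩ := φ
  have hU := hU_of hG
  have hpp : p.Prime := hp.1
  have hPp : (Nat.card P).Prime := by rw [hP]; exact hpp
  have hPτ : Nat.card P ∈ tau1 M := by rw [hP]; exact hp
  have hEM : E ≤ M := hE.1
  have hEMs : E ⊓ sigmaCore M = ⊥ := hE.2.2.1
  have hET : E ≠ ⊤ := fun h => hM.1 (top_le_iff.mp (h ▸ hEM))
  have hEs : Group.IsSolvable E := hG.2.2.2 E hET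
  obtain ⟨hE₃c, hE₃E', hE₃n⟩ := (Cfsg.Agent.S1415.result hG M hM E hE).2.2 E₃ hE₃
  obtain ⟨E₁, hE₁, hPE₁⟩ := Cfsg.Agent.Lib.Helper62.isPiHallOf_dom (π := tau1 M) hEs hPE
    (fun q hq hqd => by
      rw [hP] at hqd
      rw [(Nat.prime_dvd_prime_iff_eq hq hpp).mp hqd]; exact hp)
  have hE₁c := (Cfsg.Agent.S1415.result hG M hM E hE).2.1 E₁ hE₁
  obtain ⟨X, hXE, hXp, hXP⟩ := exists_prime_not_le_centralizer hG hM hE hp hPE hP hE₃ hnc
  -- `E₃` is not regular
  obtain ⟨r0, X0, hr0, hX0c, hX0E, hX0z, hX01, hX0p⟩ := exists_prime_card_le hx0E hx01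
  have hX0pr : (Nat.card X0).Prime := by rw [hX0c]; exact hr0
  have hX0nr : sigmaCore M ⊓ Subgroup.centralizer (X0 : Set G) ≠ ⊥ := by
    intro h
    apply hx0C
    rw [← le_bot_iff, ← h]
    exact inf_le_inf_left _ (centralizer_singleton_le_of_le_zpowers hX0z)
  have hr0f : Fact r0.Prime := ⟨hr0⟩
  obtain ⟨H0, hH0, hNX0⟩ := exists_max_ge_normalizer hG hX0p hX01
  obtain ⟨-, -, -, h02, htau2⟩ := l1 hG hM hE hE₃ hX0E hX0pr hX0nr hH0 hNX0
  have hY3ne : sigmaCore M ⊓ Subgroup.centralizer (E₃ : Set G) ≠ ⊥ := by rw [← h02]; exact hX0nr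
  have hXnr : sigmaCore M ⊓ Subgroup.centralizer (X : Set G) ≠ ⊥ := by
    intro h
    apply hY3ne
    rw [← le_bot_iff, ← h]
    exact inf_le_inf_left _ (Subgroup.centralizer_le hXE)
  have hsf : Fact (Nat.card X).Prime := ⟨hXp⟩
  have hX1 : X ≠ ⊥ := by
    intro h
    rw [h, Subgroup.card_bot] at hXp
    exact Nat.not_prime_one hXp
  obtain ⟨H, hH, hNX⟩ := exists_max_ge_normalizer hG (isPGroup_of_card_prime hXp) hX1
  obtain ⟨hEH, hncH, h1, h2, -⟩ := l1 hG hM hE hE₃ hXE hXp hXnr hH hNX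
  have hs3 : Nat.card X ∈ tau3 M := hE₃.2.1 _ hXp (Subgroup.card_dvd_of_le hXE)
  -- `P` acts without fixed points on `E₃`
  have hE₃P : E₃ ⊓ Subgroup.centralizer (P : Set G) = ⊥ :=
    l2a hG M E E₁ E₃ hM hE hE₁ hE₃ P hPE₁ hPp hnc P hPE₁ hPp
  have hfpf : ∀ u ∈ P, u ≠ 1 → ∀ e ∈ E₃, u * e = e * u → e = 1 := by
    intro u hu hu1 e he hue
    have hmem : e ∈ E₃ ⊓ Subgroup.centralizer (P : Set G) := by
      refine ⟨he, ?_⟩
      rw [centralizer_eq_of_card_prime hPp hu hu1]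
      exact Subgroup.mem_centralizer_iff.mpr (fun h hh => by
        rw [Set.mem_singleton_iff] at hh; rw [hh]; exact hue)
    rw [hE₃P] at hmem
    exact Subgroup.mem_bot.mp hmem
  have hYnot : ¬ sigmaCore M ⊓ Subgroup.centralizer (P : Set G) ≤
      Subgroup.centralizer (E₃ : Set G) := fun h =>
    key_not_le hG hM hE hE₃ hXE hXp hPE hPp hPτ hXP (h.trans (Subgroup.centralizer_le hXE))
  -- (i) `E₁ = P`
  have hfpf1 : ∀ e ∈ E₁, e ≠ 1 → ∀ u ∈ E₃, e * u = u * e → u = 1 := by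
    intro e he he1 u hu heu
    obtain ⟨r, P', hr, hP'c, hP'E₁, hP'z, -, -⟩ := exists_prime_card_le he he1
    have hP'pr : (Nat.card P').Prime := by rw [hP'c]; exact hr
    have hbot := l2a hG M E E₁ E₃ hM hE hE₁ hE₃ P hPE₁ hPp hnc P' hP'E₁ hP'pr
    have hmem : u ∈ E₃ ⊓ Subgroup.centralizer (P' : Set G) :=
      ⟨hu, mem_centralizer_of_le_zpowers hP'z heu⟩
    rw [hbot] at hmem
    exact Subgroup.mem_bot.mp hmem
  have hE₃1 : E₃ ≠ ⊥ := fun h => hX1 (le_bot_iff.mp (h ▸ hXE))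
  have hP1 : P ≠ ⊥ := by
    intro h
    rw [h, Subgroup.card_bot] at hPp
    exact Nat.not_prime_one hPp
  have hE₁1 : E₁ ≠ ⊥ := fun h => hP1 (le_bot_iff.mp (h ▸ hPE₁))
  have h13 : ∀ q : ℕ, q.Prime → q ∣ Nat.card E → q ∈ tau1 M ∪ tau3 M := by
    intro q hq hqE
    rcases tau_trichotomy hG hU M hM hE hq hqE with h | h | h
    · exact Or.inl h
    · exact absurd h (fun h' => htau2 q h')
    · exact Or.inr h
  obtain ⟨hcard13, hcop13⟩ := card_hall13 h13 hE₁ hE₃
  have hE₃E₁ : E₃ ⊓ E₁ = ⊥ := (Subgroup.disjoint_of_coprime_natCard hcop13.symm).eq_bot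
  have hE₃P' : E₃ ⊓ P = ⊥ := le_bot_iff.mp (hE₃E₁ ▸ inf_le_inf_left _ hPE₁)
  have hW1 := wielandt_compl hG hM hE hE₃.1 hE₁.1 hE₃1 hE₁1 hE₃E₁ (hE₁.1.trans hE₃n) hfpf1
  have hW2 := wielandt_compl hG hM hE hE₃.1 hPE hE₃1 hP1 hE₃P' (hPE.trans hE₃n) hfpf
  have hCE₁ : sigmaCore M ⊓ Subgroup.centralizer (E₁ : Set G) =
      sigmaCore M ⊓ Subgroup.centralizer (P : Set G) :=
    (centralizer_eq_of_le_hall1 hG hM hE hE₁ hPE₁ hPp).symm
  have e1 : sigmaCore M ⊓ Subgroup.centralizer ((E₃ ⊔ E₁ : Subgroup G) : Set G) =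
      (sigmaCore M ⊓ Subgroup.centralizer (P : Set G)) ⊓ Subgroup.centralizer (E₃ : Set G) := by
    rw [centralizer_sup_eq, inf_comm (Subgroup.centralizer (E₃ : Set G)), ← inf_assoc, hCE₁]
  have e2 : sigmaCore M ⊓ Subgroup.centralizer ((E₃ ⊔ P : Subgroup G) : Set G) =
      (sigmaCore M ⊓ Subgroup.centralizer (P : Set G)) ⊓ Subgroup.centralizer (E₃ : Set G) := by
    rw [centralizer_sup_eq, inf_comm (Subgroup.centralizer (E₃ : Set G)), ← inf_assoc]
  rw [e1, hCE₁] at hW1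
  rw [e2, hP] at hW2
  have hlt : Nat.card ↥((sigmaCore M ⊓ Subgroup.centralizer (P : Set G)) ⊓
      Subgroup.centralizer (E₃ : Set G)) <
      Nat.card ↥(sigmaCore M ⊓ Subgroup.centralizer (P : Set G)) := by
    apply lt_of_le_of_ne (Subgroup.card_le_of_le inf_le_left)
    intro heq
    apply hYnot
    have := Subgroup.eq_of_le_of_card_ge (inf_le_left :
      (sigmaCore M ⊓ Subgroup.centralizer (P : Set G)) ⊓ Subgroup.centralizer (E₃ : Set G) ≤
        sigmaCore M ⊓ Subgroup.centralizer (P : Set G)) (le_of_eq heq.symm)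
    exact inf_eq_left.mp this
  have hpn : p ≤ Nat.card E₁ := by
    rw [← hP]
    exact Subgroup.card_le_of_le hPE₁
  have hn : Nat.card E₁ = p :=
    eq_of_wielandt_pair Nat.card_pos hlt Nat.card_pos Nat.card_pos hpn hW1 hW2
  have hE₁P : P = E₁ := Subgroup.eq_of_le_of_card_ge hPE₁ (by rw [hn, hP])
  have hcardE : Nat.card E = Nat.card E₃ * p := by rw [← hcard13, hn, mul_comm]
  have hEeq : E = E₃ ⊔ P := by
    refine (eq_of_card_mul_dvd (sup_le hE₃.1 hPE) (A := P) (B := E₃) le_sup_right le_sup_left ?_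
      ?_).symm
    · rw [hP, hcardE, mul_comm]
    · rw [hE₁P]; exact hcop13
  -- (iii)
  have hPcomm : ∀ a ∈ P, ∀ b ∈ P, a * b = b * a := fun a ha b hb =>
    comm_of_isCyclic hE₁c a (hPE₁ ha) b (hPE₁ hb)
  have hCEP : E ⊓ Subgroup.centralizer (P : Set G) = P := by
    symm
    apply Subgroup.eq_of_le_of_card_ge
    · exact le_inf hPE (fun a ha => Subgroup.mem_centralizer_iff.mpr (fun b hb => hPcomm b hb a ha))
    · have hdisj : E₃ ⊓ (E ⊓ Subgroup.centralizer (P : Set G)) = ⊥ := by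
        rw [← le_bot_iff, ← hE₃P]
        exact inf_le_inf_left _ inf_le_right
      have hcs := card_sup_of_le_normalizer (A := E ⊓ Subgroup.centralizer (P : Set G)) (K := E₃)
        (inf_le_left.trans hE₃n) hdisj
      have hdvd : Nat.card E₃ * Nat.card ↥(E ⊓ Subgroup.centralizer (P : Set G)) ∣
          Nat.card E₃ * p := by
        rw [← hcs, ← hcardE]
        exact Subgroup.card_dvd_of_le (sup_le hE₃.1 inf_le_left)
      have h3 := Nat.dvd_of_mul_dvd_mul_left Nat.card_pos hdvd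
      rw [hP]
      exact Nat.le_of_dvd hpp.pos h3
  have hCM : M ⊓ Subgroup.centralizer (P : Set G) =
      (sigmaCore M ⊓ Subgroup.centralizer (P : Set G)) ⊔ P := by
    apply le_antisymm
    · rintro m ⟨hmM, hmC⟩
      obtain ⟨a, ha, b, hb, rfl⟩ := hE.2.2.2 m hmM
      have hmC' := Subgroup.mem_centralizer_iff.mp hmC
      have hbP : ∀ y ∈ P, b * y * b⁻¹ = y := by
        intro y hy
        have hyE : y ∈ E := hPE hy
        apply conj_eq_of_mem hEMs hyE hb
        · exact conj_mem_sigmaCore_aux (hEM hyE) ((sigmaCore M).inv_mem hb)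
        · have h1 : (a * b) * y * (a * b)⁻¹ = y := by
            rw [← hmC' y hy, mul_assoc, mul_inv_cancel, mul_one]
          have h2 : b * y * b⁻¹ = a⁻¹ * ((a * b) * y * (a * b)⁻¹) * a := by group
          rw [h2, h1]
          exact E.mul_mem (E.mul_mem (E.inv_mem ha) hyE) ha
      have hbC : b ∈ Subgroup.centralizer (P : Set G) := by
        rw [Subgroup.mem_centralizer_iff]
        intro y hy
        have := hbP y hy
        calc y * b = (b * y * b⁻¹) * b := by rw [this]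
          _ = b * y := by group
      have haC : a ∈ E ⊓ Subgroup.centralizer (P : Set G) := by
        refine ⟨ha, ?_⟩
        have : a = (a * b) * b⁻¹ := by group
        rw [this]
        exact Subgroup.mul_mem _ hmC (Subgroup.inv_mem _ hbC)
      rw [hCEP] at haC
      exact Subgroup.mul_mem _ (Subgroup.mem_sup_right haC) (Subgroup.mem_sup_left ⟨hb, hbC⟩)
    · apply sup_le
      · exact inf_le_inf_right _ (sigmaCore_le M)
      · exact le_inf (hPE.trans hEM) (fun a ha => Subgroup.mem_centralizer_iff.mpr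
          (fun b hb => hPcomm b hb a ha))
  -- (iv)
  have h136 := h136_uncond hG
  have hcent : ∀ y ∈ sigmaCore M ⊓ Subgroup.centralizer (P : Set G), y ≠ 1 →
      Subgroup.centralizer ({y} : Set G) ≤ M := by
    intro y hy hy1
    obtain ⟨q, Y₁, hq, hY₁c, hY₁Y, hY₁z, -, -⟩ := exists_prime_card_le hy hy1
    have : Fact q.Prime := ⟨hq⟩
    exact (centralizer_singleton_le_of_le_zpowers hY₁z).trans
      (h136 M hM E hE p hp P hPE hP q Y₁ hY₁Y hY₁c).1.1
  have huniq : ∀ y ∈ sigmaCore M ⊓ Subgroup.centralizer (P : Set G), (orderOf y).Prime →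
      ∀ L : Subgroup G, IsCoatom L → Subgroup.centralizer ({y} : Set G) ≤ L → L = M := by
    intro y hy hyo L hL hCL
    have : Fact (orderOf y).Prime := ⟨hyo⟩
    have hy1 : y ≠ 1 := by
      rintro rfl
      rw [orderOf_one] at hyo
      exact Nat.not_prime_one hyo
    have hzc : Nat.card (Subgroup.zpowers y) = orderOf y := Nat.card_zpowers y
    have hzY : Subgroup.zpowers y ≤ sigmaCore M ⊓ Subgroup.centralizer (P : Set G) :=
      (Subgroup.zpowers_le).mpr hy
    have h6 := (h136 M hM E hE p hp P hPE hP (orderOf y) (Subgroup.zpowers y) hzY hzc).1.2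
    apply h6 L hL
    rw [centralizer_eq_of_card_prime (by rw [hzc]; exact hyo) (Subgroup.mem_zpowers y) hy1]
    exact hCL
  have hstar : ∀ y ∈ sigmaCore M ⊓ Subgroup.centralizer (P : Set G), y ≠ 1 →
      ∀ g : G, g * y * g⁻¹ ∈ M → g ∈ M := by
    intro y hy hy1 g hg
    obtain ⟨q, Y₁, hq, hY₁c, hY₁Y, hY₁z, hY₁1, hY₁p⟩ := exists_prime_card_le hy hy1
    have : Fact q.Prime := ⟨hq⟩
    have hqσ : q ∈ sigma M :=
      sigmaCore_isPi M q hq (hY₁c ▸ Subgroup.card_dvd_of_le (hY₁Y.trans inf_le_left))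
    have hY₁M : Y₁ ≤ M := hY₁Y.trans (inf_le_left.trans (sigmaCore_le M))
    have hmap : Y₁.map (MulAut.conj g).toMonoidHom ≤ M := by
      rintro _ ⟨w, hw, rfl⟩
      obtain ⟨k, rfl⟩ := Subgroup.mem_zpowers_iff.mp (hY₁z hw)
      have : (MulAut.conj g).toMonoidHom (y ^ k) = (g * y * g⁻¹) ^ k := by
        simp [MulAut.conj_apply]
      rw [this]
      exact M.zpow_mem hg k
    obtain ⟨m, hm, c, hc, rfl⟩ :=
      (Cfsg.Agent.S1404.result hG M hM q hqσ Y₁ hY₁p hY₁1 hY₁M).1 g hmap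
    exact M.mul_mem hm ((h136 M hM E hE p hp P hPE hP q Y₁ hY₁Y hY₁c).1.1 hc)
  exact ⟨X, H, Nat.card X,
    { hM := hM, hE := hE, hp := hp, hPE := hPE, hP := hP, hE₃ := hE₃, hXE := hXE, hX := rfl,
      hs := hs3, hH := hH, hNX := hNX, hphi := φ', hEH := hEH, hnc := hncH, hY₃ := h1,
      hY₃ne := by rw [h1]; exact hY3ne, hMH := inf_eq_sup_of_compl hE hEH, htau2 := htau2,
      hEeq := hEeq, hcardE := hcardE, hfpf := hfpf, hYnot := hYnot, hCM := hCM, hcent := hcent,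
      huniq := huniq, hstar := hstar }⟩

/-- **L2**: from `Phi` to `TwoSide`. -/
theorem twoSide_of_phi (hG : IsMinSimpleOddOrder G) {M E E₃ P : Subgroup G} {p : ℕ}
    (φ : Phi M E E₃ P p) : TwoSide M P := by
  obtain ⟨X, H, s, c⟩ := exists_ctx hG φ
  refine ⟨fun h => c.hYnot (by rw [h]; exact bot_le), ?_⟩
  intro g hg y hy hy1 hgy
  have hYPM : (sigmaCore M ⊓ Subgroup.centralizer (P : Set G)) ⊔ P ≤ M :=
    sup_le (inf_le_left.trans (sigmaCore_le M)) (c.hPE.trans c.hE.1)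
  have hgM : g ∈ M := c.hstar y hy hy1 g (hYPM hgy)
  have : g ∈ M ⊓ Subgroup.centralizer (P : Set G) := ⟨hgM, hg⟩
  rw [c.hCM] at this
  exact this

end Cfsg.Agent.Lib.Helper96.BG1310
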