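/-
helper96: towards S4167 (a finite group with no conjugacy class of size divisible by `4` is
solvable, given the Odd Order Theorem).
Part A: general lemmas.
-/
import Mathlib

set_option autoImplicit false

namespace Cfsg.Agent.Lib.Helper96.ClassFour

open Subgroup

universe u

/-- Every `2`-element squares to one (the Sylow `2`-subgroups have exponent at most two). -/
def ExpTwo (X : Type u) [Group X] : Prop :=
  ∀ g : X, ∀ k : ℕ, g ^ (2 ^ k) = 1 → g * g = 1

/-- No element of odd order has a conjugacy class of size divisible by four. -/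
def OddClass (X : Type u) [Group X] : Prop :=
  ∀ u : X, ∀ m : ℕ, Odd m → u ^ m = 1 → ¬ 4 ∣ (centralizer ({u} : Set X)).index

theorem comm_of_sq {Q : Type*} [Group Q] {a b : Q} (ha : a * a = 1) (hb : b * b = 1)
    (hab : (a * b) * (a * b) = 1) : a * b = b * a := by
  have h1 : a⁻¹ = a := inv_eq_of_mul_eq_one_left ha
  have h2 : b⁻¹ = b := inv_eq_of_mul_eq_one_left hb
  have h3 : (a * b)⁻¹ = a * b := inv_eq_of_mul_eq_one_left hab
  rw [← h3, mul_inv_rev, h1, h2]

/-- Bezout: if two coprime powers of `x` lie in `K` then so does `x`. -/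
theorem mem_of_coprime_pow_mem {Y : Type*} [Group Y] (K : Subgroup Y) (x : Y) (a b : ℕ)
    (hab : Nat.Coprime a b) (ha : x ^ a ∈ K) (hb : x ^ b ∈ K) : x ∈ K := by
  have h1 : ((Nat.gcd a b : ℕ) : ℤ) = a * Nat.gcdA a b + b * Nat.gcdB a b := Nat.gcd_eq_gcd_ab a b
  rw [hab.gcd_eq_one] at h1
  have h2 : x = (x ^ a) ^ (Nat.gcdA a b) * (x ^ b) ^ (Nat.gcdB a b) := by
    rw [← zpow_natCast, ← zpow_natCast, ← zpow_mul, ← zpow_mul, ← zpow_add, ← h1]
    simp
  rw [h2]
  exact K.mul_mem (K.zpow_mem ha _) (K.zpow_mem hb _)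

/-- In a normal subgroup of `2`-power index, every element killed by an odd power lies. -/
theorem mem_of_odd_pow_eq_one {Y : Type*} [Group Y] (K : Subgroup Y) [K.Normal] (j : ℕ)
    (hj : K.index = 2 ^ j) (x : Y) (m : ℕ) (hm : Odd m) (hx : x ^ m = 1) : x ∈ K := by
  refine mem_of_coprime_pow_mem K x m (2 ^ j) ?_ (by rw [hx]; exact K.one_mem) ?_
  · exact (Nat.Coprime.pow_right j (Nat.coprime_two_right.mpr hm))
  · rw [← hj]; exact K.pow_index_mem x

/-- The centralizer of an element of a subgroup, computed in that subgroup. -/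
theorem centralizer_subtype {X : Type*} [Group X] (H : Subgroup X) (u : H) :
    centralizer ({u} : Set H) = (centralizer ({(u : X)} : Set X)).subgroupOf H := by
  ext x
  rw [mem_centralizer_singleton_iff, mem_subgroupOf, mem_centralizer_singleton_iff]
  constructor
  · intro h; exact_mod_cast congrArg Subtype.val h
  · intro h; exact Subtype.ext h

theorem index_centralizer_subtype {X : Type*} [Group X] (H : Subgroup X) (u : H) :
    (centralizer ({u} : Set H)).index = (centralizer ({(u : X)} : Set X)).relIndex H := by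
  rw [centralizer_subtype]; rfl

theorem card_inf_mul_relIndex {X : Type*} [Group X] (A H : Subgroup X) :
    Nat.card ↥(A ⊓ H) * A.relIndex H = Nat.card H := by
  have h1 := Subgroup.card_mul_index (A.subgroupOf H)
  rw [← h1, relIndex]
  congr 1
  rw [← inf_subgroupOf_right]
  exact Nat.card_congr (subgroupOfEquivOfLe inf_le_right).toEquiv.symm

theorem ExpTwo.subgroup {X : Type u} [Group X] (hE : ExpTwo X) (H : Subgroup X) : ExpTwo H := by
  intro g k hg
  have h1 : (g : X) ^ (2 ^ k) = 1 := by exact_mod_cast congrArg Subtype.val hg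
  exact Subtype.ext (by simpa using hE (g : X) k h1)

/-- In a group where `2`-elements square to one, a `2`-subgroup is abelian of exponent two. -/
theorem sq_of_mem_isPGroup {X : Type u} [Group X] (hE : ExpTwo X) (T : Subgroup X)
    (hT : IsPGroup 2 T) {t : X} (ht : t ∈ T) : t * t = 1 := by
  obtain ⟨k, hk⟩ := hT ⟨t, ht⟩
  have h1 : ((⟨t, ht⟩ : T) : X) ^ (2 ^ k) = 1 := by
    rw [← SubgroupClass.coe_pow, hk]; rfl
  exact hE t k h1

theorem comm_of_mem_isPGroup {X : Type u} [Group X] (hE : ExpTwo X) (T : Subgroup X)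
    (hT : IsPGroup 2 T) {s t : X} (hs : s ∈ T) (ht : t ∈ T) : s * t = t * s :=
  comm_of_sq (sq_of_mem_isPGroup hE T hT hs) (sq_of_mem_isPGroup hE T hT ht)
    (sq_of_mem_isPGroup hE T hT (T.mul_mem hs ht))

/-- If `2 ^ k` divides `|Y|` and `b ∈ Y` is an involution then `2 ^ k` divides `|C_Y(b)|`. -/
theorem pow_dvd_card_inf_centralizer {X : Type u} [Group X] [Finite X] (hE : ExpTwo X)
    (Y : Subgroup X) (b : X) (hbY : b ∈ Y) (hb2 : b * b = 1) (k : ℕ)
    (hk : 2 ^ k ∣ Nat.card Y) : 2 ^ k ∣ Nat.card ↥(Y ⊓ centralizer ({b} : Set X)) := by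
  have : Fact (Nat.Prime 2) := ⟨Nat.prime_two⟩
  have hb' : IsPGroup 2 (zpowers (⟨b, hbY⟩ : Y)) := by
    rintro ⟨g, hg⟩
    obtain ⟨i, rfl⟩ := mem_zpowers_iff.mp hg
    refine ⟨1, Subtype.ext ?_⟩
    have h1 : (⟨b, hbY⟩ : Y) ^ 2 = 1 := by
      apply Subtype.ext; simp [pow_two, hb2]
    show ((⟨b, hbY⟩ : Y) ^ i) ^ 2 ^ 1 = 1
    rw [pow_one, ← zpow_natCast, ← zpow_mul, mul_comm, zpow_mul, zpow_natCast, h1, one_zpow]
  obtain ⟨T, hT⟩ := hb'.exists_le_sylow
  have hTk : 2 ^ k ∣ Nat.card T := T.pow_dvd_card_of_pow_dvd_card hk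
  have hcard : Nat.card ((T : Subgroup Y).map Y.subtype) = Nat.card T :=
    card_map_of_injective Y.subtype_injective
  have hTP : IsPGroup 2 ((T : Subgroup Y).map Y.subtype) :=
    T.2.map Y.subtype
  have hbT : b ∈ (T : Subgroup Y).map Y.subtype :=
    ⟨⟨b, hbY⟩, hT (mem_zpowers _), rfl⟩
  have hle : (T : Subgroup Y).map Y.subtype ≤ Y ⊓ centralizer ({b} : Set X) := by
    intro t ht
    refine ⟨map_subtype_le _ ht, ?_⟩
    show t ∈ centralizer ({b} : Set X)
    rw [mem_centralizer_singleton_iff]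
    exact comm_of_mem_isPGroup hE _ hTP ht hbT
  exact hTk.trans (hcard ▸ card_dvd_of_le hle)

/-- If the class of `u` has size not divisible by four, then `C(u)` contains half a Sylow. -/
theorem pow_pred_dvd_card_centralizer {X : Type*} [Group X] [Finite X] (n m : ℕ)
    (hcard : Nat.card X = 2 ^ n * m) (u : X)
    (h4 : ¬ 4 ∣ (centralizer ({u} : Set X)).index) :
    2 ^ (n - 1) ∣ Nat.card (centralizer ({u} : Set X)) := by
  set C := centralizer ({u} : Set X)
  have h1 : Nat.card C * C.index = 2 ^ n * m := by rw [Subgroup.card_mul_index, hcard]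
  have hC0 : Nat.card C ≠ 0 := Nat.card_pos.ne'
  have hi0 : C.index ≠ 0 := by
    intro h; rw [h, mul_zero] at h1
    exact (Nat.card_pos (α := X)).ne' (by rw [hcard]; exact h1.symm)
  have hf : (Nat.card C * C.index).factorization 2 =
      (Nat.card C).factorization 2 + C.index.factorization 2 := by
    rw [Nat.factorization_mul hC0 hi0]; rfl
  have hn : n ≤ (Nat.card C * C.index).factorization 2 := by
    rw [← Nat.prime_two.pow_dvd_iff_le_factorization (mul_ne_zero hC0 hi0), h1]
    exact dvd_mul_right _ _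
  have hi : C.index.factorization 2 ≤ 1 := by
    by_contra hcon
    push Not at hcon
    exact h4 ((Nat.prime_two.pow_dvd_iff_le_factorization hi0).2 hcon)
  rw [Nat.prime_two.pow_dvd_iff_le_factorization hC0]
  omega

end Cfsg.Agent.Lib.Helper96.ClassFour
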