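/-
helper96: towards S4167.  Part B: the orbit lemma for an odd-order automorphism of an elementary
abelian `2`-group, and the counting lemma.
-/
import Mathlib

set_option autoImplicit false

namespace Cfsg.Agent.Lib.Helper96.ClassFour

open Subgroup

/-- The partial products `q * φ q * ⋯ * φ^[j-1] q`. -/
def orbProd {Q : Type*} [Group Q] (φ : Q → Q) (q : Q) : ℕ → Q
  | 0 => 1
  | j + 1 => orbProd φ q j * φ^[j] q

/-- Let `φ` be an endomorphism of odd order `k` of a commutative group `Q`, and let `K` be a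
subgroup of index two that contains all the fixed points of `φ`.  Then every orbit of `φ`
meets `K`. -/
theorem orbit_meets {Q : Type*} [Group Q] (hQ : ∀ a b : Q, a * b = b * a) (φ : Q →* Q) (k : ℕ)
    (hk : Odd k) (hφ : ∀ q, φ^[k] q = q) (K : Subgroup Q) (hK : K.index = 2)
    (hfix : ∀ q, φ q = q → q ∈ K) (q : Q) : ∃ i, φ^[i] q ∈ K := by
  by_contra hcon
  push Not at hcon
  have hs1 : ∀ j, orbProd φ q (j + 1) = orbProd φ q j * φ^[j] q := fun j => rfl
  have hs2 : ∀ j, orbProd φ q (j + 1) = q * φ (orbProd φ q j) := by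
    intro j
    induction j with
    | zero => simp [orbProd]
    | succ j ih =>
      calc orbProd φ q (j + 1 + 1) = orbProd φ q (j + 1) * φ^[j + 1] q := hs1 _
        _ = q * φ (orbProd φ q j) * φ (φ^[j] q) := by rw [ih, Function.iterate_succ_apply']
        _ = q * φ (orbProd φ q j * φ^[j] q) := by rw [map_mul, mul_assoc]
        _ = q * φ (orbProd φ q (j + 1)) := by rw [← hs1 j]
  have hpar : ∀ j, orbProd φ q j ∈ K ↔ Even j := by
    intro j
    induction j with
    | zero => simp [orbProd, K.one_mem]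
    | succ j ih =>
      rw [hs1, mul_mem_iff_of_index_two hK, ih]
      have := hcon j
      simp [this, Nat.even_add_one]
  have hfixk : φ (orbProd φ q k) = orbProd φ q k := by
    have h1 := hs1 k
    rw [hφ q, hs2 k, hQ (orbProd φ q k) q] at h1
    exact mul_left_cancel h1
  exact (Nat.not_even_iff_odd.2 hk) ((hpar k).1 (hfix _ hfixk))

open Finset in
/-- The counting lemma. -/
theorem counting {X : Type*} [Group X] [Fintype X] [DecidableEq X] (n m : ℕ) (hm : Odd m)
    (hsq : ∀ g : X, (g ^ m) * (g ^ m) = 1)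
    (ha : ∀ u : X, u ^ m = 1 → ∃ t : X, t ≠ 1 ∧ t * t = 1 ∧ t * u = u * t)
    (hb : ∀ b : X, b ≠ 1 → b * b = 1 →
      2 ^ n * (univ.filter (fun g : X => g * b = b * g ∧ g ^ m = 1)).card ≤
        (univ.filter (fun g : X => g * b = b * g)).card)
    (H' : Finset X) (hH' : 2 * H'.card + 2 ≤ 2 ^ n)
    (hc : ∀ b : X, b ≠ 1 → b * b = 1 → ∃ g : X, g⁻¹ * b * g ∈ H') : False := by
  obtain ⟨r, hr⟩ := hm
  -- involutions: odd powers
  have hinv_pow : ∀ t : X, t * t = 1 → t ^ m = t := by
    intro t ht
    rw [hr, pow_succ, pow_mul, pow_two, ht, one_pow, one_mul]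
  have hinv_pow' : ∀ t : X, t * t = 1 → t ^ (m + 1) = 1 := by
    intro t ht
    rw [pow_succ, hinv_pow t ht, ht]
  set O : Finset X := univ.filter (fun g : X => g ^ m = 1) with hO
  set E : Finset X := univ.filter (fun g : X => ¬ g ^ m = 1) with hE
  set I : Finset X := univ.filter (fun b : X => b ≠ 1 ∧ b * b = 1) with hI
  have hOE : O.card + E.card = Fintype.card X := by
    rw [hO, hE, Finset.card_filter_add_card_filter_not, Finset.card_univ]
  -- (1) |O| ≤ |E|
  have h1 : O.card ≤ E.card := by
    let f : X → X := fun u => if h : u ^ m = 1 then (Classical.choose (ha u h)) * u else 1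
    have hf : ∀ u : X, u ^ m = 1 → ∃ t : X, t ≠ 1 ∧ t * t = 1 ∧ t * u = u * t ∧ f u = t * u := by
      intro u hu
      refine ⟨Classical.choose (ha u hu), (Classical.choose_spec (ha u hu)).1,
        (Classical.choose_spec (ha u hu)).2.1, (Classical.choose_spec (ha u hu)).2.2, ?_⟩
      simp only [f, dif_pos hu]
    have hpow : ∀ u : X, u ^ m = 1 → (f u) ^ m ≠ 1 ∧ (f u) ^ (m + 1) = u := by
      intro u hu
      obtain ⟨t, ht1, ht2, htu, hfu⟩ := hf u hu
      have hcomm : Commute t u := htu
      constructor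
      · rw [hfu, hcomm.mul_pow, hu, mul_one, hinv_pow t ht2]; exact ht1
      · rw [hfu, hcomm.mul_pow, hinv_pow' t ht2, one_mul, pow_succ, hu, one_mul]
    refine Finset.card_le_card_of_injOn f ?_ ?_
    · intro u hu
      have hu' : u ^ m = 1 := by simpa [hO] using hu
      simpa [hE] using (hpow u hu').1
    · intro u hu v hv huv
      have hu' : u ^ m = 1 := by simpa [hO] using hu
      have hv' : v ^ m = 1 := by simpa [hO] using hv
      rw [← (hpow u hu').2, ← (hpow v hv').2, huv]
  -- (2) |E| = Σ_b |E_b|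
  have h2 : E.card = ∑ b ∈ I, (E.filter (fun g => g ^ m = b)).card := by
    refine Finset.card_eq_sum_card_fiberwise ?_
    intro g hg
    have hg' : ¬ g ^ m = 1 := by simpa [hE] using hg
    simp only [hI, Finset.coe_filter, Finset.mem_univ, true_and, Set.mem_ofPred_eq]
    exact ⟨hg', hsq g⟩
  -- (3) 2^n |E_b| ≤ |C_b|
  have h3 : ∀ b ∈ I, 2 ^ n * (E.filter (fun g => g ^ m = b)).card ≤
      (univ.filter (fun g : X => g * b = b * g)).card := by
    intro b hbI
    have hb' : b ≠ 1 ∧ b * b = 1 := by simpa [hI] using hbI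
    refine le_trans (Nat.mul_le_mul_left _ ?_) (hb b hb'.1 hb'.2)
    refine Finset.card_le_card_of_injOn (fun g => b * g) ?_ ?_
    · intro g hg
      have hg' : g ^ m = b := by
        have := (Finset.mem_filter.mp hg).2
        exact this
      have hcomm : Commute g b := by
        rw [← hg']; exact (Commute.refl g).pow_right m
      have hcomm' : Commute b g := hcomm.symm
      simp only [Finset.coe_filter, Finset.mem_univ, true_and, Set.mem_ofPred_eq]
      refine ⟨?_, ?_⟩
      · rw [mul_assoc, hcomm.eq]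
      · rw [hcomm'.mul_pow, hg', hinv_pow b hb'.2, hb'.2]
    · intro g _ g' _ h
      exact mul_left_cancel h
  -- (4) Σ_b |C_b| ≤ |H'| |X|
  have h4 : ∑ b ∈ I, (univ.filter (fun g : X => g * b = b * g)).card ≤
      H'.card * Fintype.card X := by
    rw [← Finset.card_univ, ← Finset.card_product, ← Finset.card_sigma]
    let gb : X → X := fun b =>
      if h : b ≠ 1 ∧ b * b = 1 then Classical.choose (hc b h.1 h.2) else 1
    have hgb : ∀ b : X, b ≠ 1 → b * b = 1 → (gb b)⁻¹ * b * gb b ∈ H' := by
      intro b hb1 hb2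
      have : gb b = Classical.choose (hc b hb1 hb2) := by
        simp only [gb, dif_pos (show b ≠ 1 ∧ b * b = 1 from ⟨hb1, hb2⟩)]
      rw [this]
      exact Classical.choose_spec (hc b hb1 hb2)
    refine Finset.card_le_card_of_injOn
      (fun p : (_ : X) × X => ((gb p.1)⁻¹ * p.1 * gb p.1, p.2 * gb p.1)) ?_ ?_
    · rintro ⟨b, c⟩ hbc
      have hbc' := Finset.mem_sigma.mp hbc
      have hbI : b ≠ 1 ∧ b * b = 1 := by simpa [hI] using hbc'.1
      simp only [Finset.coe_product, Finset.coe_univ, Set.mem_prod, Finset.mem_coe, Set.mem_univ,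
        and_true]
      exact hgb b hbI.1 hbI.2
    · rintro ⟨b, c⟩ hbc ⟨b', c'⟩ hbc' heq
      have hbc1 := Finset.mem_sigma.mp hbc
      have hbc1' := Finset.mem_sigma.mp hbc'
      have hcb : c * b = b * c := by simpa using hbc1.2
      have hcb' : c' * b' = b' * c' := by simpa using hbc1'.2
      simp only [Prod.mk.injEq] at heq
      obtain ⟨e1, e2⟩ := heq
      have hb_eq : b = (c * gb b) * ((gb b)⁻¹ * b * gb b) * (c * gb b)⁻¹ := by
        have : (c * gb b) * ((gb b)⁻¹ * b * gb b) * (c * gb b)⁻¹ = c * b * c⁻¹ := by group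
        rw [this, hcb, mul_inv_cancel_right]
      have hb_eq' : b' = (c' * gb b') * ((gb b')⁻¹ * b' * gb b') * (c' * gb b')⁻¹ := by
        have : (c' * gb b') * ((gb b')⁻¹ * b' * gb b') * (c' * gb b')⁻¹ = c' * b' * c'⁻¹ := by
          group
        rw [this, hcb', mul_inv_cancel_right]
      have hbb : b = b' := by
        rw [hb_eq, hb_eq', e1, e2]
      subst hbb
      have hcc : c = c' := mul_right_cancel e2
      subst hcc
      rfl
  -- (5) arithmetic
  have h5 : 2 ^ n * E.card ≤ H'.card * Fintype.card X := by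
    rw [h2, Finset.mul_sum]
    exact le_trans (Finset.sum_le_sum h3) h4
  have hpos : 0 < Fintype.card X := Fintype.card_pos
  have h6 : Fintype.card X ≤ 2 * E.card := by omega
  have h7 : (2 * H'.card + 2) * Fintype.card X ≤ 2 * (H'.card * Fintype.card X) := by
    calc (2 * H'.card + 2) * Fintype.card X ≤ 2 ^ n * Fintype.card X :=
          Nat.mul_le_mul_right _ hH'
      _ ≤ 2 ^ n * (2 * E.card) := Nat.mul_le_mul_left _ h6
      _ = 2 * (2 ^ n * E.card) := by ring
      _ ≤ 2 * (H'.card * Fintype.card X) := Nat.mul_le_mul_left _ h5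
  nlinarith

end Cfsg.Agent.Lib.Helper96.ClassFour
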