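/-
helper96: towards S4167.  Part C: inheritance of the hypotheses by normal subgroups and by
centralizers of involutions; the transfer step; consequences of a normal `2`-complement in the
centralizer of an involution.
-/
import Mathlib
import Cfsg.Agent.Lib.Helper96.ClassFourA

set_option autoImplicit false

namespace Cfsg.Agent.Lib.Helper96.ClassFour

open Subgroup

universe u

/-- For a normal subgroup `N`, the size of the `N`-class divides the size of the class. -/
theorem relIndex_dvd_index_of_normal_right {X : Type*} [Group X] [Finite X] (C N : Subgroup X)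
    [N.Normal] : C.relIndex N ∣ C.index := by
  have h1 : (C ⊓ N).relIndex N * N.index = (C ⊓ N).index := relIndex_mul_index inf_le_right
  have h2 : (C ⊓ N).relIndex C * C.index = (C ⊓ N).index := relIndex_mul_index inf_le_left
  rw [inf_relIndex_right] at h1
  rw [inf_relIndex_left] at h2
  obtain ⟨e, he⟩ : N.relIndex C ∣ N.index := relIndex_dvd_index_of_normal N C
  have h0 : N.relIndex C ≠ 0 := by
    intro h
    have : (N.subgroupOf C).index ≠ 0 := Subgroup.index_ne_zero_of_finite
    exact this h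
  refine ⟨e, ?_⟩
  have h3 : N.relIndex C * C.index = N.relIndex C * (C.relIndex N * e) := by
    rw [h2, ← h1, he]; ring
  exact Nat.eq_of_mul_eq_mul_left (Nat.pos_of_ne_zero h0) h3

theorem OddClass.normal {X : Type u} [Group X] [Finite X] (hO : OddClass X) (N : Subgroup X)
    [N.Normal] : OddClass N := by
  intro u m hm hu
  rw [index_centralizer_subtype]
  have hu' : (u : X) ^ m = 1 := by
    rw [← SubgroupClass.coe_pow, hu]; rfl
  intro hdvd
  exact hO (u : X) m hm hu' (hdvd.trans (relIndex_dvd_index_of_normal_right _ N))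

/-- A normal `2`-complement of a normal subgroup of `2`-power index is a normal `2`-complement. -/
theorem step3 {X : Type u} [Group X] [Finite X] (N : Subgroup X) [hN : N.Normal] (j : ℕ)
    (hj : N.index = 2 ^ j) (K₁ : Subgroup N) [K₁.Normal] (hK₁ : Odd (Nat.card K₁)) (j₁ : ℕ)
    (hj₁ : K₁.index = 2 ^ j₁) :
    ∃ K : Subgroup X, K.Normal ∧ Odd (Nat.card K) ∧ ∃ j, K.index = 2 ^ j := by
  refine ⟨K₁.map N.subtype, ?_, ?_, j₁ + j, ?_⟩
  · constructor
    rintro x ⟨x₁, hx₁, rfl⟩ g
    have hmem : g * (x₁ : X) * g⁻¹ ∈ N := hN.conj_mem _ x₁.2 g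
    refine ⟨⟨_, hmem⟩, ?_, rfl⟩
    refine mem_of_odd_pow_eq_one K₁ j₁ hj₁ _ (Nat.card K₁) hK₁ ?_
    apply Subtype.ext
    have h2 : x₁ ^ Nat.card K₁ = 1 := by
      have h := pow_card_eq_one' (G := K₁) (x := ⟨x₁, hx₁⟩)
      have h' : (((⟨x₁, hx₁⟩ : K₁) ^ Nat.card K₁ : K₁) : N) = ((1 : K₁) : N) :=
        congrArg Subtype.val h
      rw [SubgroupClass.coe_pow] at h'
      exact h'
    have h1 : (x₁ : X) ^ Nat.card K₁ = 1 := by
      rw [← SubgroupClass.coe_pow, h2]; rfl
    rw [SubgroupClass.coe_pow]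
    show (g * (x₁ : X) * g⁻¹) ^ Nat.card K₁ = 1
    rw [conj_pow, h1, mul_one, mul_inv_cancel]
  · rw [card_map_of_injective N.subtype_injective]; exact hK₁
  · rw [index_map_subtype, hj₁, hj, pow_add]

open scoped IsMulCommutative in
/-- A central involution yields, by transfer, a proper normal subgroup of `2`-power index. -/
theorem exists_normal_of_central_involution {X : Type u} [Group X] [Finite X] (hE : ExpTwo X)
    (b : X) (hb1 : b ≠ 1) (hb2 : b * b = 1) (hbz : ∀ g : X, g * b = b * g) :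
    ∃ N : Subgroup X, N.Normal ∧ N ≠ ⊤ ∧ ∃ j, N.index = 2 ^ j := by
  have : Fact (Nat.Prime 2) := ⟨Nat.prime_two⟩
  let P : Sylow 2 X := default
  have : IsMulCommutative (P : Subgroup X) :=
    ⟨⟨fun a c => Subtype.ext (comm_of_mem_isPGroup hE P P.2 a.2 c.2)⟩⟩
  let V : X →* (P : Subgroup X) := MonoidHom.transfer (MonoidHom.id (P : Subgroup X))
  have hkey : ∀ (k : ℕ) (g₀ : X), g₀⁻¹ * b ^ k * g₀ ∈ (P : Subgroup X) →
      g₀⁻¹ * b ^ k * g₀ = b ^ k := by
    intro k g₀ _
    have hc : Commute g₀ b := hbz g₀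
    rw [mul_assoc, ((hc.pow_right k).eq).symm, inv_mul_cancel_left]
  have hV : V b = MonoidHom.id (P : Subgroup X)
      ⟨b ^ (P : Subgroup X).index, MonoidHom.transfer_eq_pow_aux b hkey⟩ :=
    MonoidHom.transfer_eq_pow (MonoidHom.id (P : Subgroup X)) b hkey
  refine ⟨V.ker, inferInstance, ?_, ?_⟩
  · intro htop
    have hbk : b ∈ V.ker := htop ▸ mem_top b
    rw [MonoidHom.mem_ker, hV] at hbk
    have h1 : b ^ (P : Subgroup X).index = 1 := by
      have := congrArg Subtype.val hbk
      simpa using this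
    have hodd : Odd (P : Subgroup X).index := by
      rw [← Nat.not_even_iff_odd, even_iff_two_dvd]; exact P.not_dvd_index
    obtain ⟨r, hr⟩ := hodd
    rw [hr, pow_succ, pow_mul, pow_two, hb2, one_pow, one_mul] at h1
    exact hb1 h1
  · rw [index_ker]
    obtain ⟨n, hn⟩ := IsPGroup.iff_card.mp P.2
    have h1 : Nat.card V.range ∣ Nat.card (P : Subgroup X) := card_subgroup_dvd_card V.range
    rw [hn] at h1
    obtain ⟨j, -, hj⟩ := (Nat.dvd_prime_pow Nat.prime_two).mp h1
    exact ⟨j, hj⟩

/-- The hypothesis on classes of odd-order elements passes to centralizers of involutions. -/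
theorem oddClass_centralizer {X : Type u} [Group X] [Finite X] (hE : ExpTwo X) (hO : OddClass X)
    (n m : ℕ) (hcard : Nat.card X = 2 ^ n * m) (hm : Odd m) (b : X) (hb2 : b * b = 1) :
    OddClass (centralizer ({b} : Set X)) := by
  intro u m' hm' hu
  rw [index_centralizer_subtype]
  have hu' : (u : X) ^ m' = 1 := by
    rw [← SubgroupClass.coe_pow, hu]; rfl
  obtain ⟨C, hC⟩ : ∃ C : Subgroup X, C = centralizer ({b} : Set X) := ⟨_, rfl⟩
  obtain ⟨A, hA⟩ : ∃ A : Subgroup X, A = centralizer ({(u : X)} : Set X) := ⟨_, rfl⟩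
  rw [← hA, ← hC]
  have h1 : 2 ^ (n - 1) ∣ Nat.card A := hA ▸
    pow_pred_dvd_card_centralizer n m hcard (u : X) (hO (u : X) m' hm' hu')
  have hbA : b ∈ A := by
    rw [hA, mem_centralizer_singleton_iff]
    exact (mem_centralizer_singleton_iff.mp u.2).symm
  have h2 : 2 ^ (n - 1) ∣ Nat.card ↥(A ⊓ C) := hC ▸
    pow_dvd_card_inf_centralizer hE A b hbA hb2 (n - 1) h1
  have h3 := card_inf_mul_relIndex A C
  intro h4
  have h5 : 2 ^ (n - 1) * 4 ∣ Nat.card C := h3 ▸ Nat.mul_dvd_mul h2 h4
  have h6 : 2 ^ (n - 1) * 4 ∣ 2 ^ n * m := hcard ▸ h5.trans (card_subgroup_dvd_card C)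
  have h7 : 2 ^ n * 2 ∣ 2 ^ (n - 1) * 4 := by
    rcases n with _ | n
    · norm_num
    · rw [Nat.add_sub_cancel, pow_succ, mul_assoc]; norm_num
  have h8 : 2 ∣ m := (Nat.mul_dvd_mul_iff_left (by positivity)).mp (h7.trans h6)
  exact (Nat.not_even_iff_odd.mpr hm) (even_iff_two_dvd.mpr h8)

theorem natCard_subgroup_eq_filter {X : Type*} [Group X] [Fintype X] (H : Subgroup X)
    (p : X → Prop) [DecidablePred p] (hp : ∀ x, x ∈ H ↔ p x) :
    Nat.card H = (Finset.univ.filter p).card := by
  classical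
  rw [Nat.card_eq_fintype_card]
  exact Fintype.card_of_subtype _ (fun x => by simp [hp])

/-- If the centralizer of the involution `b` has a normal `2`-complement `K`, then the elements
of `C(b)` killed by `m` are at most `|C(b)| / 2 ^ n` in number. -/
theorem step4 {X : Type u} [Group X] [Fintype X] [DecidableEq X] (n m : ℕ)
    (hm : Odd m) (hE : ExpTwo X) (hn : 2 ^ n ∣ Nat.card X) (b : X)
    (hb2 : b * b = 1) (K : Subgroup (centralizer ({b} : Set X))) [K.Normal]
    (hK : Odd (Nat.card K)) (j : ℕ) (hj : K.index = 2 ^ j) :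
    2 ^ n * (Finset.univ.filter (fun g : X => g * b = b * g ∧ g ^ m = 1)).card ≤
      (Finset.univ.filter (fun g : X => g * b = b * g)).card := by
  classical
  have hCcard : Nat.card (centralizer ({b} : Set X)) =
      (Finset.univ.filter (fun g : X => g * b = b * g)).card :=
    natCard_subgroup_eq_filter _ _ (fun x => mem_centralizer_singleton_iff)
  have hKcard : Nat.card K =
      (Finset.univ.filter (fun g : X => g ∈ K.map (centralizer ({b} : Set X)).subtype)).card := by
    rw [← card_map_of_injective (centralizer ({b} : Set X)).subtype_injective]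
    exact natCard_subgroup_eq_filter _ _ (fun x => Iff.rfl)
  have h2n : 2 ^ n ∣ Nat.card (centralizer ({b} : Set X)) := by
    have h1 := pow_dvd_card_inf_centralizer hE ⊤ b (mem_top b) hb2 n (by rwa [card_top])
    rwa [top_inf_eq] at h1
  have hKC : Nat.card K * 2 ^ j = Nat.card (centralizer ({b} : Set X)) := by
    rw [← hj, card_mul_index]
  have hnj : 2 ^ n ∣ 2 ^ j := by
    rw [← hKC] at h2n
    exact (Nat.Coprime.pow_left n (Nat.coprime_two_left.mpr hK)).dvd_of_dvd_mul_left h2n
  have hle : (Finset.univ.filter (fun g : X => g * b = b * g ∧ g ^ m = 1)).card ≤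
      Nat.card K := by
    rw [hKcard]
    refine Finset.card_le_card ?_
    intro g hg
    obtain ⟨hg1, hg2⟩ := (Finset.mem_filter.mp hg).2
    have hgC : g ∈ centralizer ({b} : Set X) := mem_centralizer_singleton_iff.mpr hg1
    refine Finset.mem_filter.mpr ⟨Finset.mem_univ _, ⟨g, hgC⟩, ?_, rfl⟩
    refine mem_of_odd_pow_eq_one K j hj _ m hm ?_
    exact Subtype.ext (by simpa using hg2)
  rw [← hCcard, ← hKC]
  calc 2 ^ n * (Finset.univ.filter (fun g : X => g * b = b * g ∧ g ^ m = 1)).card
      ≤ 2 ^ j * Nat.card K :=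
        Nat.mul_le_mul (Nat.le_of_dvd (by positivity) hnj) hle
    _ = Nat.card K * 2 ^ j := mul_comm _ _

end Cfsg.Agent.Lib.Helper96.ClassFour
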