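/-
helper96: towards S4167.  Part D: the half-Sylow subgroup meeting every class of involutions,
and Theorem A: if the Sylow `2`-subgroups have exponent two and no element of odd order has a
class of size divisible by four, then the group has a normal `2`-complement.
-/
import Mathlib
import Cfsg.Agent.Lib.Helper73.ConjUnion
import Cfsg.Agent.Lib.Helper96.ClassFourA
import Cfsg.Agent.Lib.Helper96.ClassFourB
import Cfsg.Agent.Lib.Helper96.ClassFourC

set_option autoImplicit false

namespace Cfsg.Agent.Lib.Helper96.ClassFour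

open Subgroup

universe u

theorem card_lt_of_ne_top {X : Type*} [Group X] [Finite X] (H : Subgroup X) (hH : H ≠ ⊤) :
    Nat.card H < Nat.card X :=
  lt_of_le_of_ne H.card_le_card_group (fun h => hH (H.eq_top_of_card_eq h))

/-- Every `2`-element has a conjugate in a given Sylow `2`-subgroup. -/
theorem exists_conj_mem_sylow {X : Type*} [Group X] [Finite X] (P : Sylow 2 X) (y : X) (k : ℕ)
    (hy : y ^ (2 ^ k) = 1) : ∃ x : X, x⁻¹ * y * x ∈ (P : Subgroup X) := by
  have : Fact (Nat.Prime 2) := ⟨Nat.prime_two⟩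
  have hZ : IsPGroup 2 (zpowers y) := by
    rintro ⟨g, hg⟩
    obtain ⟨i, rfl⟩ := mem_zpowers_iff.mp hg
    refine ⟨k, Subtype.ext ?_⟩
    show (y ^ i) ^ (2 ^ k) = 1
    rw [← zpow_natCast, ← zpow_mul, mul_comm, zpow_mul, zpow_natCast, hy, one_zpow]
  obtain ⟨Q, hQ⟩ := hZ.exists_le_sylow
  obtain ⟨x, hx⟩ := MulAction.exists_smul_eq X P Q
  refine ⟨x, ?_⟩
  have h1 : y ∈ (Q : Subgroup X) := hQ (mem_zpowers y)
  rw [← hx, Sylow.coe_subgroup_smul, Cfsg.Agent.Lib.Helper73.mem_conj_smul_iff] at h1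
  exact h1

/-- If `a` normalizes but does not centralize the Sylow `2`-subgroup `P` (of exponent two), then
there is a subgroup `H` of index two in `P` such that every element of `P` is conjugate to an
element of `H`; moreover `|P| ≥ 4`. -/
theorem exists_half {X : Type u} [Group X] [Finite X] (hE : ExpTwo X) (P : Sylow 2 X) (n : ℕ)
    (hn : Nat.card (P : Subgroup X) = 2 ^ n) (a : X) (haN : a ∈ normalizer ((P : Subgroup X) : Set X))
    (haC : a ∉ centralizer ((P : Subgroup X) : Set X)) :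
    ∃ H : Subgroup X, H ≤ P ∧ 2 * Nat.card H = 2 ^ n ∧
      (∀ p ∈ (P : Subgroup X), ∃ g : X, g⁻¹ * p * g ∈ H) ∧ 2 ≤ n := by
  have : Fact (Nat.Prime 2) := ⟨Nat.prime_two⟩
  obtain ⟨m, hm_def⟩ : ∃ m, m = (P : Subgroup X).index := ⟨_, rfl⟩
  have hm : Odd m := by
    rw [hm_def, ← Nat.not_even_iff_odd, even_iff_two_dvd]; exact P.not_dvd_index
  have hcard : Nat.card X = 2 ^ n * m := by
    rw [← hn, hm_def, mul_comm, index_mul_card]
  have hPcomm : ∀ s ∈ (P : Subgroup X), ∀ t ∈ (P : Subgroup X), s * t = t * s :=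
    fun s hs t ht => comm_of_mem_isPGroup hE P P.2 hs ht
  have hPC : (P : Subgroup X) ≤ centralizer ((P : Subgroup X) : Set X) := by
    intro s hs
    rw [mem_centralizer_iff]
    intro t ht
    exact hPcomm t ht s hs
  -- the odd-order element
  obtain ⟨a', ha'_def⟩ : ∃ a', a' = a ^ (2 ^ n) := ⟨_, rfl⟩
  have ha'N : a' ∈ normalizer ((P : Subgroup X) : Set X) := ha'_def ▸ pow_mem haN _
  have ha'm : a' ^ m = 1 := by
    rw [ha'_def, ← pow_mul, ← hcard]; exact pow_card_eq_one'
  have ha'C : a' ∉ centralizer ((P : Subgroup X) : Set X) := by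
    intro hc
    apply haC
    have h1 : a ^ m ∈ (P : Subgroup X) := by
      have hZ : IsPGroup 2 (zpowers (a ^ m)) := by
        rintro ⟨g, hg⟩
        obtain ⟨i, rfl⟩ := mem_zpowers_iff.mp hg
        refine ⟨n, Subtype.ext ?_⟩
        show ((a ^ m) ^ i) ^ (2 ^ n) = 1
        rw [← zpow_natCast, ← zpow_mul, mul_comm, zpow_mul, zpow_natCast, ← pow_mul, mul_comm m,
          ← hcard, pow_card_eq_one', one_zpow]
      have h2 := hZ.inf_normalizer_sylow P
      have h3 : a ^ m ∈ zpowers (a ^ m) ⊓ normalizer (P : Set X) :=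
        ⟨mem_zpowers _, pow_mem haN _⟩
      rw [h2] at h3
      exact h3.2
    refine mem_of_coprime_pow_mem _ a (2 ^ n) m ?_ (ha'_def ▸ hc) (hPC h1)
    exact Nat.Coprime.pow_left n (Nat.coprime_two_left.mpr hm)
  -- the automorphism of `P` induced by `a'`
  have hconj : ∀ p ∈ (P : Subgroup X), a' * p * a'⁻¹ ∈ (P : Subgroup X) :=
    fun p hp => (mem_normalizer_iff.mp ha'N p).mp hp
  let φ : (P : Subgroup X) →* (P : Subgroup X) :=
    MonoidHom.mk' (fun p => ⟨a' * p * a'⁻¹, hconj p p.2⟩)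
      (by intro x y; apply Subtype.ext; simp [mul_assoc])
  have hφ1 : ∀ p : (P : Subgroup X), ((φ p : (P : Subgroup X)) : X) = a' * p * a'⁻¹ :=
    fun p => rfl
  have hφi : ∀ (i : ℕ) (p : (P : Subgroup X)),
      ((φ^[i] p : (P : Subgroup X)) : X) = a' ^ i * p * (a' ^ i)⁻¹ := by
    intro i
    induction i with
    | zero => intro p; simp
    | succ i ih =>
      intro p
      rw [Function.iterate_succ_apply', hφ1, ih, pow_succ']
      group
  have hφm : ∀ q : (P : Subgroup X), φ^[m] q = q := by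
    intro q
    apply Subtype.ext
    rw [hφi, ha'm]; simp
  -- fixed points
  let C₀ : Subgroup (P : Subgroup X) := MonoidHom.eqLocus φ (MonoidHom.id _)
  have hC₀mem : ∀ q : (P : Subgroup X), q ∈ C₀ ↔ φ q = q := fun q => Iff.rfl
  have hC₀top : C₀ ≠ ⊤ := by
    intro htop
    apply ha'C
    rw [mem_centralizer_iff]
    intro p hp
    have h1 : φ ⟨p, hp⟩ = ⟨p, hp⟩ := (hC₀mem _).mp (htop ▸ mem_top _)
    have h2 : a' * p * a'⁻¹ = p := congrArg Subtype.val h1
    calc p * a' = (a' * p * a'⁻¹) * a' := by rw [h2]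
      _ = a' * p := by group
  obtain ⟨j, hj⟩ := IsPGroup.iff_card.mp (P.2.to_subgroup C₀)
  have hjn : j < n := by
    have h1 : Nat.card C₀ < Nat.card (P : Subgroup X) := card_lt_of_ne_top C₀ hC₀top
    rw [hj, hn] at h1
    exact (Nat.pow_lt_pow_iff_right (by norm_num)).mp h1
  have hdvd : 2 ^ (n - 1) ∣ Nat.card (P : Subgroup X) := by
    rw [hn]; exact pow_dvd_pow 2 (Nat.sub_le n 1)
  obtain ⟨K₀, hK₀card, hK₀le⟩ :=
    Sylow.exists_subgroup_card_pow_prime_le 2 hdvd C₀ hj (by omega)
  have h2n : 2 ^ n = 2 ^ (n - 1) * 2 := by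
    rw [← pow_succ]; congr 1; omega
  have hK₀idx : K₀.index = 2 := by
    have h1 := card_mul_index K₀
    rw [hK₀card, hn, h2n] at h1
    exact Nat.eq_of_mul_eq_mul_left (by positivity) h1
  have hQ : ∀ s t : (P : Subgroup X), s * t = t * s :=
    fun s t => Subtype.ext (hPcomm s s.2 t t.2)
  have hmeet : ∀ q : (P : Subgroup X), ∃ i, φ^[i] q ∈ K₀ :=
    orbit_meets hQ φ m hm hφm K₀ hK₀idx (fun q hq => hK₀le ((hC₀mem q).mpr hq))
  have hHcard : 2 * Nat.card (K₀.map (P : Subgroup X).subtype) = 2 ^ n := by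
    rw [card_map_of_injective (P : Subgroup X).subtype_injective, hK₀card, h2n, mul_comm]
  have hHconj : ∀ p ∈ (P : Subgroup X), ∃ g : X,
      g⁻¹ * p * g ∈ K₀.map (P : Subgroup X).subtype := by
    intro p hp
    obtain ⟨i, hi⟩ := hmeet ⟨p, hp⟩
    refine ⟨(a' ^ i)⁻¹, ⟨φ^[i] ⟨p, hp⟩, hi, ?_⟩⟩
    show ((φ^[i] ⟨p, hp⟩ : (P : Subgroup X)) : X) = _
    rw [hφi, inv_inv]
  refine ⟨K₀.map (P : Subgroup X).subtype, map_subtype_le _, hHcard, hHconj, ?_⟩
  -- `2 ≤ n`
  by_contra hn2
  have hn1 : n = 1 := by omega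
  have hH1 : Nat.card (K₀.map (P : Subgroup X).subtype) = 1 := by
    rw [hn1] at hHcard; omega
  have hHbot : K₀.map (P : Subgroup X).subtype = ⊥ := card_eq_one.mp hH1
  apply haC
  rw [mem_centralizer_iff]
  intro p hp
  obtain ⟨g, hg⟩ := hHconj p hp
  rw [hHbot, mem_bot] at hg
  have hp1 : p = 1 := by
    have : p = g * (g⁻¹ * p * g) * g⁻¹ := by group
    rw [this, hg]; group
  rw [hp1, one_mul, mul_one]

/-- **Theorem A.** -/
theorem thmA : ∀ (N : ℕ) (X : Type u) [Group X] [Finite X], Nat.card X = N → ExpTwo X →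
    OddClass X → ∃ K : Subgroup X, K.Normal ∧ Odd (Nat.card K) ∧ ∃ j, K.index = 2 ^ j := by
  intro N
  induction N using Nat.strong_induction_on with
  | _ N ih =>
  intro X _ _ hN hE hO
  have : Fact (Nat.Prime 2) := ⟨Nat.prime_two⟩
  obtain ⟨P⟩ : Nonempty (Sylow 2 X) := inferInstance
  obtain ⟨n, hn⟩ := IsPGroup.iff_card.mp P.2
  obtain ⟨m, hm_def⟩ : ∃ m, m = (P : Subgroup X).index := ⟨_, rfl⟩
  have hm : Odd m := by
    rw [hm_def, ← Nat.not_even_iff_odd, even_iff_two_dvd]; exact P.not_dvd_index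
  have hcard : Nat.card X = 2 ^ n * m := by
    rw [← hn, hm_def, mul_comm, index_mul_card]
  by_cases hNC : normalizer ((P : Subgroup X) : Set X) ≤ centralizer ((P : Subgroup X) : Set X)
  · -- Burnside's transfer theorem
    have hc := MonoidHom.ker_transferSylow_isComplement' P hNC
    refine ⟨(MonoidHom.transferSylow P hNC).ker, inferInstance, ?_, n, ?_⟩
    · rw [← hc.index_eq_card, ← hm_def]; exact hm
    · rw [hc.symm.index_eq_card, hn]
  · obtain ⟨a, haN, haC⟩ := SetLike.not_le_iff_exists.mp hNC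
    by_cases hA : ∃ N₁ : Subgroup X, N₁.Normal ∧ N₁ ≠ ⊤ ∧ ∃ j, N₁.index = 2 ^ j
    · obtain ⟨N₁, hN₁, hne, j, hj⟩ := hA
      have hlt : Nat.card N₁ < N := hN ▸ card_lt_of_ne_top N₁ hne
      obtain ⟨K₁, hK₁n, hK₁o, j₁, hj₁⟩ := ih _ hlt N₁ rfl (hE.subgroup N₁) (hO.normal N₁)
      exact step3 N₁ j hj K₁ hK₁o j₁ hj₁
    · exfalso
      obtain ⟨H, hHP, hHcard, hHconj, hn2⟩ := exists_half hE P n hn a haN haC
      classical
      let _ : Fintype X := Fintype.ofFinite X
      have hHf : Nat.card H = (Finset.univ.filter (fun h : X => h ∈ H)).card :=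
        natCard_subgroup_eq_filter H _ (fun x => Iff.rfl)
      refine counting n m hm ?_ ?_ ?_ ((Finset.univ.filter (fun h : X => h ∈ H)).erase 1) ?_ ?_
      · -- `(g ^ m) ^ 2 = 1`
        intro g
        refine hE (g ^ m) n ?_
        rw [← pow_mul, mul_comm, ← hcard]; exact pow_card_eq_one'
      · -- an involution commuting with a given odd-order element
        intro u hu
        have h1 := pow_pred_dvd_card_centralizer n m hcard u (hO u m hm hu)
        have h2 : 2 ∣ Nat.card (centralizer ({u} : Set X)) :=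
          (dvd_pow_self 2 (by omega)).trans h1
        obtain ⟨t, ht⟩ := exists_prime_orderOf_dvd_card' 2 h2
        refine ⟨t, ?_, ?_, mem_centralizer_singleton_iff.mp t.2⟩
        · intro h1
          have : t = 1 := Subtype.ext h1
          rw [this, orderOf_one] at ht
          norm_num at ht
        · have h3 : t ^ 2 = 1 := ht ▸ pow_orderOf_eq_one t
          have h4 : ((t ^ 2 : centralizer ({u} : Set X)) : X) = 1 := by rw [h3]; rfl
          rw [SubgroupClass.coe_pow, pow_two] at h4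
          exact h4
      · -- centralizers of involutions
        intro b hb1 hb2
        have hbnc : centralizer ({b} : Set X) ≠ ⊤ := by
          intro htop
          apply hA
          exact exists_normal_of_central_involution hE b hb1 hb2
            (fun g => mem_centralizer_singleton_iff.mp (htop ▸ mem_top g))
        have hlt : Nat.card (centralizer ({b} : Set X)) < N := hN ▸ card_lt_of_ne_top _ hbnc
        obtain ⟨K, hKn, hKo, j, hj⟩ := ih _ hlt (centralizer ({b} : Set X)) rfl
          (hE.subgroup _) (oddClass_centralizer hE hO n m hcard hm b hb2)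
        exact step4 n m hm hE (hcard ▸ dvd_mul_right _ _) b hb2 K hKo j hj
      · -- the size of `H ∖ 1`
        rw [Finset.card_erase_of_mem (by simp [H.one_mem]), ← hHf]
        have : 0 < Nat.card H := Nat.card_pos
        omega
      · -- every involution is conjugate into `H ∖ 1`
        intro b hb1 hb2
        obtain ⟨x, hx⟩ := exists_conj_mem_sylow P b 1 (by rw [pow_one, pow_two, hb2])
        obtain ⟨g, hg⟩ := hHconj _ hx
        refine ⟨x * g, ?_⟩
        have h1 : (x * g)⁻¹ * b * (x * g) = g⁻¹ * (x⁻¹ * b * x) * g := by group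
        rw [h1]
        refine Finset.mem_erase.mpr ⟨?_, Finset.mem_filter.mpr ⟨Finset.mem_univ _, hg⟩⟩
        intro h2
        apply hb1
        have : b = (x * g) * (g⁻¹ * (x⁻¹ * b * x) * g) * (x * g)⁻¹ := by group
        rw [this, h2]; group

end Cfsg.Agent.Lib.Helper96.ClassFour
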