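/-
helper96: towards S4418 (a metacyclic Sylow 2-subgroup `S` with a cyclic normal subgroup `N`
and `S/N` cyclic of order `> 2` forces solvability, given the Odd Order Theorem).
Part A: general lemmas (normal complement ⇒ solvable; inner fusion ⇒ normal complement;
cyclic groups of exponent two; quotients generated by involutions).
-/
import Mathlib
import Cfsg.Prelude.Def_FusionSystem

set_option autoImplicit false
set_option linter.style.haveILetI false

namespace Cfsg.Agent.Lib.Helper96.MetaSylTwo

open Subgroup

universe u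

/-- The Odd Order Theorem, as a hypothesis at universe level `u`. -/
def OddSolv : Prop :=
  ∀ (H : Type u) [Group H] [Finite H], Odd (Nat.card H) → Group.IsSolvable H

/-- An extension of a solvable group by a solvable group is solvable. -/
theorem isSolvable_of_normal_of_quotient {G : Type u} [Group G] (K : Subgroup G) [K.Normal]
    (h1 : Group.IsSolvable K) (h2 : Group.IsSolvable (G ⧸ K)) : Group.IsSolvable G := by
  refine Group.isSolvable_of_ker_le_range K.subtype (QuotientGroup.mk' K) ?_
  rw [QuotientGroup.ker_mk', Subgroup.range_subtype]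

theorem isSolvable_of_isPGroup {G : Type u} [Group G] [Finite G] {p : ℕ} [Fact p.Prime]
    (h : IsPGroup p G) : Group.IsSolvable G := by
  haveI := h.isNilpotent
  infer_instance

/-- A normal complement to a Sylow 2-subgroup has odd order; so, by the Odd Order Theorem, the group
is solvable. -/
theorem isSolvable_of_normal_complement {G : Type u} [Group G] [Finite G] (FT : OddSolv.{u})
    (S : Sylow 2 G) (K : Subgroup G) (hK : K.Normal) (hc : K.IsComplement' (S : Subgroup G)) :
    Group.IsSolvable G := by
  have hidx : (S : Subgroup G).index = Nat.card K := hc.index_eq_card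
  have hodd : Odd (Nat.card K) := by
    rw [← hidx, ← Nat.not_even_iff_odd, even_iff_two_dvd]
    exact S.not_dvd_index
  have hK1 : Group.IsSolvable K := FT K hodd
  have h2 : IsPGroup 2 (G ⧸ K) := by
    have h3 : Nat.card (G ⧸ K) = Nat.card (S : Subgroup G) := by
      rw [← Subgroup.index_eq_card]; exact hc.symm.index_eq_card
    obtain ⟨n, hn⟩ := IsPGroup.iff_card.mp S.isPGroup'
    exact IsPGroup.of_card (h3.trans hn)
  exact isSolvable_of_normal_of_quotient K hK1 (isSolvable_of_isPGroup h2)

/-- If the fusion system of `G` on the Sylow subgroup `S` is the inner one, then `S` has a normal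
complement (by the criterion S0079, taken as a hypothesis). -/
theorem exists_complement_of_inner {G : Type u} [Group G] (S : Subgroup G)
    (h79 : (∃ N : Subgroup G, N.Normal ∧ N.IsComplement' S) ↔
      ∀ x ∈ S, ∀ y ∈ S, (∃ g : G, g * x * g⁻¹ = y) → ∃ h ∈ S, h * x * h⁻¹ = y)
    (hin : ∀ P : Subgroup G, (Cfsg.groupFusionSystem S).Hom P = (Cfsg.innerFusionSystem S).Hom P) :
    ∃ N : Subgroup G, N.Normal ∧ N.IsComplement' S := by
  rw [h79]
  rintro x hx y hy ⟨g, rfl⟩
  have hP : zpowers x ≤ S := by rwa [zpowers_le]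
  have hmem : Cfsg.conjHom (zpowers x) g ∈ (Cfsg.groupFusionSystem S).Hom (zpowers x) := by
    refine ⟨hP, ?_, g, fun z => rfl⟩
    rintro ⟨z, hz⟩
    obtain ⟨k, rfl⟩ := mem_zpowers_iff.mp hz
    show g * x ^ k * g⁻¹ ∈ S
    rw [← conj_zpow]; exact zpow_mem hy k
  rw [hin] at hmem
  obtain ⟨-, s, hs, hsx⟩ := hmem
  exact ⟨s, hs, (hsx ⟨x, mem_zpowers x⟩).symm⟩

/-- A cyclic group of exponent dividing two has at most two elements. -/
theorem card_le_two_of_sq_eq_one {C : Type*} [Group C] [IsCyclic C] (h : ∀ x : C, x ^ 2 = 1) :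
    Nat.card C ≤ 2 := by
  obtain ⟨g, hg⟩ := IsCyclic.exists_generator (α := C)
  rw [← orderOf_eq_card_of_forall_mem_zpowers hg]
  exact Nat.le_of_dvd (by norm_num) (orderOf_dvd_of_pow_eq_one (h g))

theorem comm_of_isCyclic {C : Type*} [Group C] [IsCyclic C] (a b : C) : a * b = b * a := by
  letI := IsCyclic.commGroup (α := C)
  exact mul_comm a b

/-- If `S/N` is cyclic and `S` is generated by elements whose squares lie in `N`, then
`|S/N| ≤ 2`. -/
theorem card_quot_le_two_of_generated {S : Type*} [Group S] (N : Subgroup S) [N.Normal]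
    (hQc : IsCyclic (S ⧸ N)) (X : Set S) (hX : ∀ s : S, s ∈ Subgroup.closure X)
    (hsq : ∀ x ∈ X, x ^ 2 ∈ N) : Nat.card (S ⧸ N) ≤ 2 := by
  let T : Subgroup (S ⧸ N) :=
    { carrier := {q | q ^ 2 = 1}
      one_mem' := one_pow 2
      mul_mem' := by
        intro a b ha hb
        simp only [Set.mem_ofPred_eq] at *
        rw [(show Commute a b from comm_of_isCyclic a b).mul_pow, ha, hb, one_mul]
      inv_mem' := by
        intro a ha
        simp only [Set.mem_ofPred_eq] at *
        rw [inv_pow, ha, inv_one] }
  have hle : Subgroup.closure X ≤ T.comap (QuotientGroup.mk' N) := by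
    rw [Subgroup.closure_le]
    intro x hx
    show ((x : S ⧸ N)) ^ 2 = 1
    rw [← QuotientGroup.mk_pow]
    exact (QuotientGroup.eq_one_iff _).mpr (hsq x hx)
  refine card_le_two_of_sq_eq_one ?_
  intro q
  obtain ⟨s, rfl⟩ := QuotientGroup.mk_surjective q
  exact hle (hX s)

end Cfsg.Agent.Lib.Helper96.MetaSylTwo
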