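/-
helper96: towards S4167.  Part E: Theorem B: a finite group with no conjugacy class of size
divisible by four is solvable (given the Odd Order Theorem as a hypothesis).
-/
import Mathlib
import Cfsg.Agent.Lib.Helper73.ConjUnion
import Cfsg.Agent.Lib.Helper96.MetaSylTwoA
import Cfsg.Agent.Lib.Helper96.ClassFourA
import Cfsg.Agent.Lib.Helper96.ClassFourD

set_option autoImplicit false

namespace Cfsg.Agent.Lib.Helper96.ClassFour

open Subgroup Cfsg.Agent.Lib.Helper96.MetaSylTwo

universe u

/-- The hypothesis on class sizes passes to quotients. -/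
theorem classFour_quotient {G : Type*} [Group G] [Finite G] (Z : Subgroup G) [Z.Normal]
    (h : ∀ x : G, ¬ 4 ∣ (centralizer ({x} : Set G)).index) :
    ∀ q : G ⧸ Z, ¬ 4 ∣ (centralizer ({q} : Set (G ⧸ Z))).index := by
  intro q
  obtain ⟨x, rfl⟩ := QuotientGroup.mk_surjective q
  intro hdvd
  apply h x
  have hle : (centralizer ({x} : Set G)).map (QuotientGroup.mk' Z) ≤
      centralizer ({(x : G ⧸ Z)} : Set (G ⧸ Z)) := by
    rintro _ ⟨y, hy, rfl⟩
    have hy' : y ∈ centralizer ({x} : Set G) := hy
    rw [mem_centralizer_singleton_iff] at hy' ⊢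
    show ((y : G ⧸ Z)) * (x : G ⧸ Z) = (x : G ⧸ Z) * (y : G ⧸ Z)
    rw [← QuotientGroup.mk_mul, ← QuotientGroup.mk_mul, hy']
  exact (hdvd.trans (index_dvd_of_le hle)).trans
    (index_map_dvd _ (QuotientGroup.mk'_surjective Z))

/-- Every element centralizes the squares of some Sylow `2`-subgroup. -/
theorem exists_conj_commute_squares {G : Type u} [Group G] [Finite G] (P : Sylow 2 G)
    (x : G) (h4 : ¬ 4 ∣ (centralizer ({x} : Set G)).index) :
    ∃ g : G, ∀ p ∈ (P : Subgroup G), (g * (p * p) * g⁻¹) * x = x * (g * (p * p) * g⁻¹) := by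
  have : Fact (Nat.Prime 2) := ⟨Nat.prime_two⟩
  obtain ⟨n, hn⟩ := IsPGroup.iff_card.mp P.2
  obtain ⟨m, hm_def⟩ : ∃ m, m = (P : Subgroup G).index := ⟨_, rfl⟩
  have hcard : Nat.card G = 2 ^ n * m := by
    rw [← hn, hm_def, mul_comm, index_mul_card]
  have h1 := pow_pred_dvd_card_centralizer n m hcard x h4
  obtain ⟨T₀⟩ : Nonempty (Sylow 2 (centralizer ({x} : Set G))) := inferInstance
  have hT₀ : 2 ^ (n - 1) ∣ Nat.card T₀ := T₀.pow_dvd_card_of_pow_dvd_card h1
  obtain ⟨T, hT_def⟩ : ∃ T : Subgroup G,
      T = (T₀ : Subgroup (centralizer ({x} : Set G))).map (centralizer ({x} : Set G)).subtype :=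
    ⟨_, rfl⟩
  have hTcard : Nat.card T = Nat.card T₀ := by
    rw [hT_def]; exact card_map_of_injective (centralizer ({x} : Set G)).subtype_injective
  have hTP : IsPGroup 2 T := by rw [hT_def]; exact T₀.2.map _
  have hTC : T ≤ centralizer ({x} : Set G) := by rw [hT_def]; exact map_subtype_le _
  obtain ⟨Q, hQ⟩ := hTP.exists_le_sylow
  obtain ⟨g, hg⟩ := MulAction.exists_smul_eq G P Q
  have hQcard : Nat.card (Q : Subgroup G) = 2 ^ n := by
    rw [Sylow.card_eq_multiplicity, ← hn, Sylow.card_eq_multiplicity]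
  -- `T` has index at most two in `Q`
  have hrel : T.relIndex Q ∣ 2 := by
    have h2 := card_inf_mul_relIndex T Q
    rw [inf_eq_left.mpr hQ, hQcard, hTcard] at h2
    obtain ⟨c, hc⟩ := hT₀
    rw [hc] at h2
    rcases n with _ | n
    · simp only [pow_zero] at h2
      have : T.relIndex Q = 1 := Nat.eq_one_of_mul_eq_one_left h2
      rw [this]; norm_num
    · rw [Nat.add_sub_cancel, pow_succ, mul_assoc] at h2
      have h3 : c * T.relIndex Q = 2 := Nat.eq_of_mul_eq_mul_left (by positivity) h2
      exact Dvd.intro_left c h3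
  have hsq : ∀ q ∈ (Q : Subgroup G), q * q ∈ T := by
    intro q hq
    rcases (Nat.dvd_prime Nat.prime_two).mp hrel with h1 | h2
    · exact (relIndex_eq_one.mp h1) ((Q : Subgroup G).mul_mem hq hq)
    · have := mul_self_mem_of_index_two (H := T.subgroupOf Q) h2 ⟨q, hq⟩
      exact mem_subgroupOf.mp this
  refine ⟨g, fun p hp => ?_⟩
  have hq : g * p * g⁻¹ ∈ (Q : Subgroup G) := by
    rw [← hg, Sylow.coe_subgroup_smul, Cfsg.Agent.Lib.Helper73.mem_conj_smul_iff]
    have : g⁻¹ * (g * p * g⁻¹) * g = p := by group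
    rw [this]; exact hp
  have h5 : g * (p * p) * g⁻¹ = (g * p * g⁻¹) * (g * p * g⁻¹) := by group
  rw [h5]
  exact mem_centralizer_singleton_iff.mp (hTC (hsq _ hq))

/-- **Theorem B.** -/
theorem thmB (FT : OddSolv.{u}) : ∀ (N : ℕ) (G : Type u) [Group G] [Finite G], Nat.card G = N →
    (∀ x : G, ¬ 4 ∣ (centralizer ({x} : Set G)).index) → Group.IsSolvable G := by
  intro N
  induction N using Nat.strong_induction_on with
  | _ N ih =>
  intro G _ _ hN h
  have : Fact (Nat.Prime 2) := ⟨Nat.prime_two⟩
  by_cases hZ : center G = ⊥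
  · -- trivial centre: the Sylow `2`-subgroups have exponent two
    obtain ⟨P⟩ : Nonempty (Sylow 2 G) := inferInstance
    have hsq : ∀ p ∈ (P : Subgroup G), p * p = 1 := by
      intro p hp
      have hD : centralizer ({p * p} : Set G) = ⊤ := by
        by_contra hD
        obtain ⟨x, hx⟩ := Cfsg.Agent.Lib.Helper73.exists_not_mem_conj_of_ne_top _ hD
        obtain ⟨g, hg⟩ := exists_conj_commute_squares P x (h x)
        apply hx g
        rw [Cfsg.Agent.Lib.Helper73.mem_conj_smul_iff, mem_centralizer_singleton_iff]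
        have h1 := hg p hp
        calc g⁻¹ * x * g * (p * p) = g⁻¹ * (x * (g * (p * p) * g⁻¹)) * g := by group
          _ = g⁻¹ * ((g * (p * p) * g⁻¹) * x) * g := by rw [h1]
          _ = p * p * (g⁻¹ * x * g) := by group
      have hc : p * p ∈ center G := by
        rw [mem_center_iff]
        intro g
        exact mem_centralizer_singleton_iff.mp (hD ▸ mem_top g)
      rw [hZ, mem_bot] at hc
      exact hc
    have hE : ExpTwo G := by
      intro y k hy
      obtain ⟨x, hx⟩ := exists_conj_mem_sylow P y k hy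
      have h1 := hsq _ hx
      have h2 : y * y = x * ((x⁻¹ * y * x) * (x⁻¹ * y * x)) * x⁻¹ := by group
      rw [h2, h1]; group
    have hO : OddClass G := fun u _ _ _ => h u
    obtain ⟨K, hKn, hKo, j, hj⟩ := thmA N G hN hE hO
    have hK1 : Group.IsSolvable K := FT K hKo
    have h2 : IsPGroup 2 (G ⧸ K) := by
      refine IsPGroup.of_card (n := j) ?_
      rw [← index_eq_card, hj]
    exact isSolvable_of_normal_of_quotient K hK1 (isSolvable_of_isPGroup h2)
  · -- nontrivial centre: pass to the quotient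
    have hlt : Nat.card (G ⧸ center G) < N := by
      rw [← hN, ← index_eq_card]
      have h1 := index_mul_card (center G)
      have h2 : 1 < Nat.card (center G) := (center G).one_lt_card_iff_ne_bot.mpr hZ
      have h3 : 0 < (center G).index := Nat.pos_of_ne_zero index_ne_zero_of_finite
      nlinarith
    have hq : Group.IsSolvable (G ⧸ center G) :=
      ih _ hlt (G ⧸ center G) rfl (classFour_quotient (center G) h)
    have hc : Group.IsSolvable (center G) :=
      Group.isSolvable_of_comm (fun a b => Subtype.ext ((mem_center_iff.mp b.2 a)))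
    exact isSolvable_of_normal_of_quotient (center G) hc hq

end Cfsg.Agent.Lib.Helper96.ClassFour
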