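/-
helper96: the abstract "sheaf theorem" behind the balance condition of the `k`-balanced signalizer
functor (solvable case).

Setting: `A` an elementary abelian `p`-subgroup of the finite group `G`, `Z ≤ A`, `𝓕` an upward closed
family of subgroups of `A` such that any two "hyperplanes" of `A` over `Z` meet in a member of `𝓕`;
`X` a solvable `p'`-subgroup normalized by `A` and centralized by `Z`; `Δ B ≤ C_X(B)` (`B ∈ 𝓕`)
`A`-invariant subgroups, antitone in `B`, with `C_{Δ B}(B') ≤ Δ B'` for `B ≤ B'`, generating `X`.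
Then `C_X(B) = Δ B` for every `B ∈ 𝓕`.

Proof: induction on `|X|` through the derived subgroup `X₁ = [X, X]`: `X₁` is generated by the
`X₁ ∩ Δ H` (`H` hyperplanes), so the induction hypothesis applies to `X₁`; then `X` is a product of
normal subgroups `X₁ Δ H₁ ⋯ Δ Hₛ` and fixed points of products factor (S0030).
-/
import Mathlib
import Cfsg.Agent.S0030
import Cfsg.Agent.Lib.Helper54.Hyperplane

set_option autoImplicit false

namespace Cfsg.Agent.Lib.Helper96.KBal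

open Subgroup
open scoped commutatorElement

variable {G : Type*} [Group G]

/-- The normalizer of `X` normalizes `[X, X]`. -/
theorem normalizer_le_normalizer_commutator (X : Subgroup G) :
    normalizer (X : Set G) ≤ normalizer ((⁅X, X⁆ : Subgroup G) : Set G) := by
  intro g hg
  rw [mem_normalizer_iff_map_conj_eq] at hg ⊢
  rw [map_commutator, hg]

/-- A nontrivial solvable subgroup properly contains its derived subgroup. -/
theorem commutator_lt_of_isSolvable {X : Subgroup G} (hs : Group.IsSolvable X) (hX : X ≠ ⊥) :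
    ⁅X, X⁆ < X := by
  have := hs
  have : Nontrivial X := (Subgroup.nontrivial_iff_ne_bot X).mpr hX
  have h := Group.IsSolvable.commutator_lt_top_of_nontrivial X
  rw [← Subgroup.map_subtype_commutator]
  have h2 : (_root_.commutator X).map X.subtype < (⊤ : Subgroup X).map X.subtype :=
    (Subgroup.map_subtype_lt_map_subtype).mpr h
  rwa [← MonoidHom.range_eq_map, Subgroup.range_subtype] at h2

/-- An element centralizing `B` and `Z` centralizes `B ⊔ Z`. -/
theorem mem_centralizer_sup {y : G} {B Z : Subgroup G}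
    (hB : y ∈ centralizer (B : Set G)) (hZ : y ∈ centralizer (Z : Set G)) :
    y ∈ centralizer ((B ⊔ Z : Subgroup G) : Set G) := by
  have h1 : B ⊔ Z ≤ centralizer ({y} : Set G) := by
    apply sup_le
    · intro b hb
      rw [mem_centralizer_singleton_iff]
      exact mem_centralizer_iff.mp hB b hb
    · intro z hz
      rw [mem_centralizer_singleton_iff]
      exact mem_centralizer_iff.mp hZ z hz
  rw [mem_centralizer_iff]
  intro g hg
  have := h1 hg
  rw [mem_centralizer_singleton_iff] at this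
  exact this

/-- The "hyperplanes" of `A` over `Z`: subgroups of `A` containing `Z` of index at most `p`. -/
def Hyp (p : ℕ) (A Z : Subgroup G) : Set (Subgroup G) :=
  {H | H ≤ A ∧ Z ≤ H ∧ Nat.card A ≤ p * Nat.card H}

/-- The fixed part of the configuration. -/
structure Frame (p : ℕ) (A Z : Subgroup G) (𝓕 : Set (Subgroup G)) : Prop where
  comm : ∀ x ∈ A, ∀ y ∈ A, x * y = y * x
  exp : ∀ x ∈ A, x ^ p = 1
  ZA : Z ≤ A
  F_le : ∀ B ∈ 𝓕, B ≤ A
  F_up : ∀ B ∈ 𝓕, ∀ B' : Subgroup G, B ≤ B' → B' ≤ A → B' ∈ 𝓕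
  F_hyp : ∀ H H' : Subgroup G, H ∈ Hyp p A Z → H' ∈ Hyp p A Z → H ⊓ H' ∈ 𝓕

/-- The varying part of the configuration: the group `X` and the sheaf `Δ`. -/
structure Data (p : ℕ) (A Z : Subgroup G) (𝓕 : Set (Subgroup G)) (Δ : Subgroup G → Subgroup G)
    (X : Subgroup G) : Prop where
  AX : A ≤ normalizer (X : Set G)
  ZX : X ≤ centralizer (Z : Set G)
  cop : ¬ p ∣ Nat.card X
  solv : Group.IsSolvable X
  D_le : ∀ B ∈ 𝓕, Δ B ≤ X
  D_cent : ∀ B ∈ 𝓕, Δ B ≤ centralizer (B : Set G)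
  D_inv : ∀ B ∈ 𝓕, A ≤ normalizer ((Δ B : Subgroup G) : Set G)
  D_anti : ∀ B ∈ 𝓕, ∀ B' ∈ 𝓕, B ≤ B' → Δ B' ≤ Δ B
  D_sheaf : ∀ B ∈ 𝓕, ∀ B' ∈ 𝓕, B ≤ B' → Δ B ⊓ centralizer (B' : Set G) ≤ Δ B'
  D_gen : X ≤ ⨆ B : 𝓕, Δ (B : Subgroup G)

section

variable [Finite G] {p : ℕ} [hp : Fact p.Prime] {A Z : Subgroup G} {𝓕 : Set (Subgroup G)}

theorem hyp_mem (hF : Frame p A Z 𝓕) {H : Subgroup G} (hH : H ∈ Hyp p A Z) : H ∈ 𝓕 := by
  have := hF.F_hyp H H hH hH
  rwa [inf_idem] at this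

theorem coprime_card (hF : Frame p A Z 𝓕) {B K : Subgroup G} (hBA : B ≤ A)
    (hK : ¬ p ∣ Nat.card K) : (Nat.card B).Coprime (Nat.card K) := by
  have hB : IsPGroup p B := by
    intro g
    exact ⟨1, Subtype.ext (by simpa using hF.exp g (hBA g.2))⟩
  obtain ⟨n, hn⟩ := IsPGroup.iff_card.mp hB
  rw [hn]
  exact Nat.Coprime.pow_left n ((Nat.Prime.coprime_iff_not_dvd hp.out).mpr hK)

theorem isSolvable_of_le_A (hF : Frame p A Z 𝓕) {B : Subgroup G} (hBA : B ≤ A) :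
    Group.IsSolvable B := by
  apply Group.isSolvable_of_comm
  intro a b
  exact Subtype.ext (hF.comm a (hBA a.2) b (hBA b.2))

/-- Hyperplane generation: an `A`-invariant `p'`-group centralized by `Z` lies in `D` as soon as the
centralizers of the hyperplanes over `Z` do. -/
theorem gen_le (hF : Frame p A Z 𝓕) {Y D : Subgroup G} (hZY : Y ≤ centralizer (Z : Set G))
    (hcop : ¬ p ∣ Nat.card Y) (hAY : A ≤ normalizer (Y : Set G))
    (h : ∀ H ∈ Hyp p A Z, Y ⊓ centralizer (H : Set G) ≤ D) : Y ≤ D := by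
  by_contra hYD
  obtain ⟨B, hBA, hBc, hBD⟩ :=
    Cfsg.Agent.Lib.Helper54.exists_hyperplane_centralizer A Y D hF.comm hF.exp hcop hAY hYD
  apply hBD
  have hH : B ⊔ Z ∈ Hyp p A Z :=
    ⟨sup_le hBA hF.ZA, le_sup_right,
      hBc.trans (Nat.mul_le_mul_left p (Subgroup.card_le_of_le le_sup_left))⟩
  intro y hy
  exact h _ hH ⟨hy.1, mem_centralizer_sup hy.2 (hZY hy.1)⟩

variable {Δ : Subgroup G → Subgroup G} {X : Subgroup G}

theorem le_iSup_hyp (hF : Frame p A Z 𝓕) (hD : Data p A Z 𝓕 Δ X) {B : Subgroup G} (hB : B ∈ 𝓕)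
    {Y : Subgroup G} (hY : Y ≤ Δ B) (hAY : A ≤ normalizer (Y : Set G)) :
    Y ≤ ⨆ H : Hyp p A Z, Y ⊓ Δ (H : Subgroup G) := by
  have hYX : Y ≤ X := hY.trans (hD.D_le B hB)
  apply gen_le hF (hYX.trans hD.ZX)
    (fun h => hD.cop (h.trans (Subgroup.card_dvd_of_le hYX))) hAY
  intro H hH y hy
  have hHF := hyp_mem hF hH
  have hBH : B ⊔ H ∈ 𝓕 := hF.F_up B hB _ le_sup_left (sup_le (hF.F_le B hB) hH.1)
  have h1 : y ∈ Δ (B ⊔ H) :=
    hD.D_sheaf B hB _ hBH le_sup_left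
      ⟨hY hy.1, mem_centralizer_sup (hD.D_cent B hB (hY hy.1)) hy.2⟩
  have h2 : y ∈ Δ H := hD.D_anti H hHF _ hBH le_sup_right h1
  exact (le_iSup (fun H : Hyp p A Z => Y ⊓ Δ (H : Subgroup G)) ⟨H, hH⟩) ⟨hy.1, h2⟩

theorem X_le (hF : Frame p A Z 𝓕) (hD : Data p A Z 𝓕 Δ X) :
    X ≤ ⨆ H : Hyp p A Z, Δ (H : Subgroup G) := by
  refine hD.D_gen.trans (iSup_le fun B => ?_)
  refine (le_iSup_hyp hF hD B.2 le_rfl (hD.D_inv B B.2)).trans (iSup_mono fun H => inf_le_right)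

/-- The sheaf theorem, in the form suitable for induction on `|X|`. -/
theorem sheaf_aux (hF : Frame p A Z 𝓕) :
    ∀ (n : ℕ) (X : Subgroup G) (Δ : Subgroup G → Subgroup G), Nat.card X = n →
      Data p A Z 𝓕 Δ X → ∀ B ∈ 𝓕, X ⊓ centralizer (B : Set G) ≤ Δ B := by
  intro n
  induction n using Nat.strong_induction_on with
  | _ n ih =>
    intro X Δ hn hD B hB
    by_cases hX : X = ⊥
    · rw [hX]; exact inf_le_left.trans bot_le
    have hX₁lt : ⁅X, X⁆ < X := commutator_lt_of_isSolvable hD.solv hX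
    have hX₁le : ⁅X, X⁆ ≤ X := hX₁lt.le
    have hXnX₁ : X ≤ normalizer ((⁅X, X⁆ : Subgroup G) : Set G) :=
      le_normalizer.trans (normalizer_le_normalizer_commutator X)
    have hAX₁ : A ≤ normalizer ((⁅X, X⁆ : Subgroup G) : Set G) :=
      hD.AX.trans (normalizer_le_normalizer_commutator X)
    -- `Y₁`
    set Y₁ : Subgroup G := ⨆ H : Hyp p A Z, ⁅X, X⁆ ⊓ Δ (H : Subgroup G) with hY₁
    have ha : ∀ F ∈ 𝓕, ⁅X, X⁆ ⊓ Δ F ≤ Y₁ := by
      intro F hF'
      have h1 := le_iSup_hyp hF hD hF' (Y := ⁅X, X⁆ ⊓ Δ F) inf_le_right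
        (Cfsg.Agent.Lib.Helper54.le_normalizer_inf hAX₁ (hD.D_inv F hF'))
      exact h1.trans (iSup_mono fun H => inf_le_inf_right _ inf_le_left)
    have hΔX : ∀ H ∈ Hyp p A Z, Δ H ≤ X := fun H hH => hD.D_le H (hyp_mem hF hH)
    -- `Δ H` normalizes `Y₁`
    have hb : ∀ H ∈ Hyp p A Z, Δ H ≤ normalizer (Y₁ : Set G) := by
      intro H hH
      rw [le_normalizer_iff]
      intro g hg y hy
      refine Subgroup.iSup_induction (C := fun y => g * y * g⁻¹ ∈ Y₁) _ hy ?_ ?_ ?_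
      · intro H'' y hy
        have hF2 : H ⊓ (H'' : Subgroup G) ∈ 𝓕 := hF.F_hyp H H'' hH H''.2
        apply ha _ hF2
        have hy12 := Subgroup.mem_inf.mp hy
        refine Subgroup.mem_inf.mpr ⟨le_normalizer_iff.mp hXnX₁ g (hΔX H hH hg) y hy12.1, ?_⟩
        have hg' : g ∈ Δ (H ⊓ (H'' : Subgroup G)) :=
          hD.D_anti _ hF2 H (hyp_mem hF hH) inf_le_left hg
        have hy' : y ∈ Δ (H ⊓ (H'' : Subgroup G)) :=
          hD.D_anti _ hF2 H'' (hyp_mem hF H''.2) inf_le_right hy12.2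
        exact Subgroup.mul_mem _ (Subgroup.mul_mem _ hg' hy') (Subgroup.inv_mem _ hg')
      · simp
      · intro x y hx hy
        have : g * (x * y) * g⁻¹ = (g * x * g⁻¹) * (g * y * g⁻¹) := by group
        rw [this]; exact mul_mem hx hy
    have hXsup := X_le hF hD
    -- commutators of generators
    have hd : ∀ H ∈ Hyp p A Z, ∀ H' ∈ Hyp p A Z, ∀ g ∈ Δ H, ∀ g' ∈ Δ H', ⁅g, g'⁆ ∈ Y₁ := by
      intro H hH H' hH' g hg g' hg'
      have hF2 : H ⊓ H' ∈ 𝓕 := hF.F_hyp H H' hH hH'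
      apply ha _ hF2
      refine Subgroup.mem_inf.mpr ⟨commutator_mem_commutator (hΔX H hH hg) (hΔX H' hH' hg'), ?_⟩
      have h1 : g ∈ Δ (H ⊓ H') := hD.D_anti _ hF2 H (hyp_mem hF hH) inf_le_left hg
      have h2 : g' ∈ Δ (H ⊓ H') := hD.D_anti _ hF2 H' (hyp_mem hF hH') inf_le_right hg'
      rw [commutatorElement_def]
      exact Subgroup.mul_mem _ (Subgroup.mul_mem _ (Subgroup.mul_mem _ h1 h2) (Subgroup.inv_mem _ h1))
        (Subgroup.inv_mem _ h2)
    have hd1 : ∀ H' ∈ Hyp p A Z, ∀ g' ∈ Δ H', ∀ g ∈ X, g ∈ normalizer (Y₁ : Set G) ∧ ⁅g, g'⁆ ∈ Y₁ := by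
      intro H' hH' g' hg' g hg
      refine Subgroup.iSup_induction
        (C := fun g => g ∈ normalizer (Y₁ : Set G) ∧ ⁅g, g'⁆ ∈ Y₁) _ (hXsup hg) ?_ ?_ ?_
      · intro H g hg
        exact ⟨hb H H.2 hg, hd H H.2 H' hH' g hg g' hg'⟩
      · exact ⟨one_mem _, by simp⟩
      · intro x y hx hy
        refine ⟨mul_mem hx.1 hy.1, ?_⟩
        have : ⁅x * y, g'⁆ = x * ⁅y, g'⁆ * x⁻¹ * ⁅x, g'⁆ := by
          simp only [commutatorElement_def]; group
        rw [this]
        exact mul_mem ((mem_normalizer_iff.mp hx.1 _).mp hy.2) hx.2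
    have hd2 : ∀ g ∈ X, ∀ g' ∈ X, ⁅g, g'⁆ ∈ Y₁ := by
      intro g hg g' hg'
      have key : g' ∈ normalizer (Y₁ : Set G) ∧ ⁅g, g'⁆ ∈ Y₁ := by
        refine Subgroup.iSup_induction
          (C := fun g' => g' ∈ normalizer (Y₁ : Set G) ∧ ⁅g, g'⁆ ∈ Y₁) _ (hXsup hg') ?_ ?_ ?_
        · intro H' g' hg'
          exact ⟨hb H' H'.2 hg', (hd1 H' H'.2 g' hg' g hg).2⟩
        · exact ⟨one_mem _, by simp⟩
        · intro x y hx hy
          refine ⟨mul_mem hx.1 hy.1, ?_⟩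
          have : ⁅g, x * y⁆ = ⁅g, x⁆ * (x * ⁅g, y⁆ * x⁻¹) := by
            simp only [commutatorElement_def]; group
          rw [this]
          exact mul_mem hx.2 ((mem_normalizer_iff.mp hx.1 _).mp hy.2)
      exact key.2
    have hX₁Y₁ : ⁅X, X⁆ ≤ Y₁ := commutator_le.mpr hd2
    -- induction hypothesis for `X₁`
    have hD₁ : Data p A Z 𝓕 (fun B => Δ B ⊓ ⁅X, X⁆) ⁅X, X⁆ :=
      { AX := hAX₁
        ZX := hX₁le.trans hD.ZX
        cop := fun h => hD.cop (h.trans (Subgroup.card_dvd_of_le hX₁le))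
        solv := Cfsg.Agent.Lib.Helper54.isSolvable_of_le hX₁le hD.solv
        D_le := fun B _ => inf_le_right
        D_cent := fun B hB => inf_le_left.trans (hD.D_cent B hB)
        D_inv := fun B hB => Cfsg.Agent.Lib.Helper54.le_normalizer_inf (hD.D_inv B hB) hAX₁
        D_anti := fun B hB B' hB' h => inf_le_inf_right _ (hD.D_anti B hB B' hB' h)
        D_sheaf := fun B hB B' hB' h y hy =>
          ⟨hD.D_sheaf B hB B' hB' h ⟨hy.1.1, hy.2⟩, hy.1.2⟩
        D_gen := by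
          refine hX₁Y₁.trans (iSup_le fun H => ?_)
          refine le_trans ?_
            (le_iSup (fun B : 𝓕 => Δ (B : Subgroup G) ⊓ ⁅X, X⁆) ⟨H.1, hyp_mem hF H.2⟩)
          rw [inf_comm] }
    have hcardlt : Nat.card (⁅X, X⁆ : Subgroup G) < n := by
      rw [← hn]
      exact Cfsg.Agent.Lib.Helper48.card_lt_card_of_lt' hX₁lt
    have ih₁ := ih _ hcardlt ⁅X, X⁆ _ rfl hD₁
    -- `X` normalizes every subgroup between `X₁` and `X`
    have hnorm : ∀ P : Subgroup G, ⁅X, X⁆ ≤ P → P ≤ X → X ≤ normalizer (P : Set G) := by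
      intro P hP1 hP2
      rw [le_normalizer_iff]
      intro g hg x hx
      have h1 : ⁅g, x⁆ ∈ P := hP1 (commutator_mem_commutator hg (hP2 hx))
      have h2 : g * x * g⁻¹ = ⁅g, x⁆ * x := by rw [commutatorElement_def]; group
      rw [h2]; exact mul_mem h1 hx
    have hBA := hF.F_le B hB
    -- a maximal good subgroup
    let 𝒬 : Set (Subgroup G) :=
      {P | ⁅X, X⁆ ≤ P ∧ P ≤ X ∧ A ≤ normalizer (P : Set G) ∧ P ⊓ centralizer (B : Set G) ≤ Δ B}
    have h𝒬 : 𝒬.Nonempty := ⟨⁅X, X⁆, le_rfl, hX₁le, hAX₁, (ih₁ B hB).trans inf_le_left⟩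
    obtain ⟨P, ⟨hP1, hP2, hP3, hP4⟩, hPmax⟩ := Set.Finite.exists_maximal (Set.toFinite 𝒬) h𝒬
    have hPall : ∀ H ∈ Hyp p A Z, Δ H ≤ P := by
      intro H hH
      have hHF := hyp_mem hF hH
      have hK : P ⊔ Δ H ∈ 𝒬 := by
        refine ⟨hP1.trans le_sup_left, sup_le hP2 (hD.D_le H hHF), ?_, ?_⟩
        · exact (le_inf hP3 (hD.D_inv H hHF)).trans
            (normalizer_inf_normalizer_le_normalizer_sup P (Δ H))
        · intro k hk
          have hKX : P ⊔ Δ H ≤ X := sup_le hP2 (hD.D_le H hHF)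
          have hdec : ∀ k ∈ P ⊔ Δ H, ∃ x ∈ P, ∃ y ∈ Δ H, k = x * y := by
            intro k hk
            have h1 : (k : G) ∈ ((P ⊔ Δ H : Subgroup G) : Set G) := hk
            rw [coe_mul_of_right_le_normalizer_left P (Δ H)
              ((hD.D_le H hHF).trans (hnorm P hP1 hP2))] at h1
            obtain ⟨x, hx, y, hy, rfl⟩ := h1
            exact ⟨x, hx, y, hy, rfl⟩
          have hBK : B ≤ normalizer ((P ⊔ Δ H : Subgroup G) : Set G) :=
            (le_inf (hBA.trans hP3) (hBA.trans (hD.D_inv H hHF))).trans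
              (normalizer_inf_normalizer_le_normalizer_sup P (Δ H))
          have hcop : (Nat.card B).Coprime (Nat.card (P ⊔ Δ H : Subgroup G)) :=
            coprime_card hF hBA (fun h => hD.cop (h.trans (Subgroup.card_dvd_of_le hKX)))
          obtain ⟨x, hx, y, hy, rfl⟩ := Cfsg.Agent.S0030.result B (P ⊔ Δ H) hBK hcop
            (Or.inl (isSolvable_of_le_A hF hBA)) P (Δ H) le_sup_left le_sup_right
            (hBA.trans hP3) (hBA.trans (hD.D_inv H hHF)) hdec k hk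
          refine mul_mem (hP4 hx) ?_
          have hBH : H ⊔ B ∈ 𝓕 := hF.F_up H hHF _ le_sup_left (sup_le hH.1 hBA)
          have h1 : y ∈ Δ (H ⊔ B) :=
            hD.D_sheaf H hHF _ hBH le_sup_left
              ⟨hy.1, mem_centralizer_sup (hD.D_cent H hHF hy.1) hy.2⟩
          exact hD.D_anti B hB _ hBH le_sup_right h1
      exact le_sup_right.trans (hPmax hK le_sup_left)
    have hXP : X ≤ P := hXsup.trans (iSup_le fun H => hPall H H.2)
    exact (inf_le_inf_right _ hXP).trans hP4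

/-- **Sheaf theorem.** -/
theorem sheaf (hF : Frame p A Z 𝓕) (hD : Data p A Z 𝓕 Δ X) {B : Subgroup G} (hB : B ∈ 𝓕) :
    X ⊓ centralizer (B : Set G) ≤ Δ B :=
  sheaf_aux hF _ X Δ rfl hD B hB

end

end Cfsg.Agent.Lib.Helper96.KBal
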