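/-
helper96: the `k`-balanced functor `a ↦ ⟨Δ_G(D) ∩ C_G(a) : D ≤ A, |D| = p^k⟩` is an `A`-signalizer
functor when the `O_{p'}(C_G(a))` are solvable (application of the sheaf theorem of `KBalSheafA`).
-/
import Mathlib
import Cfsg.Prelude.Def_Local
import Cfsg.Prelude.Def_EvenTechniques
import Cfsg.Agent.Lib.Helper31.Balance
import Cfsg.Agent.Lib.Helper96.KBalSheafA

set_option autoImplicit false

namespace Cfsg.Agent.Lib.Helper96.KBal

open Cfsg Subgroup Cfsg.Agent.Lib.Helper31

variable {G : Type*} [Group G]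

/-- The `k`-balanced functor in the form of statement S1299. -/
def thetaK (p k : ℕ) (A : Subgroup G) (a : G) : Subgroup G :=
  ⨆ D : {D : Subgroup G // D ≤ A ∧ Nat.card ↥D = p ^ k},
    signalizerDelta p (D : Subgroup G) ⊓ Subgroup.centralizer {a}

theorem comm_of_ea {p : ℕ} {A : Subgroup G} (hA : IsElementaryAbelian p A) {a b : G}
    (ha : a ∈ A) (hb : b ∈ A) : a * b = b * a := by
  have := hA.1
  have h := mul_comm' (⟨a, ha⟩ : A) ⟨b, hb⟩
  simpa using congrArg Subtype.val h

theorem centralizer_singleton_le_zpowers (a : G) :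
    centralizer ({a} : Set G) ≤ centralizer ((zpowers a : Subgroup G) : Set G) := by
  intro y hy
  rw [mem_centralizer_singleton_iff] at hy
  rw [mem_centralizer_iff]
  intro z hz
  obtain ⟨n, rfl⟩ := mem_zpowers_iff.mp hz
  have hc : Commute a y := hy.symm
  exact (hc.zpow_left n).eq

theorem le_centralizer_singleton_of_mem {a : G} {B : Subgroup G} (ha : a ∈ B) :
    centralizer (B : Set G) ≤ centralizer ({a} : Set G) := by
  intro y hy
  rw [mem_centralizer_singleton_iff]
  exact (mem_centralizer_iff.mp hy a ha).symm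

section

variable [Finite G] {p k : ℕ} [hp : Fact p.Prime]

theorem exists_le_card_pow {B : Subgroup G} (hB : IsPGroup p B) (hBk : p ^ k ≤ Nat.card B) :
    ∃ D ≤ B, Nat.card D = p ^ k := by
  obtain ⟨m, hm⟩ := IsPGroup.iff_card.mp hB
  have hkm : k ≤ m := by
    rw [hm] at hBk
    exact (Nat.pow_le_pow_iff_right hp.out.one_lt).mp hBk
  have hdvd : p ^ k ∣ Nat.card B := by rw [hm]; exact pow_dvd_pow p hkm
  obtain ⟨K, hK⟩ := Sylow.exists_subgroup_card_pow_prime p hdvd
  refine ⟨K.map B.subtype, Subgroup.map_subtype_le K, ?_⟩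
  rw [Subgroup.card_map_of_injective B.subtype_injective, hK]

/-- Global `k`-balance implies `k`-balance with respect to every elementary abelian subgroup. -/
theorem kBalancedWrt_of_kBalanced (hbal : IsKBalanced p k G) {A : Subgroup G}
    (hA : IsElementaryAbelian p A) : IsKBalancedWrt p k A := by
  intro B hBA hB hBk a ha ha1
  obtain ⟨D, hDB, hDk⟩ := exists_le_card_pow (isPGroup_of_elementaryAbelian hB) hBk
  have hD : IsElementaryAbelian p D := elementaryAbelian_of_le hB hDB
  have ho : orderOf a = p := orderOf_eq_prime (hA.2 a ha) ha1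
  have h := hbal D hD hDk a ho (fun d hd => comm_of_ea hA (hBA (hDB hd)) ha)
  exact (inf_le_inf_right _ (signalizerDelta_anti hDB)).trans h

variable {A : Subgroup G}

theorem A_le_normalizer_delta (hA : IsElementaryAbelian p A) {B : Subgroup G} (hBA : B ≤ A) :
    A ≤ normalizer ((signalizerDelta p B : Subgroup G) : Set G) := by
  rw [le_normalizer_iff]
  intro f hf y hy
  exact conj_mem_signalizerDelta (fun x hx => comm_of_ea hA hf (hBA hx)) hy

theorem A_le_normalizer_centralizer (hA : IsElementaryAbelian p A) {b : G} (hb : b ∈ A) :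
    A ≤ normalizer ((centralizer ({b} : Set G) : Subgroup G) : Set G) := by
  refine le_trans ?_ le_normalizer
  intro f hf
  rw [mem_centralizer_singleton_iff]
  exact comm_of_ea hA hf hb

theorem A_le_normalizer_thetaK (hA : IsElementaryAbelian p A) {a : G} (ha : a ∈ A) :
    A ≤ normalizer ((thetaK p k A a : Subgroup G) : Set G) := by
  unfold thetaK
  refine le_trans (le_iInf fun D => ?_) (iInf_normalizer_le_normalizer_iSup _)
  exact Cfsg.Agent.Lib.Helper54.le_normalizer_inf (A_le_normalizer_delta hA D.2.1)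
    (A_le_normalizer_centralizer hA ha)

theorem thetaK_le_centralizer (a : G) : thetaK p k A a ≤ centralizer ({a} : Set G) :=
  iSup_le fun _ => inf_le_right

theorem ea_of_le_card {D : Subgroup G} (hA : IsElementaryAbelian p A) (hDA : D ≤ A) :
    IsElementaryAbelian p D := elementaryAbelian_of_le hA hDA

theorem thetaK_le_core (hA : IsElementaryAbelian p A) (hbal : IsKBalancedWrt p k A) {a : G}
    (ha : a ∈ A) (ha1 : a ≠ 1) : thetaK p k A a ≤ centralizerPPrimeCore p a := by
  refine iSup_le fun D => ?_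
  exact hbal D D.2.1 (elementaryAbelian_of_le hA D.2.1) D.2.2.ge a ha ha1

theorem card_thetaK (hA : IsElementaryAbelian p A) (hbal : IsKBalancedWrt p k A) {a : G}
    (ha : a ∈ A) (ha1 : a ≠ 1) : ¬ p ∣ Nat.card (thetaK p k A a) := by
  intro h
  have h1 := h.trans (Subgroup.card_dvd_of_le (thetaK_le_core hA hbal ha ha1))
  have h2 := card_centralizerPPrimeCore_coprime p a
  exact (Nat.Prime.coprime_iff_not_dvd hp.out).mp h2.symm h1

/-- `Δ(B) ≤ θ(a)` for `a ∈ B ≤ A`, `|B| ≥ p^k`. -/
theorem delta_le_thetaK (hA : IsElementaryAbelian p A) {a : G} {B : Subgroup G} (hBA : B ≤ A)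
    (haB : a ∈ B) (hBk : p ^ k ≤ Nat.card B) : signalizerDelta p B ≤ thetaK p k A a := by
  obtain ⟨D, hDB, hDk⟩ :=
    exists_le_card_pow (isPGroup_of_elementaryAbelian (elementaryAbelian_of_le hA hBA)) hBk
  refine le_trans ?_ (le_iSup (fun D : {D : Subgroup G // D ≤ A ∧ Nat.card ↥D = p ^ k} =>
    signalizerDelta p (D : Subgroup G) ⊓ Subgroup.centralizer {a}) ⟨D, hDB.trans hBA, hDk⟩)
  exact le_inf (signalizerDelta_anti hDB)
    ((signalizerDelta_le_centralizer p B).trans (le_centralizer_singleton_of_mem haB))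

/-- The family of subgroups of `A` through `a` of order at least `p^k`. -/
def famK (p k : ℕ) (A : Subgroup G) (a : G) : Set (Subgroup G) :=
  {B | B ≤ A ∧ a ∈ B ∧ p ^ k ≤ Nat.card B}

theorem relIndex_le_of_card_le {H : Subgroup G} (hHA : H ≤ A)
    (hc : Nat.card A ≤ p * Nat.card H) : H.relIndex A ≤ p := by
  have h1 := Cfsg.Agent.Lib.Helper54.card_mul_relIndex hHA
  rw [← h1, mul_comm p] at hc
  exact Nat.le_of_mul_le_mul_left hc Nat.card_pos

theorem card_le_inf (hA : IsElementaryAbelian p A) {H H' : Subgroup G} (hHA : H ≤ A)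
    (hH'A : H' ≤ A) (hc : Nat.card A ≤ p * Nat.card H) (hc' : Nat.card A ≤ p * Nat.card H') :
    Nat.card A ≤ p ^ 2 * Nat.card (H ⊓ H' : Subgroup G) := by
  have hpos : 0 < p := hp.out.pos
  -- `[H' : H ⊓ H'] = [H' ⊔ H : H] ∣ [A : H] ≤ p`
  have hn : H' ≤ normalizer (H : Set G) := by
    rw [le_normalizer_iff]
    intro h' hh' h hh
    have : h' * h * h'⁻¹ = h := by
      rw [comm_of_ea hA (hH'A hh') (hHA hh)]; group
    rw [this]; exact hh
  have h1 : H.relIndex (H' ⊔ H) = H.relIndex H' :=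
    Cfsg.Agent.Lib.Helper54.relIndex_sup_of_le_normalizer hn
  have h2 : H.relIndex (H' ⊔ H) * (H' ⊔ H).relIndex A = H.relIndex A :=
    Subgroup.relIndex_mul_relIndex H (H' ⊔ H) A le_sup_right (sup_le hH'A hHA)
  have h3 : H.relIndex A ≤ p := relIndex_le_of_card_le hHA hc
  have h4 : H.relIndex H' ≤ p := by
    rw [← h1]
    have hpos2 : 0 < H.relIndex A := by
      have := Cfsg.Agent.Lib.Helper54.card_mul_relIndex hHA
      rcases Nat.eq_zero_or_pos (H.relIndex A) with h0 | h0
      · rw [h0, mul_zero] at this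
        exact absurd this.symm (Nat.card_pos).ne'
      · exact h0
    exact (Nat.le_of_dvd hpos2 (Dvd.intro _ h2)).trans h3
  have h5 : Nat.card (H ⊓ H' : Subgroup G) * (H ⊓ H').relIndex H' = Nat.card H' :=
    Cfsg.Agent.Lib.Helper54.card_mul_relIndex inf_le_right
  rw [Subgroup.inf_relIndex_right] at h5
  have h6 : Nat.card H' ≤ Nat.card (H ⊓ H' : Subgroup G) * p := by
    rw [← h5]; exact Nat.mul_le_mul_left _ h4
  calc Nat.card A ≤ p * Nat.card H' := hc'
    _ ≤ p * (Nat.card (H ⊓ H' : Subgroup G) * p) := Nat.mul_le_mul_left _ h6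
    _ = p ^ 2 * Nat.card (H ⊓ H' : Subgroup G) := by ring

theorem frame (hA : IsElementaryAbelian p A) (hAk : p ^ (k + 2) ≤ Nat.card A) {a : G}
    (ha : a ∈ A) : Frame p A (zpowers a) (famK p k A a) where
  comm := fun x hx y hy => comm_of_ea hA hx hy
  exp := hA.2
  ZA := (zpowers_le).mpr ha
  F_le := fun B hB => hB.1
  F_up := fun B hB B' hBB' hB'A => ⟨hB'A, hBB' hB.2.1, hB.2.2.trans (Subgroup.card_le_of_le hBB')⟩
  F_hyp := by
    intro H H' hH hH'
    refine ⟨inf_le_left.trans hH.1, ⟨hH.2.1 (mem_zpowers a), hH'.2.1 (mem_zpowers a)⟩, ?_⟩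
    have h1 := card_le_inf hA hH.1 hH'.1 hH.2.2 hH'.2.2
    have h2 : p ^ 2 * p ^ k ≤ p ^ 2 * Nat.card (H ⊓ H' : Subgroup G) := by
      calc p ^ 2 * p ^ k = p ^ (k + 2) := by ring
        _ ≤ Nat.card A := hAk
        _ ≤ _ := h1
    exact Nat.le_of_mul_le_mul_left h2 (pow_pos hp.out.pos 2)

theorem data (hk : 1 ≤ k) (hA : IsElementaryAbelian p A) (hbal : IsKBalancedWrt p k A) {a : G}
    (ha : a ∈ A) (ha1 : a ≠ 1) (hsolv : Group.IsSolvable ↥(centralizerPPrimeCore p a)) :
    Data p A (zpowers a) (famK p k A a) (signalizerDelta p) (thetaK p k A a) where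
  AX := A_le_normalizer_thetaK hA ha
  ZX := (thetaK_le_centralizer a).trans (centralizer_singleton_le_zpowers a)
  cop := card_thetaK hA hbal ha ha1
  solv := Cfsg.Agent.Lib.Helper54.isSolvable_of_le (thetaK_le_core hA hbal ha ha1) hsolv
  D_le := fun B hB => delta_le_thetaK hA hB.1 hB.2.1 hB.2.2
  D_cent := fun B _ => signalizerDelta_le_centralizer p B
  D_inv := fun B hB => A_le_normalizer_delta hA hB.1
  D_anti := fun B _ B' _ h => signalizerDelta_anti h
  D_sheaf := fun B hB B' hB' _ =>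
    signalizerDelta_inf_centralizer_le hbal hB.1 (elementaryAbelian_of_le hA hB.1) hB.2.2 hB'.1
  D_gen := by
    refine iSup_le fun D => ?_
    have hDa : (D : Subgroup G) ⊔ zpowers a ∈ famK p k A a :=
      ⟨sup_le D.2.1 ((zpowers_le).mpr ha), mem_sup_right (mem_zpowers a),
        D.2.2.ge.trans (Subgroup.card_le_of_le le_sup_left)⟩
    refine le_trans ?_ (le_iSup (fun B : famK p k A a => signalizerDelta p (B : Subgroup G))
      ⟨_, hDa⟩)
    intro y hy
    have hy12 := Subgroup.mem_inf.mp hy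
    apply signalizerDelta_inf_centralizer_le hbal D.2.1 (elementaryAbelian_of_le hA D.2.1)
      D.2.2.ge hDa.1
    exact Subgroup.mem_inf.mpr ⟨hy12.1, mem_centralizer_sup
      (signalizerDelta_le_centralizer p _ hy12.1) (centralizer_singleton_le_zpowers a hy12.2)⟩

/-- `C_{θ(a)}(B) ≤ Δ(B)` for `a ∈ B ≤ A`, `|B| ≥ p^k`. -/
theorem thetaK_inf_centralizer_le (hk : 1 ≤ k) (hA : IsElementaryAbelian p A)
    (hAk : p ^ (k + 2) ≤ Nat.card A) (hbal : IsKBalancedWrt p k A) {a : G}
    (ha : a ∈ A) (ha1 : a ≠ 1) (hsolv : Group.IsSolvable ↥(centralizerPPrimeCore p a))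
    {B : Subgroup G} (hBA : B ≤ A) (haB : a ∈ B) (hBk : p ^ k ≤ Nat.card B) :
    thetaK p k A a ⊓ centralizer (B : Set G) ≤ signalizerDelta p B :=
  sheaf (frame hA hAk ha) (data hk hA hbal ha ha1 hsolv) (B := B) ⟨hBA, haB, hBk⟩

/-- **The `k`-balanced functor is a signalizer functor** (solvable case, balance with respect to
`A`). -/
theorem isSignalizerFunctor_thetaK (hk : 1 ≤ k) (hA : IsElementaryAbelian p A)
    (hAk : p ^ (k + 2) ≤ Nat.card A) (hbal : IsKBalancedWrt p k A)
    (hsolv : ∀ a ∈ A, a ≠ 1 → Group.IsSolvable ↥(centralizerPPrimeCore p a)) :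
    IsSignalizerFunctor p A (thetaK p k A) := by
  refine ⟨fun a _ _ => thetaK_le_centralizer a, fun a ha ha1 => card_thetaK hA hbal ha ha1, ?_, ?_⟩
  · intro a ha _ b hb x hx
    exact le_normalizer_iff.mp (A_le_normalizer_thetaK hA ha) b hb x hx
  · intro a ha ha1 b hb hb1
    have hcomm := fun x hx y hy => comm_of_ea (G := G) hA (a := x) (b := y) hx hy
    set Y : Subgroup G := thetaK p k A a ⊓ centralizer ({b} : Set G) with hY
    have hYn : A ≤ normalizer (Y : Set G) :=
      Cfsg.Agent.Lib.Helper54.le_normalizer_inf (A_le_normalizer_thetaK hA ha)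
        (A_le_normalizer_centralizer hA hb)
    have hYc : ¬ p ∣ Nat.card Y := fun h =>
      card_thetaK hA hbal ha ha1 (h.trans (Subgroup.card_dvd_of_le inf_le_left))
    by_contra hnot
    obtain ⟨B₀, hB₀A, hcard, hB₀⟩ :=
      Cfsg.Agent.Lib.Helper54.exists_hyperplane_centralizer A Y (thetaK p k A b) hcomm hA.2 hYc
        hYn hnot
    apply hB₀
    intro y hy
    have hy12 := Subgroup.mem_inf.mp hy
    have hyY := Subgroup.mem_inf.mp hy12.1
    -- the subgroup `B = B₀ ⟨a⟩ ⟨b⟩`
    have hBA : B₀ ⊔ zpowers a ⊔ zpowers b ≤ A :=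
      sup_le (sup_le hB₀A ((zpowers_le).mpr ha)) ((zpowers_le).mpr hb)
    have hBk : p ^ k ≤ Nat.card (B₀ ⊔ zpowers a ⊔ zpowers b : Subgroup G) := by
      have h1 : p * p ^ (k + 1) ≤ p * Nat.card B₀ := by
        calc p * p ^ (k + 1) = p ^ (k + 2) := by ring
          _ ≤ Nat.card A := hAk
          _ ≤ _ := hcard
      have h2 : p ^ (k + 1) ≤ Nat.card B₀ := Nat.le_of_mul_le_mul_left h1 hp.out.pos
      have h3 : p ^ k ≤ p ^ (k + 1) := Nat.pow_le_pow_right hp.out.pos (Nat.le_succ k)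
      exact (h3.trans h2).trans (Subgroup.card_le_of_le (le_sup_left.trans le_sup_left))
    have hyB : y ∈ centralizer ((B₀ ⊔ zpowers a ⊔ zpowers b : Subgroup G) : Set G) :=
      mem_centralizer_sup (mem_centralizer_sup hy12.2
        (centralizer_singleton_le_zpowers a (thetaK_le_centralizer a hyY.1)))
        (centralizer_singleton_le_zpowers b hyY.2)
    have h1 : y ∈ signalizerDelta p (B₀ ⊔ zpowers a ⊔ zpowers b) :=
      thetaK_inf_centralizer_le hk hA hAk hbal ha ha1 (hsolv a ha ha1) hBA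
        (mem_sup_left (mem_sup_right (mem_zpowers a))) hBk (Subgroup.mem_inf.mpr ⟨hyY.1, hyB⟩)
    exact delta_le_thetaK hA hBA (mem_sup_right (mem_zpowers b)) hBk h1

end

end Cfsg.Agent.Lib.Helper96.KBal
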