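/-
helper96: sheet KSL, module [IDX] in `_of` form (hypothesis = Skel statement of [CENT]).
-/
import Cfsg.Agent.Lib.Helper99.KSL.Defs
import Cfsg.Agent.Lib.Helper96.KslCycIdx

set_option autoImplicit false

universe u

namespace Cfsg.Agent.Lib.Helper99.KSL

open Polynomial Finset DirectSum
open Cfsg.Agent.Lib.Helper99.GLClass

variable {F : Type u} [Field F]
variable {n : ℕ}

/-- [IDX] the index of `det C_GL(a)` from the invariant tuple, from [CENT]. -/
theorem isInv_index_le_of [Fintype F]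
    (hCENT : ∀ (a : Matrix.GeneralLinearGroup (Fin n) F)
      {ι : Type u} [Fintype ι] [DecidableEq ι] (p : ι → F[X]) (e : ι → ℕ)
      (_hp : ∀ i, Irreducible (p i))
      (_eq : matMod (a : Matrix (Fin n) (Fin n) F) ≃ₗ[F[X]] ⨁ i, F[X] ⧸ (F[X] ∙ p i ^ e i))
      (i : ι) (c : Fˣ),
      ∃ h ∈ Subgroup.centralizer {a}, Matrix.GeneralLinearGroup.det h = c ^ e i)
    {a : Matrix.GeneralLinearGroup (Fin n) F} {H : Fin n → F[X]}
    (h : IsInv a H) :
    ((Subgroup.centralizer {a}).map Matrix.GeneralLinearGroup.det).index ≤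
      tg (Fintype.card F) H := by
  classical
  obtain ⟨ι, hι, hdec, p, e, hp, ⟨eq⟩, hH⟩ := h
  set D : Subgroup Fˣ := (Subgroup.centralizer {a}).map Matrix.GeneralLinearGroup.det with hD
  set S : Finset ℕ :=
    (univ.filter (fun j : Fin n => (H j).natDegree ≠ 0)).image (fun j : Fin n => (j : ℕ) + 1) with hS
  have hpow : ∀ m ∈ S, ∀ c : Fˣ, c ^ m ∈ D := by
    intro m hm c
    rw [hS, Finset.mem_image] at hm
    obtain ⟨j, hj, rfl⟩ := hm
    rw [Finset.mem_filter] at hj
    have hne : (Finset.univ.filter (fun i => e i = (j : ℕ) + 1)).Nonempty := by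
      rw [Finset.nonempty_iff_ne_empty]
      intro hempty
      apply hj.2
      rw [hH j, hempty, Finset.prod_empty, natDegree_one]
    obtain ⟨i, hi⟩ := hne
    rw [Finset.mem_filter] at hi
    obtain ⟨g, hg, hdet⟩ := hCENT a p e hp eq i c
    rw [hD, Subgroup.mem_map]
    refine ⟨g, hg, ?_⟩
    rw [hdet, hi.2]
  have h1 := index_le_gcd_of_pow_mem D S hpow
  have hcard : Nat.card Fˣ = Fintype.card F - 1 := by
    rw [Nat.card_eq_fintype_card, Fintype.card_units]
  have hgcd : S.gcd id = dgcd (fun j => (H j).natDegree) := by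
    rw [hS, Finset.gcd_image]
    rfl
  rw [hcard, hgcd] at h1
  exact h1

end Cfsg.Agent.Lib.Helper99.KSL
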