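/-
helper96: sheet KSL, module [K-LE] in `_of` form (hypotheses = Skel statements of [DETT], [IDX],
[COUNT-D]).
-/
import Cfsg.Agent.Lib.Helper99.KSL.Defs
import Cfsg.Agent.Lib.Helper54.KslSlgl

set_option autoImplicit false

universe u

namespace Cfsg.Agent.Lib.Helper99.KSL

open Polynomial Finset DirectSum
open Cfsg.Agent.Lib.Helper99.GLClass

variable {F : Type u} [Field F] [Fintype F]

open Classical in
/-- [K-LE] the master inequality, from [DETT], [IDX], [COUNT-D]. -/
theorem card_SL_mul_le_of (n : ℕ) (_hn : 1 ≤ n)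
    (hDETT : ∀ {a : Matrix.GeneralLinearGroup (Fin n) F} {H : Fin n → F[X]},
      IsInv a H → ((Matrix.GeneralLinearGroup.det a : Fˣ) : F) = tdet H)
    (hIDX : ∀ {a : Matrix.GeneralLinearGroup (Fin n) F} {H : Fin n → F[X]},
      IsInv a H → ((Subgroup.centralizer {a}).map Matrix.GeneralLinearGroup.det).index ≤
        tg (Fintype.card F) H)
    (hCOUNT : ∀ d : Fin n → ℕ,
      (Fintype.card F - 1) * ((Td F d).filter (fun H => tdet H = 1)).card ≤
        gd (Fintype.card F) d * w (Fintype.card F) d) :
    (Fintype.card F - 1) * Nat.card (ConjClasses (Matrix.SpecialLinearGroup (Fin n) F)) ≤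
      ∑ d ∈ degSeq n, w (Fintype.card F) d * gd (Fintype.card F) d ^ 2 := by
  set q := Fintype.card F with hq
  let φ : ConjClasses (Matrix.GeneralLinearGroup (Fin n) F) → (Fin n → F[X]) :=
    fun c => (exists_isInv (Quotient.out c)).choose
  have hφ : ∀ c, IsInv (Quotient.out c) (φ c) :=
    fun c => (exists_isInv (Quotient.out c)).choose_spec
  have hinj : Function.Injective φ := by
    intro c c' h
    have h1 := hφ c
    have h2 := hφ c'
    rw [← h] at h2
    have h3 := IsInv.isConj h1 h2
    rw [← ConjClasses.mk_eq_mk_iff_isConj] at h3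
    have e1 : ConjClasses.mk (Quotient.out c) = c := Quotient.out_eq c
    have e2 : ConjClasses.mk (Quotient.out c') = c' := Quotient.out_eq c'
    rw [← e1, ← e2, h3]
  let S : (Fin n → ℕ) → Finset (Fin n → F[X]) :=
    fun d => (Td F d).filter (fun H => tdet H = 1)
  let s : Finset (Fin n → F[X]) := (degSeq n).biUnion S
  have hdeg : ∀ d, ∀ H ∈ S d, (fun j => (H j).natDegree) = d := by
    intro d H hH
    rw [Finset.mem_filter] at hH
    have h0 := hH.1
    unfold Td at h0
    rw [Fintype.mem_piFinset] at h0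
    funext j
    exact ((mem_Pset _ _).1 (h0 j)).2.1
  have h1 := card_conjClasses_SL_le n s (tg q) φ hinj (by
    intro C hC
    have hI := hφ C
    refine ⟨?_, hIDX hI⟩
    rw [Finset.mem_biUnion]
    refine ⟨fun j => (φ C j).natDegree, ?_, ?_⟩
    · unfold degSeq
      rw [Finset.mem_filter, Fintype.mem_piFinset]
      refine ⟨fun j => ?_, hI.good.2⟩
      rw [Finset.mem_range]
      have hsum := hI.good.2
      have hle : ((j : ℕ) + 1) * (φ C j).natDegree ≤ n := by
        calc ((j : ℕ) + 1) * (φ C j).natDegree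
            ≤ ∑ j : Fin n, ((j : ℕ) + 1) * (φ C j).natDegree :=
              Finset.single_le_sum (f := fun j : Fin n => ((j : ℕ) + 1) * (φ C j).natDegree)
                (fun _ _ => Nat.zero_le _) (Finset.mem_univ j)
          _ = n := hsum
      have h' : (φ C j).natDegree ≤ ((j : ℕ) + 1) * (φ C j).natDegree :=
        Nat.le_mul_of_pos_left _ (Nat.succ_pos _)
      omega
    · rw [Finset.mem_filter]
      refine ⟨?_, ?_⟩
      · unfold Td
        rw [Fintype.mem_piFinset]
        intro j
        rw [mem_Pset]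
        exact ⟨(hI.good.1 j).1, rfl, (hI.good.1 j).2⟩
      · rw [← hDETT hI, hC]
        simp)
  have h2 : ∑ H ∈ s, tg q H = ∑ d ∈ degSeq n, gd q d * (S d).card := by
    rw [Finset.sum_biUnion]
    · apply Finset.sum_congr rfl
      intro d _
      have : ∀ H ∈ S d, tg q H = gd q d := by
        intro H hH
        unfold tg
        rw [hdeg d H hH]
      rw [Finset.sum_congr rfl this, Finset.sum_const, smul_eq_mul, mul_comm]
    · intro d _ d' _ hne
      rw [Function.onFun, Finset.disjoint_left]
      intro H hH hH'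
      exact hne ((hdeg d H hH).symm.trans (hdeg d' H hH'))
  calc (q - 1) * Nat.card (ConjClasses (Matrix.SpecialLinearGroup (Fin n) F))
      ≤ (q - 1) * ∑ H ∈ s, tg q H := Nat.mul_le_mul_left _ h1
    _ = ∑ d ∈ degSeq n, gd q d * ((q - 1) * (S d).card) := by
        rw [h2, Finset.mul_sum]
        apply Finset.sum_congr rfl
        intros
        ring
    _ ≤ ∑ d ∈ degSeq n, gd q d * (gd q d * w q d) :=
        Finset.sum_le_sum (fun d _ => Nat.mul_le_mul_left _ (hCOUNT d))
    _ = ∑ d ∈ degSeq n, w q d * gd q d ^ 2 := by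
        apply Finset.sum_congr rfl
        intros
        ring

end Cfsg.Agent.Lib.Helper99.KSL
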