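/-
helper96: towards S4418.  Part B: the exceptional families.  A dihedral, generalized quaternion or
quasi-dihedral 2-group has no cyclic quotient of order greater than two (apart from the cyclic
group of order four, which is `QuaternionGroup 1`).
-/
import Cfsg.Agent.Lib.Helper96.MetaSylTwoA
import Cfsg.Prelude.Def_CaseTheorems

set_option autoImplicit false
set_option linter.style.haveILetI false

namespace Cfsg.Agent.Lib.Helper96.MetaSylTwo

open Subgroup

/-- A dihedral group has no cyclic quotient of order greater than two. -/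
theorem false_of_dihedral {S : Type*} [Group S] (N : Subgroup S) [N.Normal]
    (hQc : IsCyclic (S ⧸ N)) (hQ : 2 < Nat.card (S ⧸ N)) (m : ℕ) (e : S ≃* DihedralGroup m) :
    False := by
  have h := card_quot_le_two_of_generated N hQc
    (Set.range fun i : ZMod m => e.symm (DihedralGroup.sr i)) ?_ ?_
  · omega
  · intro s
    obtain ⟨d, rfl⟩ : ∃ d, s = e.symm d := ⟨e s, (e.symm_apply_apply s).symm⟩
    rcases d with i | i
    · have h1 : (DihedralGroup.r i : DihedralGroup m) = DihedralGroup.sr 0 * DihedralGroup.sr i := by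
        rw [DihedralGroup.sr_mul_sr, sub_zero]
      rw [h1, map_mul]
      exact Subgroup.mul_mem _ (Subgroup.subset_closure ⟨0, rfl⟩)
        (Subgroup.subset_closure ⟨i, rfl⟩)
    · exact Subgroup.subset_closure ⟨i, rfl⟩
  · rintro _ ⟨i, rfl⟩
    show (e.symm (DihedralGroup.sr i)) ^ 2 ∈ N
    rw [← map_pow, sq, DihedralGroup.sr_mul_self, map_one]
    exact N.one_mem

/-- A generalized quaternion 2-group with a cyclic quotient of order greater than two is cyclic
(of order four). -/
theorem isCyclic_of_quaternion {S : Type*} [Group S] [Finite S] (hS : IsPGroup 2 S)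
    (N : Subgroup S) [N.Normal] (hQc : IsCyclic (S ⧸ N)) (hQ : 2 < Nat.card (S ⧸ N)) (m : ℕ)
    (e : S ≃* QuaternionGroup m) : IsCyclic S := by
  rcases Nat.eq_zero_or_pos m with rfl | hm
  · exact (false_of_dihedral N hQc hQ 0
      (e.trans QuaternionGroup.quaternionGroupZeroEquivDihedralGroupZero)).elim
  by_cases h1 : m = 1
  · subst h1
    haveI := QuaternionGroup.quaternionGroup_one_isCyclic
    exact isCyclic_of_surjective e.symm e.symm.surjective
  exfalso
  haveI : NeZero m := ⟨hm.ne'⟩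
  have hcard : Nat.card S = 4 * m := by
    rw [Nat.card_congr e.toEquiv, Nat.card_eq_fintype_card, QuaternionGroup.card]
  obtain ⟨j, hj⟩ := IsPGroup.iff_card.mp hS
  have hdvd : m ∣ 2 ^ j := ⟨4, by rw [← hj, hcard]; ring⟩
  obtain ⟨i, -, hmi⟩ := (Nat.dvd_prime_pow Nat.prime_two).mp hdvd
  have hi : i ≠ 0 := by
    rintro rfl
    exact h1 (by simpa using hmi)
  obtain ⟨i', rfl⟩ := Nat.exists_eq_succ_of_ne_zero hi
  -- `m = 2 * m'`
  obtain ⟨m', hm'⟩ : ∃ m', m = 2 * m' := ⟨2 ^ i', by rw [hmi, pow_succ]; ring⟩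
  set A : S := e.symm (QuaternionGroup.a 1) with hA
  set B : S := e.symm (QuaternionGroup.xa 0) with hB
  have hABA : A * B * A = B := by
    rw [hA, hB, ← map_mul, ← map_mul, QuaternionGroup.a_mul_xa, QuaternionGroup.xa_mul_a]
    congr 2
    ring
  have hA2 : A ^ 2 ∈ N := by
    have h2 : ((A : S ⧸ N)) * (B : S ⧸ N) * (A : S ⧸ N) = (B : S ⧸ N) := by
      rw [← QuotientGroup.mk_mul, ← QuotientGroup.mk_mul, hABA]
    rw [comm_of_isCyclic (A : S ⧸ N) (B : S ⧸ N), mul_assoc] at h2
    have h3 : ((A : S ⧸ N)) * (A : S ⧸ N) = 1 := mul_left_cancel (h2.trans (mul_one _).symm)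
    rw [sq]
    exact (QuotientGroup.eq_one_iff _).mp (by rw [QuotientGroup.mk_mul]; exact h3)
  have hB2 : B ^ 2 ∈ N := by
    have h2 : B ^ 2 = (A ^ 2) ^ m' := by
      rw [hB, hA, ← map_pow, QuaternionGroup.xa_sq, ← pow_mul, ← hm', ← map_pow,
        QuaternionGroup.a_one_pow]
    rw [h2]
    exact Subgroup.pow_mem _ hA2 _
  have h := card_quot_le_two_of_generated N hQc ({A, B} : Set S) ?_ ?_
  · omega
  · intro s
    obtain ⟨d, rfl⟩ : ∃ d, s = e.symm d := ⟨e s, (e.symm_apply_apply s).symm⟩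
    have hAc : ∀ k : ZMod (2 * m), e.symm (QuaternionGroup.a k) ∈ Subgroup.closure ({A, B} : Set S) := by
      intro k
      have h1 : (QuaternionGroup.a k : QuaternionGroup m) = (QuaternionGroup.a 1) ^ k.val := by
        rw [QuaternionGroup.a_one_pow, ZMod.natCast_zmod_val]
      rw [h1, map_pow]
      exact Subgroup.pow_mem _ (Subgroup.subset_closure (Set.mem_insert _ _)) _
    rcases d with k | k
    · exact hAc k
    · have h1 : (QuaternionGroup.xa k : QuaternionGroup m) =
          QuaternionGroup.xa 0 * QuaternionGroup.a k := by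
        rw [QuaternionGroup.xa_mul_a, zero_add]
      rw [h1, map_mul]
      exact Subgroup.mul_mem _ (Subgroup.subset_closure (Set.mem_insert_of_mem _ rfl)) (hAc k)
  · intro x hx
    rcases hx with rfl | rfl
    · exact hA2
    · exact hB2

/-- A quasi-dihedral 2-group has no cyclic quotient of order greater than two. -/
theorem false_of_quasiDihedral {S : Type*} [Group S] [Finite S] (N : Subgroup S) [N.Normal]
    (hQc : IsCyclic (S ⧸ N)) (hQ : 2 < Nat.card (S ⧸ N)) (h : Cfsg.IsQuasiDihedral S) : False := by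
  obtain ⟨n, hn, hcard, x, y, hx, hy, hxy⟩ := h
  have hpow : (2 : ℕ) ^ (n - 1) = 4 * 2 ^ (n - 3) := by
    have : n - 1 = (n - 3) + 2 := by omega
    rw [this, pow_add]; ring
  have hpow2 : (2 : ℕ) ^ n = 2 ^ (n - 1) * 2 := by
    have : n = (n - 1) + 1 := by omega
    conv_lhs => rw [this, pow_succ]
  have ht1 : 2 ^ (n - 1) - 1 + 1 = 2 ^ (n - 1) := Nat.sub_add_cancel Nat.one_le_two_pow
  have hgen : ∀ s : S, s ∈ Subgroup.closure ({x, y} : Set S) := by
    have hxH : x ∈ Subgroup.closure ({x, y} : Set S) := Subgroup.subset_closure (Set.mem_insert _ _)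
    have hyH : y ∈ Subgroup.closure ({x, y} : Set S) :=
      Subgroup.subset_closure (Set.mem_insert_of_mem _ rfl)
    have hle : zpowers x ≤ Subgroup.closure ({x, y} : Set S) := by rwa [zpowers_le]
    have hy' : y ∉ zpowers x := by
      intro hyx
      obtain ⟨k, rfl⟩ := mem_zpowers_iff.mp hyx
      have h1 : x ^ k * x * (x ^ k)⁻¹ = x := by
        rw [← zpow_add_one, add_comm, zpow_add, zpow_one, mul_inv_cancel_right]
      rw [h1] at hxy
      have h2 : x ^ 1 = x ^ (2 ^ (n - 1) - 1) := by rw [pow_one]; exact hxy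
      rw [pow_inj_mod, hx] at h2
      have h3 : 4 ≤ 2 ^ (n - 1) := by
        rw [hpow]; exact Nat.le_mul_of_pos_right _ (Nat.pos_of_neZero _)
      rw [Nat.mod_eq_of_lt (by omega), Nat.mod_eq_of_lt (by omega)] at h2
      omega
    have hdvd : Nat.card (Subgroup.closure ({x, y} : Set S)) ∣ 2 ^ (n + 1) := by
      rw [← hcard]; exact Subgroup.card_subgroup_dvd_card _
    obtain ⟨j, hj, hHj⟩ := (Nat.dvd_prime_pow Nat.prime_two).mp hdvd
    have hzc : Nat.card (zpowers x) = 2 ^ n := by rw [Nat.card_zpowers, hx]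
    have hnj : n ≤ j := by
      have := Subgroup.card_dvd_of_le hle
      rw [hzc, hHj] at this
      exact (Nat.pow_dvd_pow_iff_le_right (by norm_num)).mp this
    have hjn : j ≠ n := by
      rintro rfl
      have := Subgroup.eq_of_le_of_card_ge hle (by rw [hzc, hHj])
      exact hy' (this ▸ hyH)
    have hj' : j = n + 1 := by omega
    have htop : Subgroup.closure ({x, y} : Set S) = ⊤ := by
      rw [← Subgroup.card_eq_iff_eq_top, hHj, hj', hcard]
    intro s
    rw [htop]; trivial
  have h := card_quot_le_two_of_generated N hQc ({x, y} : Set S) hgen ?_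
  · omega
  · intro s hs
    rcases hs with rfl | rfl
    · -- `x ^ 2 ∈ N`
      have hz : ((s : S ⧸ N)) ^ (2 ^ (n - 1) - 1) = (s : S ⧸ N) := by
        have h1 : ((y : S ⧸ N)) * (s : S ⧸ N) * (y : S ⧸ N)⁻¹ = (s : S ⧸ N) ^ (2 ^ (n - 1) - 1) := by
          rw [← QuotientGroup.mk_inv, ← QuotientGroup.mk_mul, ← QuotientGroup.mk_mul, hxy,
            QuotientGroup.mk_pow]
        rw [← h1, comm_of_isCyclic (y : S ⧸ N) (s : S ⧸ N), mul_inv_cancel_right]
      have hz2 : ((s : S ⧸ N)) ^ (2 ^ (n - 1)) = (s : S ⧸ N) ^ 2 := by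
        rw [← ht1, pow_succ, hz, sq]
      have hz3 : ((s : S ⧸ N)) ^ (2 ^ n) = 1 := by
        rw [← QuotientGroup.mk_pow, ← hx, pow_orderOf_eq_one, QuotientGroup.mk_one]
      have hz4 : ((s : S ⧸ N)) ^ 4 = 1 := by
        have : ((s : S ⧸ N)) ^ 4 = ((s : S ⧸ N) ^ 2) ^ 2 := by rw [← pow_mul]
        rw [this, ← hz2, ← pow_mul, ← hpow2, hz3]
      have hz5 : ((s : S ⧸ N)) ^ 2 = 1 := by
        rw [← hz2, hpow, pow_mul, hz4, one_pow]
      exact (QuotientGroup.eq_one_iff _).mp (by rw [QuotientGroup.mk_pow]; exact hz5)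
    · have : s ^ 2 = 1 := by rw [← hy]; exact pow_orderOf_eq_one s
      rw [this]; exact N.one_mem

end Cfsg.Agent.Lib.Helper96.MetaSylTwo
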