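/-
helper96: towards S4418.  Part C: the homocyclic case.  A homocyclic abelian 2-group
`(Z/2^n)^k` which is metacyclic has `k ≤ 2`; with a cyclic quotient of order greater than two it is
cyclic or `Z/2^n × Z/2^n` with `n ≥ 2`.
-/
import Cfsg.Agent.Lib.Helper96.MetaSylTwoA

set_option autoImplicit false
set_option linter.style.haveILetI false

namespace Cfsg.Agent.Lib.Helper96.MetaSylTwo

open Subgroup

/-- In an abelian group with a cyclic subgroup `N` and cyclic quotient, at most four elements have
square one. -/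
theorem card_omega_le_four {S : Type*} [Group S] [Finite S] (hcomm : ∀ a b : S, a * b = b * a)
    (N : Subgroup S) [N.Normal] (hNc : IsCyclic N) (hQc : IsCyclic (S ⧸ N)) :
    Nat.card {s : S // s ^ 2 = 1} ≤ 4 := by
  let T : Subgroup S :=
    { carrier := {s | s ^ 2 = 1}
      one_mem' := one_pow 2
      mul_mem' := by
        intro a b ha hb
        simp only [Set.mem_ofPred_eq] at *
        rw [(show Commute a b from hcomm a b).mul_pow, ha, hb, one_mul]
      inv_mem' := by
        intro a ha
        simp only [Set.mem_ofPred_eq] at *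
        rw [inv_pow, ha, inv_one] }
  show Nat.card T ≤ 4
  have hT : ∀ t : T, t ^ 2 = 1 := fun t => Subtype.ext t.2
  let g : T →* S ⧸ N := (QuotientGroup.mk' N).comp T.subtype
  have h1 : Nat.card g.ker * Nat.card g.range = Nat.card T := by
    rw [← Subgroup.index_ker]; exact Subgroup.card_mul_index _
  have h2 : Nat.card g.range ≤ 2 := by
    refine card_le_two_of_sq_eq_one ?_
    rintro ⟨_, t, rfl⟩
    apply Subtype.ext
    show (g t) ^ 2 = 1
    rw [← map_pow, hT, map_one]
  have h3 : Nat.card g.ker ≤ 2 := by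
    let φ : g.ker →* N := ((T.subtype).comp g.ker.subtype).codRestrict N (fun k => by
      have hk := k.2
      rw [MonoidHom.mem_ker] at hk
      exact (QuotientGroup.eq_one_iff _).mp hk)
    have hφ : Function.Injective φ := by
      intro a b hab
      have h4 : ((a : T) : S) = ((b : T) : S) := congrArg (fun z : N => (z : S)) hab
      exact Subtype.ext (Subtype.ext h4)
    haveI : IsCyclic g.ker := isCyclic_of_injective φ hφ
    refine card_le_two_of_sq_eq_one ?_
    intro k
    apply Subtype.ext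
    exact hT k.1
  calc Nat.card T = Nat.card g.ker * Nat.card g.range := h1.symm
    _ ≤ 2 * 2 := Nat.mul_le_mul h3 h2

theorem two_pow_pred_ne_zero (n : ℕ) (hn : 1 ≤ n) : (2 : ZMod (2 ^ n)) ^ (n - 1) ≠ 0 := by
  intro h
  have h1 : ((2 ^ (n - 1) : ℕ) : ZMod (2 ^ n)) = 0 := by push_cast; exact h
  rw [ZMod.natCast_eq_zero_iff] at h1
  have h2 := Nat.le_of_dvd (by positivity) h1
  have h3 : 2 ^ (n - 1) < 2 ^ n := Nat.pow_lt_pow_right (by norm_num) (by omega)
  omega

theorem two_mul_two_pow_pred (n : ℕ) (hn : 1 ≤ n) : 2 • (2 : ZMod (2 ^ n)) ^ (n - 1) = 0 := by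
  have h1 : ((2 ^ n : ℕ) : ZMod (2 ^ n)) = 0 := ZMod.natCast_self _
  push_cast at h1
  have h3 : (2 : ZMod (2 ^ n)) * 2 ^ (n - 1) = 2 ^ n := by
    rw [← pow_succ']; congr 1; omega
  rw [nsmul_eq_mul]
  push_cast
  rw [h3, h1]

/-- A metacyclic homocyclic abelian 2-group `(Z/2^n)^k`, `n ≥ 1`, has `k ≤ 2`. -/
theorem homocyclic_rank_le_two {S : Type*} [Group S] [Finite S] (N : Subgroup S) [N.Normal]
    (hNc : IsCyclic N) (hQc : IsCyclic (S ⧸ N)) (n k : ℕ) (hn : 1 ≤ n)
    (e : S ≃* Multiplicative (Fin k → ZMod (2 ^ n))) : k ≤ 2 := by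
  have hcomm : ∀ a b : S, a * b = b * a := by
    intro a b
    apply e.injective
    rw [map_mul, map_mul, mul_comm]
  have h4 := card_omega_le_four hcomm N hNc hQc
  let f : (Fin k → Bool) → (Fin k → ZMod (2 ^ n)) :=
    fun v i => if v i then (2 : ZMod (2 ^ n)) ^ (n - 1) else 0
  have hf2 : ∀ v, 2 • f v = 0 := by
    intro v
    funext i
    show 2 • (if v i then (2 : ZMod (2 ^ n)) ^ (n - 1) else 0) = 0
    split_ifs
    · exact two_mul_two_pow_pred n hn
    · simp
  have hfinj : Function.Injective f := by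
    intro v w hvw
    funext i
    have h1 : (if v i then (2 : ZMod (2 ^ n)) ^ (n - 1) else 0) =
        (if w i then (2 : ZMod (2 ^ n)) ^ (n - 1) else 0) := congrFun hvw i
    have hne := two_pow_pred_ne_zero n hn
    cases hv : v i <;> cases hw : w i <;> simp_all
  let ι : (Fin k → Bool) → {s : S // s ^ 2 = 1} := fun v =>
    ⟨e.symm (Multiplicative.ofAdd (f v)), by
      rw [← map_pow, ← ofAdd_nsmul, hf2, ofAdd_zero, map_one]⟩
  have hι : Function.Injective ι := by
    intro v w hvw
    have h1 : e.symm (Multiplicative.ofAdd (f v)) = e.symm (Multiplicative.ofAdd (f w)) :=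
      congrArg Subtype.val hvw
    exact hfinj (Multiplicative.ofAdd.injective (e.symm.injective h1))
  have h5 := Nat.card_le_card_of_injective ι hι
  have h6 : Nat.card (Fin k → Bool) = 2 ^ k := by
    simp [Nat.card_eq_fintype_card]
  rw [h6] at h5
  have h7 : 2 ^ k ≤ 2 ^ 2 := by omega
  exact (Nat.pow_le_pow_iff_right (by norm_num)).mp h7

/-- The homocyclic case of S4418: the Sylow subgroup is cyclic, or `Z/2^n × Z/2^n` with
`n ≥ 2`. -/
theorem homocyclic_cases {S : Type*} [Group S] [Finite S] (N : Subgroup S) [N.Normal]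
    (hNc : IsCyclic N) (hQc : IsCyclic (S ⧸ N)) (hQ : 2 < Nat.card (S ⧸ N)) (n k : ℕ)
    (e : S ≃* Multiplicative (Fin k → ZMod (2 ^ n))) :
    IsCyclic S ∨ (2 ≤ n ∧ Nonempty (S ≃* Multiplicative (ZMod (2 ^ n) × ZMod (2 ^ n)))) := by
  have hS2 : 2 < Nat.card S :=
    lt_of_lt_of_le hQ (Nat.le_of_dvd Nat.card_pos (Subgroup.card_quotient_dvd_card N))
  have hcard : Nat.card S = (2 ^ n) ^ k := by
    rw [Nat.card_congr e.toEquiv]
    show Nat.card (Fin k → ZMod (2 ^ n)) = _
    rw [Nat.card_fun, Nat.card_zmod, Nat.card_eq_fintype_card, Fintype.card_fin]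
  have hn : 1 ≤ n := by
    by_contra hcon
    have : n = 0 := by omega
    subst this
    simp at hcard
    omega
  have hk0 : k ≠ 0 := by
    rintro rfl
    simp at hcard
    omega
  have hk2 := homocyclic_rank_le_two N hNc hQc n k hn e
  have hk : k = 1 ∨ k = 2 := by omega
  rcases hk with rfl | rfl
  · left
    let E : Multiplicative (Fin 1 → ZMod (2 ^ n)) ≃* Multiplicative (ZMod (2 ^ n)) :=
      (AddEquiv.funUnique (Fin 1) (ZMod (2 ^ n))).toMultiplicative
    exact isCyclic_of_surjective (e.trans E).symm (e.trans E).symm.surjective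
  · right
    have hn2 : 2 ≤ n := by
      by_contra hcon
      have : n = 1 := by omega
      subst this
      have hsq : ∀ s : S, s ^ 2 = 1 := by
        intro s
        apply e.injective
        rw [map_pow, map_one]
        obtain ⟨f, hf⟩ : ∃ f, e s = Multiplicative.ofAdd f := ⟨Multiplicative.toAdd (e s), rfl⟩
        rw [hf, ← ofAdd_nsmul]
        have : 2 • f = 0 := by
          funext i
          show 2 • f i = 0
          have h1 : ((2 ^ 1 : ℕ) : ZMod (2 ^ 1)) = 0 := ZMod.natCast_self _
          rw [nsmul_eq_mul]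
          push_cast at h1 ⊢
          rw [h1, zero_mul]
        rw [this, ofAdd_zero]
      have h := card_quot_le_two_of_generated N hQc Set.univ
        (fun s => Subgroup.subset_closure (Set.mem_univ s))
        (fun x _ => by rw [hsq x]; exact N.one_mem)
      omega
    refine ⟨hn2, ⟨e.trans ?_⟩⟩
    exact (RingEquiv.piFinTwo (fun _ => ZMod (2 ^ n))).toAddEquiv.toMultiplicative

end Cfsg.Agent.Lib.Helper96.MetaSylTwo
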