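/-
helper96: towards S4418.  Part D: the cyclic case (via S0082 and S0219, taken as hypotheses), the
case `Z/2^n × Z/2^n`, `n ≥ 2` (via Brauer's theorem S0949, taken as a hypothesis, and induction on
the group order), and the assembly.  All deep inputs (the Odd Order Theorem S0205, S0949, S0082,
S0219, S0079 and S5212 + S5076) enter as hypotheses, so that this library imports none of them.
-/
import Cfsg.Agent.Lib.Helper96.MetaSylTwoB
import Cfsg.Agent.Lib.Helper96.MetaSylTwoC
import Cfsg.Prelude.Def_Transfer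

set_option autoImplicit false
set_option linter.style.haveILetI false

namespace Cfsg.Agent.Lib.Helper96.MetaSylTwo

open Subgroup

universe u

/-- Brauer's theorem S0949 as a hypothesis at universe level `u`. -/
def Brauer949 : Prop :=
  ∀ (G : Type u) [Group G] [Finite G] (P : Sylow 2 G) (m : ℕ) (_ : 2 ≤ m)
    (_ : (P : Subgroup G) ≃* Multiplicative (ZMod (2 ^ m) × ZMod (2 ^ m)))
    (_ : ∀ N : Subgroup G, N.Normal → Odd (Nat.card N) → N = ⊥),
    (P : Subgroup G).Normal ∧ Subgroup.centralizer (P : Set G) = (P : Subgroup G) ∧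
      ((P : Subgroup G).index = 1 ∨ (P : Subgroup G).index = 3)

/-- S0082 (for the prime two) as a hypothesis at universe level `u`. -/
def Cyc82 : Prop :=
  ∀ (G : Type u) [Group G] [Finite G] (P : Sylow 2 G), IsCyclic (P : Subgroup G) →
    Cfsg.HasNormalPComplement 2 G ∨ Cfsg.pResidual 2 G = ⊤

/-- S0219 as a hypothesis at universe level `u`. -/
def Cyc219 : Prop :=
  ∀ (G : Type u) [Group G] [Finite G], Even (Nat.card G) → ∀ T : Sylow 2 G,
    IsCyclic (T : Subgroup G) → ∃ H : Subgroup G, H.index = 2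

/-- A finite group whose Sylow 2-subgroups are `Z/2^m × Z/2^m` with `m ≥ 2` is solvable. -/
theorem isSolvable_of_homocyclic_rank_two (FT : OddSolv.{u}) (hB : Brauer949.{u}) (m : ℕ)
    (hm : 2 ≤ m) :
    ∀ (c : ℕ) (G : Type u) [Group G] [Finite G], Nat.card G = c → ∀ P : Sylow 2 G,
      Nonempty ((P : Subgroup G) ≃* Multiplicative (ZMod (2 ^ m) × ZMod (2 ^ m))) →
      Group.IsSolvable G := by
  intro c
  induction c using Nat.strong_induction_on with
  | _ c ih =>
  intro G _ _ hc P ⟨e⟩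
  by_cases h : ∃ K : Subgroup G, K.Normal ∧ Odd (Nat.card K) ∧ K ≠ ⊥
  · obtain ⟨K, hKn, hKodd, hKne⟩ := h
    haveI := hKn
    have hK1 : Group.IsSolvable K := FT K hKodd
    have hlt : Nat.card (G ⧸ K) < c := by
      rw [← hc, ← Subgroup.index_eq_card]
      have h1 := Subgroup.card_mul_index K
      have h2 : 1 < Nat.card K := (Subgroup.one_lt_card_iff_ne_bot K).mpr hKne
      have h3 : 0 < K.index := Nat.pos_of_ne_zero Subgroup.index_ne_zero_of_finite
      nlinarith
    let P' : Sylow 2 (G ⧸ K) := P.mapSurjective (QuotientGroup.mk'_surjective K)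
    have hPK : (P : Subgroup G) ⊓ K = ⊥ := by
      obtain ⟨j, hj⟩ := IsPGroup.iff_card.mp P.isPGroup'
      refine (Subgroup.disjoint_of_coprime_natCard ?_).eq_bot
      rw [hj]
      exact Nat.Coprime.pow_left _ (Nat.coprime_two_left.mpr hKodd)
    have hinj : Function.Injective ((QuotientGroup.mk' K).subgroupMap (P : Subgroup G)) := by
      rw [injective_iff_map_eq_one]
      intro x hx
      have hxK : (x : G) ∈ K := by
        have h4 : ((x : G) : G ⧸ K) = 1 := congrArg Subtype.val hx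
        exact (QuotientGroup.eq_one_iff _).mp h4
      have h5 : (x : G) ∈ (P : Subgroup G) ⊓ K := Subgroup.mem_inf.mpr ⟨x.2, hxK⟩
      rw [hPK, Subgroup.mem_bot] at h5
      exact Subtype.ext h5
    let E : (P : Subgroup G) ≃* ((P : Subgroup G).map (QuotientGroup.mk' K)) :=
      MulEquiv.ofBijective _ ⟨hinj, MonoidHom.subgroupMap_surjective _ _⟩
    have hcoe : (P' : Subgroup (G ⧸ K)) = (P : Subgroup G).map (QuotientGroup.mk' K) :=
      Sylow.coe_mapSurjective _ _
    have hq : Group.IsSolvable (G ⧸ K) :=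
      ih (Nat.card (G ⧸ K)) hlt (G ⧸ K) rfl P'
        ⟨(MulEquiv.subgroupCongr hcoe).trans (E.symm.trans e)⟩
    exact isSolvable_of_normal_of_quotient K hK1 hq
  · have hO : ∀ K : Subgroup G, K.Normal → Odd (Nat.card K) → K = ⊥ :=
      fun K hK hodd => by_contra fun hne => h ⟨K, hK, hodd, hne⟩
    obtain ⟨hPn, -, hidx⟩ := hB G P m hm e hO
    haveI := hPn
    have hP1 : Group.IsSolvable (P : Subgroup G) := isSolvable_of_isPGroup P.isPGroup'
    have hq : Odd (Nat.card (G ⧸ (P : Subgroup G))) := by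
      rw [← Subgroup.index_eq_card]
      rcases hidx with h1 | h1 <;> rw [h1] <;> decide
    exact isSolvable_of_normal_of_quotient _ hP1 (FT _ hq)

/-- A finite group with a cyclic Sylow 2-subgroup is solvable. -/
theorem isSolvable_of_cyclic (FT : OddSolv.{u}) (h82 : Cyc82.{u}) (h219 : Cyc219.{u})
    {G : Type u} [Group G] [Finite G] (S : Sylow 2 G) (hc : IsCyclic (S : Subgroup G)) :
    Group.IsSolvable G := by
  rcases Nat.even_or_odd (Nat.card G) with heven | hodd
  swap
  · exact FT G hodd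
  rcases h82 G S hc with ⟨P, K, hKn, hKc⟩ | hres
  · exact isSolvable_of_normal_complement FT P K hKn hKc
  · exfalso
    obtain ⟨H, hH⟩ := h219 G heven S hc
    haveI : H.Normal := Subgroup.normal_of_index_eq_two hH
    have hle : Cfsg.pResidual 2 G ≤ H := by
      unfold Cfsg.pResidual
      rw [Subgroup.closure_le]
      intro g hg
      have hg' : Nat.Coprime (orderOf g) 2 := hg
      have hcard : Nat.card (G ⧸ H) = 2 := by rw [← Subgroup.index_eq_card, hH]
      have h1 : ((g : G ⧸ H)) ^ 2 = 1 := by rw [← hcard]; exact pow_card_eq_one'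
      have h2 : ((g : G ⧸ H)) ^ (orderOf g) = 1 := by
        rw [← QuotientGroup.mk_pow, pow_orderOf_eq_one, QuotientGroup.mk_one]
      have h3 : orderOf (g : G ⧸ H) ∣ Nat.gcd (orderOf g) 2 :=
        Nat.dvd_gcd (orderOf_dvd_of_pow_eq_one h2) (orderOf_dvd_of_pow_eq_one h1)
      rw [Nat.Coprime.gcd_eq_one hg', Nat.dvd_one, orderOf_eq_one_iff] at h3
      exact (QuotientGroup.eq_one_iff _).mp h3
    rw [hres] at hle
    have htop : H = ⊤ := top_le_iff.mp hle
    rw [htop, Subgroup.index_top] at hH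
    omega

/-- S4418 from its inputs. -/
theorem main (FT : OddSolv.{u}) (hB : Brauer949.{u}) (h82 : Cyc82.{u}) (h219 : Cyc219.{u})
    {G : Type u} [Group G] [Finite G] (S : Sylow 2 G) (N : Subgroup ↥(S : Subgroup G)) [N.Normal]
    (hNc : IsCyclic N) (hQc : IsCyclic (↥(S : Subgroup G) ⧸ N))
    (hQ : 2 < Nat.card (↥(S : Subgroup G) ⧸ N))
    (h79 : (∃ K : Subgroup G, K.Normal ∧ K.IsComplement' (S : Subgroup G)) ↔
      ∀ x ∈ (S : Subgroup G), ∀ y ∈ (S : Subgroup G), (∃ g : G, g * x * g⁻¹ = y) →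
        ∃ h ∈ (S : Subgroup G), h * x * h⁻¹ = y)
    (hfus : (¬ ∃ n k : ℕ, Nonempty (↥(S : Subgroup G) ≃* Multiplicative (Fin k → ZMod (2 ^ n)))) →
      (¬ ∃ m : ℕ, Nonempty (↥(S : Subgroup G) ≃* DihedralGroup m)) →
      (¬ ∃ m : ℕ, Nonempty (↥(S : Subgroup G) ≃* QuaternionGroup m)) →
      ¬ Cfsg.IsQuasiDihedral ↥(S : Subgroup G) →
      ∀ P : Subgroup G, (Cfsg.groupFusionSystem (S : Subgroup G)).Hom P =
        (Cfsg.innerFusionSystem (S : Subgroup G)).Hom P) :
    Group.IsSolvable G := by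
  by_cases hcyc : IsCyclic (S : Subgroup G)
  · exact isSolvable_of_cyclic FT h82 h219 S hcyc
  by_cases hh : ∃ n k : ℕ, Nonempty (↥(S : Subgroup G) ≃* Multiplicative (Fin k → ZMod (2 ^ n)))
  · obtain ⟨n, k, ⟨e⟩⟩ := hh
    rcases homocyclic_cases N hNc hQc hQ n k e with hc | ⟨hn, ⟨e'⟩⟩
    · exact (hcyc hc).elim
    · exact isSolvable_of_homocyclic_rank_two FT hB n hn _ G rfl S ⟨e'⟩
  by_cases hd : ∃ m : ℕ, Nonempty (↥(S : Subgroup G) ≃* DihedralGroup m)
  · obtain ⟨m, ⟨e⟩⟩ := hd
    exact (false_of_dihedral N hQc hQ m e).elim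
  by_cases hq : ∃ m : ℕ, Nonempty (↥(S : Subgroup G) ≃* QuaternionGroup m)
  · obtain ⟨m, ⟨e⟩⟩ := hq
    exact (hcyc (isCyclic_of_quaternion S.isPGroup' N hQc hQ m e)).elim
  by_cases hsd : Cfsg.IsQuasiDihedral ↥(S : Subgroup G)
  · exact (false_of_quasiDihedral N hQc hQ hsd).elim
  obtain ⟨K, hKn, hKc⟩ := exists_complement_of_inner (S : Subgroup G) h79 (hfus hh hd hq hsd)
  exact isSolvable_of_normal_complement FT S K hKn hKc

end Cfsg.Agent.Lib.Helper96.MetaSylTwo
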