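/-
helper96: towards S2962.  `G = Q N`, `N` normal, `Q` a 2-group with `Q ∩ N = 1`,
`t ∈ Z(Q) ∩ [Q,Q]` with `C_N(t) = C_N(Q)`.  Part A: the 2-local analysis
(`Q` centralizes `S ∩ N`; every element of `Z(Q) ∩ [Q,Q]` is isolated in a Sylow 2-subgroup).
-/
import Mathlib

set_option autoImplicit false
set_option linter.style.haveILetI false

namespace Cfsg.Agent.Lib.Helper96.NQOdd

open scoped commutatorElement
open Subgroup

universe u

variable {G : Type u} [Group G]

/-- The hypotheses of S2962 (without `t ≠ 1` and without non-commutativity of `Q`). -/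
structure Hyp (N Q : Subgroup G) (t : G) : Prop where
  nN : N.Normal
  sup : Q ⊔ N = ⊤
  pQ : IsPGroup 2 Q
  disj : Q ⊓ N = ⊥
  tQ : t ∈ Q
  tZ : ∀ q ∈ Q, q * t = t * q
  tD : t ∈ ⁅Q, Q⁆
  hC : ∀ n ∈ N, t * n = n * t → ∀ q ∈ Q, q * n = n * q

theorem Hyp.decomp {N Q : Subgroup G} {t : G} (h : Hyp N Q t) (g : G) :
    ∃ n ∈ N, ∃ q ∈ Q, g = n * q := by
  haveI := h.nN
  have hg : g ∈ ((N ⊔ Q : Subgroup G) : Set G) := by
    rw [sup_comm, h.sup]; trivial
  rw [Subgroup.normal_mul] at hg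
  obtain ⟨n, hn, q, hq, rfl⟩ := hg
  exact ⟨n, hn, q, hq, rfl⟩

/-- Conjugation by a commuting element is trivial. -/
theorem conj_eq_of_commute {a w : G} (hc : Commute a w) : a * w * a⁻¹ = w := by
  rw [hc.eq, mul_inv_cancel_right]

variable [Finite G]

/-- `Q` centralizes `S ∩ N` for a Sylow 2-subgroup `S ≥ Q`. -/
theorem Hyp.centralizes {N Q : Subgroup G} {t : G} (h : Hyp N Q t) (S : Sylow 2 G)
    (hQS : Q ≤ (S : Subgroup G)) :
    ∀ p ∈ (S : Subgroup G) ⊓ N, ∀ q ∈ Q, q * p = p * q := by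
  haveI : Fact (Nat.Prime 2) := ⟨Nat.prime_two⟩
  haveI := h.nN
  have hnil : Group.IsNilpotent (S : Subgroup G) := S.2.isNilpotent
  obtain ⟨k, hk⟩ := (isNilpotent_iff_lowerCentralSeries (S : Subgroup G)).mp hnil
  have key : ∀ j i, i + j = k →
      ⁅((S : Subgroup G) ⊓ N) ⊓ (S : Subgroup G).lowerCentralSeries i, Q⁆ = ⊥ := by
    intro j
    induction j with
    | zero =>
      intro i hi
      have : i = k := by omega
      subst this
      rw [hk, inf_bot_eq, Subgroup.commutator_bot_left]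
    | succ j ih =>
      intro i hi
      have ih' := ih (i + 1) (by omega)
      set Z := ((S : Subgroup G) ⊓ N) ⊓ (S : Subgroup G).lowerCentralSeries i with hZ
      have hZZ' : ⁅Z, Q⁆ ≤ ((S : Subgroup G) ⊓ N) ⊓ (S : Subgroup G).lowerCentralSeries (i + 1) := by
        rw [Subgroup.commutator_le]
        intro z hz q hq
        have hzS : z ∈ (S : Subgroup G) := (Subgroup.mem_inf.mp (Subgroup.mem_inf.mp hz).1).1
        have hzN : z ∈ N := (Subgroup.mem_inf.mp (Subgroup.mem_inf.mp hz).1).2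
        have hzL : z ∈ (S : Subgroup G).lowerCentralSeries i := (Subgroup.mem_inf.mp hz).2
        have hqS : q ∈ (S : Subgroup G) := hQS hq
        refine Subgroup.mem_inf.mpr ⟨Subgroup.mem_inf.mpr ⟨?_, ?_⟩, ?_⟩
        · rw [commutatorElement_def]
          exact mul_mem (mul_mem (mul_mem hzS hqS) (inv_mem hzS)) (inv_mem hqS)
        · rw [commutatorElement_def]
          have : z * q * z⁻¹ * q⁻¹ = z * (q * z⁻¹ * q⁻¹) := by group
          rw [this]
          exact mul_mem hzN (h.nN.conj_mem _ (inv_mem hzN) q)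
        · rw [Subgroup.lowerCentralSeries_succ]
          exact Subgroup.commutator_mem_commutator hzL hqS
      have h2 : ⁅⁅Z, Q⁆, Q⁆ = ⊥ := by
        rw [eq_bot_iff, ← ih']
        exact Subgroup.commutator_mono hZZ' le_rfl
      have h1 : ⁅⁅Q, Z⁆, Q⁆ = ⊥ := by rw [Subgroup.commutator_comm Q Z]; exact h2
      have h3 : ⁅⁅Q, Q⁆, Z⁆ = ⊥ := Subgroup.commutator_commutator_eq_bot_of_rotate h1 h2
      rw [Subgroup.commutator_eq_bot_iff_le_centralizer] at h3
      rw [Subgroup.commutator_eq_bot_iff_le_centralizer]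
      intro z hz
      rw [Subgroup.mem_centralizer_iff]
      intro q hq
      have htz : z * t = t * z := (Subgroup.mem_centralizer_iff.mp (h3 h.tD)) z hz
      exact h.hC z (Subgroup.mem_inf.mp (Subgroup.mem_inf.mp hz).1).2 htz.symm q hq
  have h0 := key k 0 (by omega)
  rw [Subgroup.lowerCentralSeries_zero] at h0
  rw [Subgroup.commutator_eq_bot_iff_le_centralizer] at h0
  intro p hp q hq
  have hp' : p ∈ ((S : Subgroup G) ⊓ N) ⊓ (S : Subgroup G) :=
    Subgroup.mem_inf.mpr ⟨hp, (Subgroup.mem_inf.mp hp).1⟩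
  exact (Subgroup.mem_centralizer_iff.mp (h0 hp')) q hq

/-- Sylow's theorem inside a subgroup `H` containing a Sylow subgroup of `G`. -/
theorem exists_conj_le_sylow {p : ℕ} [Fact p.Prime]
    (H : Subgroup G) (S : Sylow p G) (hS : (S : Subgroup G) ≤ H) (Q : Subgroup G)
    (hQ : IsPGroup p Q) (hQH : Q ≤ H) :
    ∃ c ∈ H, ∀ q ∈ Q, c⁻¹ * q * c ∈ (S : Subgroup G) := by
  obtain ⟨R, hR⟩ := (hQ.comap_subtype (K := H)).exists_le_sylow
  obtain ⟨c, hc⟩ := MulAction.exists_smul_eq H (S.subtype hS) R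
  refine ⟨c, c.2, fun q hq => ?_⟩
  have h1 : (⟨q, hQH hq⟩ : H) ∈ R := hR (by simpa [Subgroup.mem_subgroupOf] using hq)
  rw [← hc, Sylow.smul_subtype] at h1
  have h2 : q ∈ ((c • S : Sylow p G) : Subgroup G) := by
    have h1' : (⟨q, hQH hq⟩ : H) ∈ (((c • S).subtype (Sylow.smul_le hS c) : Sylow p H) : Subgroup H) := h1
    rw [Sylow.coe_subtype, Subgroup.mem_subgroupOf] at h1'
    exact h1'
  rw [Subgroup.smul_def, Sylow.smul_def, Sylow.pointwise_smul_def,
    Subgroup.mem_pointwise_smul_iff_inv_smul_mem] at h2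
  simpa [MulAut.smul_def, MulAut.conj_apply, mul_assoc] using h2


/-- Every element of `Z(Q) ∩ [Q,Q]` is isolated in a Sylow 2-subgroup `S ≥ Q`. -/
theorem Hyp.isolated {N Q : Subgroup G} {t : G} (h : Hyp N Q t) (S : Sylow 2 G)
    (hQS : Q ≤ (S : Subgroup G)) (s : G) (hsQ : s ∈ Q) (hsZ : ∀ q ∈ Q, q * s = s * q)
    (hsD : s ∈ ⁅Q, Q⁆) (g : G) (hx : g * s * g⁻¹ ∈ (S : Subgroup G)) : g * s * g⁻¹ = s := by
  haveI : Fact (Nat.Prime 2) := ⟨Nat.prime_two⟩
  haveI := h.nN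
  have hcent := h.centralizes S hQS
  -- decomposition of `S`
  have hSdec : ∀ y ∈ (S : Subgroup G), ∃ p ∈ (S : Subgroup G) ⊓ N, ∃ q ∈ Q, y = p * q := by
    intro y hy
    obtain ⟨n, hn, q, hq, rfl⟩ := h.decomp y
    refine ⟨n, Subgroup.mem_inf.mpr ⟨?_, hn⟩, q, hq, rfl⟩
    have e : n = n * q * q⁻¹ := by group
    rw [e]
    exact Subgroup.mul_mem _ hy (Subgroup.inv_mem _ (hQS hq))
  -- `S` centralizes `s`
  have hSs : ∀ y ∈ (S : Subgroup G), y * s = s * y := by
    intro y hy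
    obtain ⟨p, hp, q, hq, rfl⟩ := hSdec y hy
    have h1 : s * p = p * s := hcent p hp s hsQ
    have h2 : q * s = s * q := hsZ q hq
    calc p * q * s = p * (q * s) := by group
      _ = p * (s * q) := by rw [h2]
      _ = (p * s) * q := by group
      _ = s * p * q := by rw [h1]
      _ = s * (p * q) := by group
  set x := g * s * g⁻¹ with hxdef
  -- `s⁻¹ x ∈ N`
  have hmN : s⁻¹ * x ∈ N := by
    obtain ⟨n, hn, q, hq, hgq⟩ := h.decomp g
    have hq' : q * s * q⁻¹ = s := by rw [hsZ q hq]; group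
    have e : s⁻¹ * x = (s⁻¹ * n * s⁻¹⁻¹) * n⁻¹ := by
      rw [hxdef, hgq]
      have e1 : n * q * s * (n * q)⁻¹ = n * (q * s * q⁻¹) * n⁻¹ := by group
      rw [e1, hq']; group
    rw [e]
    exact Subgroup.mul_mem _ (h.nN.conj_mem n hn s⁻¹) (Subgroup.inv_mem _ hn)
  have hmP : s⁻¹ * x ∈ (S : Subgroup G) ⊓ N :=
    Subgroup.mem_inf.mpr ⟨Subgroup.mul_mem _ (Subgroup.inv_mem _ (hQS hsQ)) hx, hmN⟩
  -- `Q` centralizes `x`
  have hQx : ∀ q ∈ Q, q * x = x * q := by
    intro q hq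
    have e : x = s * (s⁻¹ * x) := by group
    have h1 := hcent _ hmP q hq
    have h2 := hsZ q hq
    rw [e]
    calc q * (s * (s⁻¹ * x)) = (q * s) * (s⁻¹ * x) := by group
      _ = s * (q * (s⁻¹ * x)) := by rw [h2]; group
      _ = s * ((s⁻¹ * x) * q) := by rw [h1]
      _ = s * (s⁻¹ * x) * q := by group
  -- Sylow conjugation inside `C_G(x)`
  set H := Subgroup.centralizer ({x} : Set G) with hH
  have hQH : Q ≤ H := by
    intro q hq
    rw [hH, Subgroup.mem_centralizer_iff]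
    intro y hy
    rw [Set.mem_singleton_iff] at hy
    rw [hy]; exact (hQx q hq).symm
  have hgSH : ((g • S : Sylow 2 G) : Subgroup G) ≤ H := by
    intro y hy
    rw [Sylow.smul_def, Sylow.pointwise_smul_def,
      Subgroup.mem_pointwise_smul_iff_inv_smul_mem] at hy
    have hy' : g⁻¹ * y * g ∈ (S : Subgroup G) := by
      simpa [MulAut.smul_def, MulAut.conj_apply, mul_assoc] using hy
    rw [hH, Subgroup.mem_centralizer_iff]
    intro z hz
    rw [Set.mem_singleton_iff] at hz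
    rw [hz, hxdef]
    have h3 := hSs _ hy'
    have e1 : g * s * g⁻¹ * y = g * (s * (g⁻¹ * y * g)) * g⁻¹ := by group
    have e2 : y * (g * s * g⁻¹) = g * ((g⁻¹ * y * g) * s) * g⁻¹ := by group
    rw [e1, e2, h3]
  obtain ⟨c, hcH, hc⟩ := exists_conj_le_sylow H (g • S) hgSH Q h.pQ hQH
  have hcx : c * x = x * c := by
    rw [hH, Subgroup.mem_centralizer_iff] at hcH
    exact (hcH x rfl).symm
  -- `k := c * g` conjugates `s` to `x` and `Q` into `S^k`
  set k := c * g with hk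
  have hkx : k * s * k⁻¹ = x := by
    have e1 : k * s * k⁻¹ = c * x * c⁻¹ := by rw [hk, hxdef]; group
    rw [e1, hcx]; group
  have hkQ : ∀ q ∈ Q, k⁻¹ * q * k ∈ (S : Subgroup G) := by
    intro q hq
    have h1 := hc q hq
    rw [Sylow.smul_def, Sylow.pointwise_smul_def,
      Subgroup.mem_pointwise_smul_iff_inv_smul_mem] at h1
    have h2 : g⁻¹ * (c⁻¹ * q * c) * g ∈ (S : Subgroup G) := by
      simpa [MulAut.smul_def, MulAut.conj_apply, mul_assoc] using h1
    have e : k⁻¹ * q * k = g⁻¹ * (c⁻¹ * q * c) * g := by rw [hk]; group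
    rw [e]; exact h2
  -- the conjugate `Q2` of `Q`
  set Q2 := Q.map (MulAut.conj k).toMonoidHom with hQ2
  have hQ2mem : ∀ b, b ∈ Q2 ↔ ∃ q ∈ Q, k * q * k⁻¹ = b := by
    intro b
    rw [hQ2, Subgroup.mem_map]
    simp [MulAut.conj_apply]
  have hQ2N : ∀ b ∈ Q2, b ∈ N → b = 1 := by
    intro b hb hbN
    obtain ⟨q, hq, rfl⟩ := (hQ2mem b).mp hb
    have hqN : q ∈ N := by
      have := h.nN.conj_mem _ hbN k⁻¹
      have e : k⁻¹ * (k * q * k⁻¹) * k⁻¹⁻¹ = q := by group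
      rwa [e] at this
    have hq1 : q ∈ Q ⊓ N := Subgroup.mem_inf.mpr ⟨hq, hqN⟩
    rw [h.disj, Subgroup.mem_bot] at hq1
    rw [hq1]; group
  -- decomposition of the elements of `Q`
  have hdec : ∀ q ∈ Q, ∃ a b, a ∈ N ∧ (∀ b' ∈ Q2, a * b' = b' * a) ∧ b ∈ Q2 ∧ q = a * b := by
    intro q hq
    obtain ⟨p, hp, q', hq', hpq⟩ := hSdec _ (hkQ q hq)
    refine ⟨k * p * k⁻¹, k * q' * k⁻¹, h.nN.conj_mem p (Subgroup.mem_inf.mp hp).2 k, ?_,
      (hQ2mem _).mpr ⟨q', hq', rfl⟩, ?_⟩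
    · intro b' hb'
      obtain ⟨q'', hq'', rfl⟩ := (hQ2mem b').mp hb'
      have h1 := hcent p hp q'' hq''
      have e1 : k * p * k⁻¹ * (k * q'' * k⁻¹) = k * (p * q'') * k⁻¹ := by group
      have e2 : k * q'' * k⁻¹ * (k * p * k⁻¹) = k * (q'' * p) * k⁻¹ := by group
      rw [e1, e2, h1]
    · have e : q = k * (k⁻¹ * q * k) * k⁻¹ := by group
      rw [e, hpq]; group
  -- the `N`-components commute with `t`, hence with `Q`
  obtain ⟨at', bt, hatN, hatc, hbt, htab⟩ := hdec t h.tQ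
  have hacomm : ∀ q ∈ Q, ∀ a b, a ∈ N → (∀ b' ∈ Q2, a * b' = b' * a) → b ∈ Q2 → q = a * b →
      ∀ q' ∈ Q, q' * a = a * q' := by
    intro q hq a b haN hac hb hqab
    have htq : q * t = t * q := h.tZ q hq
    -- `(a at')⁻¹ (at' a) = (b bt) (bt b)⁻¹`
    have hv : (a * at')⁻¹ * (at' * a) = (b * bt) * (bt * b)⁻¹ := by
      have e1 : a * b * (at' * bt) = a * at' * (b * bt) := by
        have := hatc b hb
        calc a * b * (at' * bt) = a * (b * at') * bt := by group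
          _ = a * (at' * b) * bt := by rw [this]
          _ = a * at' * (b * bt) := by group
      have e2 : at' * bt * (a * b) = at' * a * (bt * b) := by
        have := hac bt hbt
        calc at' * bt * (a * b) = at' * (bt * a) * b := by group
          _ = at' * (a * bt) * b := by rw [this]
          _ = at' * a * (bt * b) := by group
      have e3 : a * at' * (b * bt) = at' * a * (bt * b) := by
        rw [← e1, ← e2, ← hqab, ← htab]; exact htq
      calc (a * at')⁻¹ * (at' * a) = (a * at')⁻¹ * (at' * a * (bt * b)) * (bt * b)⁻¹ := by group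
        _ = (a * at')⁻¹ * (a * at' * (b * bt)) * (bt * b)⁻¹ := by rw [e3]
        _ = (b * bt) * (bt * b)⁻¹ := by group
    have hvN : (a * at')⁻¹ * (at' * a) ∈ N :=
      Subgroup.mul_mem _ (Subgroup.inv_mem _ (Subgroup.mul_mem _ haN hatN))
        (Subgroup.mul_mem _ hatN haN)
    have hvQ2 : (a * at')⁻¹ * (at' * a) ∈ Q2 := by
      rw [hv]
      exact Subgroup.mul_mem _ (Subgroup.mul_mem _ hb hbt)
        (Subgroup.inv_mem _ (Subgroup.mul_mem _ hbt hb))
    have hv1 := hQ2N _ hvQ2 hvN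
    have haat : at' * a = a * at' := by
      have : at' * a = (a * at') * ((a * at')⁻¹ * (at' * a)) := by group
      rw [this, hv1, mul_one]
    have hta : t * a = a * t := by
      rw [htab]
      have := hac bt hbt
      calc at' * bt * a = at' * (bt * a) := by group
        _ = at' * (a * bt) := by rw [this]
        _ = (at' * a) * bt := by group
        _ = a * at' * bt := by rw [haat]
        _ = a * (at' * bt) := by group
    exact h.hC a haN hta
  -- `[Q,Q] ≤ Q2`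
  have hDQ2 : ⁅Q, Q⁆ ≤ Q2 := by
    rw [Subgroup.commutator_le]
    intro q1 hq1 q2 hq2
    obtain ⟨a1, b1, ha1N, ha1c, hb1, hq1ab⟩ := hdec q1 hq1
    obtain ⟨a2, b2, ha2N, ha2c, hb2, hq2ab⟩ := hdec q2 hq2
    have ha1Q := hacomm q1 hq1 a1 b1 ha1N ha1c hb1 hq1ab
    have c1 : Commute a1 b1 := ha1c b1 hb1
    have c2 : Commute a1 q2 := (ha1Q q2 hq2).symm
    have c3 : Commute a2 b1 := ha2c b1 hb1
    have c4 : Commute a2 b2 := ha2c b2 hb2
    have e1 : ⁅q1, q2⁆ = ⁅b1, q2⁆ := by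
      rw [commutatorElement_def, commutatorElement_def, hq1ab]
      have cw : Commute a1 (b1 * q2 * b1⁻¹) := (c1.mul_right c2).mul_right c1.inv_right
      have := conj_eq_of_commute cw
      calc a1 * b1 * q2 * (a1 * b1)⁻¹ * q2⁻¹ = (a1 * (b1 * q2 * b1⁻¹) * a1⁻¹) * q2⁻¹ := by group
        _ = b1 * q2 * b1⁻¹ * q2⁻¹ := by rw [this]
    have e2 : ⁅b1, q2⁆ = ⁅b1, b2⁆ := by
      rw [commutatorElement_def, commutatorElement_def, hq2ab]
      have cw : Commute a2 (b1 * b2 * b1⁻¹ * b2⁻¹) :=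
        ((c3.mul_right c4).mul_right c3.inv_right).mul_right c4.inv_right
      have := conj_eq_of_commute cw
      have c3' : b1 * a2 = a2 * b1 := c3.eq.symm
      calc b1 * (a2 * b2) * b1⁻¹ * (a2 * b2)⁻¹ = (b1 * a2) * b2 * b1⁻¹ * b2⁻¹ * a2⁻¹ := by group
        _ = (a2 * b1) * b2 * b1⁻¹ * b2⁻¹ * a2⁻¹ := by rw [c3']
        _ = a2 * (b1 * b2 * b1⁻¹ * b2⁻¹) * a2⁻¹ := by group
        _ = b1 * b2 * b1⁻¹ * b2⁻¹ := this
    rw [e1, e2, commutatorElement_def]
    exact Subgroup.mul_mem _ (Subgroup.mul_mem _ (Subgroup.mul_mem _ hb1 hb2)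
      (Subgroup.inv_mem _ hb1)) (Subgroup.inv_mem _ hb2)
  -- conclusion
  have hsQ2 : s ∈ Q2 := hDQ2 hsD
  have hxQ2 : x ∈ Q2 := (hQ2mem x).mpr ⟨s, hsQ, hkx⟩
  have h1 := hQ2N _ (Subgroup.mul_mem _ (Subgroup.inv_mem _ hsQ2) hxQ2) hmN
  have e : x = s * (s⁻¹ * x) := by group
  rw [e, h1, mul_one]

end Cfsg.Agent.Lib.Helper96.NQOdd
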