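/-
helper96: towards S2962, part B: quotients, induction on `|G|`, with the Z*-theorem as a hypothesis.
-/
import Mathlib
import Cfsg.Agent.Lib.Helper96.NQOddA
import Cfsg.Agent.Lib.Helper22.Coprime

set_option autoImplicit false
set_option linter.style.haveILetI false

namespace Cfsg.Agent.Lib.Helper96.NQOdd

open scoped commutatorElement
open Subgroup

universe u

/-- The statement of Glauberman's Z*-theorem (S0215) for all finite groups of a universe. -/
def ZStarStatement : Prop :=
  ∀ (G : Type u) [Group G] [Finite G] (P : Sylow 2 G) (u : G), orderOf u = 2 → u ∈ P →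
    (∀ g : G, g * u * g⁻¹ ∈ P → g * u * g⁻¹ = u) →
    ∃ N : Subgroup G, N.Normal ∧ Odd (Nat.card N) ∧ ∀ g : G, (u * g * u⁻¹ * g⁻¹) ∈ N

variable {G : Type u} [Group G]

/-- In a group of odd order, an element with trivial square is trivial. -/
theorem eq_one_of_sq_of_odd {H : Type*} [Group H] [Finite H] (hodd : Odd (Nat.card H)) (y : H)
    (hy : y ^ 2 = 1) : y = 1 := by
  have h1 : orderOf y ∣ 2 := orderOf_dvd_of_pow_eq_one hy
  have h2 : orderOf y ∣ Nat.card H := orderOf_dvd_natCard y
  have h3 : orderOf y ∣ Nat.gcd 2 (Nat.card H) := Nat.dvd_gcd h1 h2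
  have h4 : Nat.gcd 2 (Nat.card H) = 1 := Nat.coprime_two_left.mpr hodd
  rw [h4, Nat.dvd_one] at h3
  exact orderOf_eq_one_iff.mp h3

variable [Finite G]

/-- Oddness passes from the image and the kernel part to a subgroup. -/
theorem odd_card_of_map (H K : Subgroup G) [K.Normal]
    (h1 : Odd (Nat.card (H.map (QuotientGroup.mk' K))))
    (h2 : Odd (Nat.card (H ⊓ K : Subgroup G))) : Odd (Nat.card H) := by
  by_contra hne
  rw [Nat.not_odd_iff_even, even_iff_two_dvd] at hne
  haveI : Fact (Nat.Prime 2) := ⟨Nat.prime_two⟩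
  obtain ⟨y, hy⟩ := exists_prime_orderOf_dvd_card' 2 hne
  have hy2 : (y : G) ^ 2 = 1 := by
    have : y ^ 2 = 1 := by rw [← hy]; exact pow_orderOf_eq_one y
    have := congrArg (fun z : H => (z : G)) this
    simpa using this
  have hy1 : (y : G) ≠ 1 := by
    intro hh
    have : y = 1 := Subtype.ext hh
    rw [this, orderOf_one] at hy
    omega
  -- image is trivial
  have himg : (QuotientGroup.mk' K) (y : G) = 1 := by
    have hmem : (QuotientGroup.mk' K) (y : G) ∈ H.map (QuotientGroup.mk' K) :=
      Subgroup.mem_map_of_mem _ y.2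
    have := eq_one_of_sq_of_odd h1 ⟨_, hmem⟩ (by
      apply Subtype.ext
      simp only [Subgroup.coe_pow, Subgroup.coe_one]
      rw [← map_pow, hy2, map_one])
    exact congrArg Subtype.val this
  have hyK : (y : G) ∈ K := by
    rwa [QuotientGroup.mk'_apply, QuotientGroup.eq_one_iff] at himg
  have := eq_one_of_sq_of_odd h2 ⟨(y : G), Subgroup.mem_inf.mpr ⟨y.2, hyK⟩⟩ (by
    apply Subtype.ext
    simp only [Subgroup.coe_pow, Subgroup.coe_one]
    exact hy2)
  exact hy1 (congrArg Subtype.val this)

/-- The hypotheses pass to quotients by normal subgroups inside `Q`, or of odd order inside `N`. -/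
theorem Hyp.quot {N Q : Subgroup G} {t : G} (h : Hyp N Q t) (K : Subgroup G) [K.Normal]
    (hK : K ≤ Q ∨ (K ≤ N ∧ Odd (Nat.card K))) :
    Hyp (N.map (QuotientGroup.mk' K)) (Q.map (QuotientGroup.mk' K)) (QuotientGroup.mk' K t) := by
  haveI := h.nN
  haveI : Fact (Nat.Prime 2) := ⟨Nat.prime_two⟩
  have hsurj := QuotientGroup.mk'_surjective K
  refine ⟨Subgroup.Normal.map h.nN _ hsurj, ?_, h.pQ.map _, ?_, Subgroup.mem_map_of_mem _ h.tQ,
    ?_, ?_, ?_⟩
  · rw [← Subgroup.map_sup, h.sup, ← MonoidHom.range_eq_map]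
    exact MonoidHom.range_eq_top.mpr hsurj
  · rw [eq_bot_iff]
    intro x hx
    obtain ⟨hxQ, hxN⟩ := Subgroup.mem_inf.mp hx
    obtain ⟨q, hq, rfl⟩ := Subgroup.mem_map.mp hxQ
    obtain ⟨n, hn, hnq⟩ := Subgroup.mem_map.mp hxN
    rw [Subgroup.mem_bot]
    have hk : n⁻¹ * q ∈ K := by
      rw [QuotientGroup.mk'_apply, QuotientGroup.mk'_apply] at hnq
      exact QuotientGroup.eq.mp hnq
    rcases hK with hKQ | ⟨hKN, _⟩
    · have hnQ : n ∈ Q := by
        have e : n = q * (n⁻¹ * q)⁻¹ := by group
        rw [e]; exact Subgroup.mul_mem _ hq (Subgroup.inv_mem _ (hKQ hk))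
      have : n ∈ Q ⊓ N := Subgroup.mem_inf.mpr ⟨hnQ, hn⟩
      rw [h.disj, Subgroup.mem_bot] at this
      rw [← hnq, this, map_one]
    · have hqN : q ∈ N := by
        have e : q = n * (n⁻¹ * q) := by group
        rw [e]; exact Subgroup.mul_mem _ hn (hKN hk)
      have : q ∈ Q ⊓ N := Subgroup.mem_inf.mpr ⟨hq, hqN⟩
      rw [h.disj, Subgroup.mem_bot] at this
      rw [this, map_one]
  · intro y hy
    obtain ⟨q, hq, rfl⟩ := Subgroup.mem_map.mp hy
    rw [← map_mul, ← map_mul, h.tZ q hq]
  · rw [← Subgroup.map_commutator]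
    exact Subgroup.mem_map_of_mem _ h.tD
  · intro y hy hty z hz
    obtain ⟨n, hn, rfl⟩ := Subgroup.mem_map.mp hy
    obtain ⟨q, hq, rfl⟩ := Subgroup.mem_map.mp hz
    have hk : (n * t)⁻¹ * (t * n) ∈ K := by
      rw [← map_mul, ← map_mul, QuotientGroup.mk'_apply, QuotientGroup.mk'_apply] at hty
      exact QuotientGroup.eq.mp hty.symm
    have hkN : (n * t)⁻¹ * (t * n) ∈ N := by
      have e : (n * t)⁻¹ * (t * n) = (t⁻¹ * n⁻¹ * t⁻¹⁻¹) * n := by group
      rw [e]
      exact Subgroup.mul_mem _ (h.nN.conj_mem _ (Subgroup.inv_mem _ hn) t⁻¹) hn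
    rcases hK with hKQ | ⟨hKN, hKodd⟩
    · have : (n * t)⁻¹ * (t * n) ∈ Q ⊓ N := Subgroup.mem_inf.mpr ⟨hKQ hk, hkN⟩
      rw [h.disj, Subgroup.mem_bot] at this
      have htn : t * n = n * t := by
        have e : t * n = (n * t) * ((n * t)⁻¹ * (t * n)) := by group
        rw [e, this, mul_one]
      rw [← map_mul, ← map_mul, h.hC n hn htn q hq]
    · -- coprime lifting
      have hP2 : IsPGroup 2 (Subgroup.zpowers t) :=
        h.pQ.to_le (Subgroup.zpowers_le.mpr h.tQ)
      have hcop : (Nat.card K).Coprime 2 := Nat.coprime_two_right.mpr hKodd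
      have hinv : ∀ g ∈ Subgroup.zpowers t, ∀ m ∈ K, n⁻¹ * (g * (n * m) * g⁻¹) ∈ K := by
        intro g hg m hm
        rw [← QuotientGroup.eq_one_iff, ← QuotientGroup.mk'_apply]
        have hm1 : (QuotientGroup.mk' K) m = 1 := by
          rw [QuotientGroup.mk'_apply]; exact (QuotientGroup.eq_one_iff m).mpr hm
        obtain ⟨j, rfl⟩ := Subgroup.mem_zpowers_iff.mp hg
        have hc : Commute ((QuotientGroup.mk' K) t) ((QuotientGroup.mk' K) n) := hty
        have hc' : Commute ((QuotientGroup.mk' K) t ^ j) ((QuotientGroup.mk' K) n) :=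
          hc.zpow_left j
        simp only [map_mul, map_inv, map_zpow, hm1, mul_one]
        rw [hc'.eq, mul_inv_cancel_right, inv_mul_cancel]
      obtain ⟨m, hm, hmc⟩ :=
        Cfsg.Agent.Lib.Helper22.exists_centralized_mem_coset (Subgroup.zpowers t) K hP2 hcop n hinv
      have h1 : t * (n * m) = (n * m) * t := hmc t (Subgroup.mem_zpowers t)
      have h2 := h.hC (n * m) (Subgroup.mul_mem _ hn (hKN hm)) h1 q hq
      have hm1 : (QuotientGroup.mk' K) m = 1 := by
        rw [QuotientGroup.mk'_apply]; exact (QuotientGroup.eq_one_iff m).mpr hm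
      have := congrArg (QuotientGroup.mk' K) h2
      simpa only [map_mul, hm1, mul_one] using this


/-- Main theorem (odd order half of S2962), by induction on `|G|`, assuming the Z*-theorem. -/
theorem odd_commutator (ZS : ZStarStatement.{u}) :
    ∀ (n : ℕ) (G : Type u) [Group G] [Finite G], Nat.card G = n →
      ∀ (N Q : Subgroup G) (t : G), Hyp N Q t → Odd (Nat.card ↥⁅N, Q⁆) := by
  intro n
  induction n using Nat.strong_induction_on with
  | _ n ih =>
    intro G _ _ hn N Q t h
    haveI : Fact (Nat.Prime 2) := ⟨Nat.prime_two⟩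
    haveI := h.nN
    by_cases ht : t = 1
    · have hb : ⁅N, Q⁆ = ⊥ := by
        rw [Subgroup.commutator_eq_bot_iff_le_centralizer]
        intro m hm
        rw [Subgroup.mem_centralizer_iff]
        intro q hq
        exact h.hC m hm (by rw [ht, one_mul, mul_one]) q hq
      rw [hb]
      simp
    · -- the involution `t0` of `⟨t⟩`
      have hot : 2 ∣ orderOf t := by
        obtain ⟨k, hk⟩ := h.pQ ⟨t, h.tQ⟩
        have hk' : t ^ 2 ^ k = 1 := by
          have := congrArg (fun z : Q => (z : G)) hk
          simpa using this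
        have hd : orderOf t ∣ 2 ^ k := orderOf_dvd_of_pow_eq_one hk'
        obtain ⟨j, _, hj⟩ := (Nat.dvd_prime_pow Nat.prime_two).mp hd
        rcases Nat.eq_zero_or_pos j with hj0 | hj0
        · rw [hj0, pow_zero, orderOf_eq_one_iff] at hj
          exact absurd hj ht
        · rw [hj]; exact dvd_pow_self 2 (by omega)
      have hot0 : orderOf t ≠ 0 := (orderOf_pos t).ne'
      set t0 := t ^ (orderOf t / 2) with ht0def
      have ht0 : orderOf t0 = 2 := orderOf_pow_orderOf_div hot0 hot
      have ht0Q : t0 ∈ Q := Subgroup.pow_mem _ h.tQ _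
      have ht0Z : ∀ q ∈ Q, q * t0 = t0 * q := by
        intro q hq
        have hc : Commute q t := h.tZ q hq
        exact (hc.pow_right _).eq
      have ht0D : t0 ∈ ⁅Q, Q⁆ := Subgroup.pow_mem _ h.tD _
      have ht01 : t0 ≠ 1 := by
        intro hh
        rw [hh, orderOf_one] at ht0
        omega
      obtain ⟨S, hQS⟩ := h.pQ.exists_le_sylow
      obtain ⟨O, hOn, hOodd, hO⟩ := ZS G S t0 ht0 (hQS ht0Q)
        (fun g hg => h.isolated S hQS t0 ht0Q ht0Z ht0D g hg)
      haveI := hOn
      have hDN : ⁅N, Q⁆ ≤ N := Subgroup.commutator_le_left N Q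
      by_cases hM : N ⊓ O = ⊥
      · -- `t0` is central
        have ht0N : ∀ m ∈ N, t0 * m = m * t0 := by
          intro m hm
          have h1 : t0 * m * t0⁻¹ * m⁻¹ ∈ N ⊓ O := by
            refine Subgroup.mem_inf.mpr ⟨?_, hO m⟩
            exact Subgroup.mul_mem _ (h.nN.conj_mem m hm t0) (Subgroup.inv_mem _ hm)
          rw [hM, Subgroup.mem_bot] at h1
          have e : t0 * m = (t0 * m * t0⁻¹ * m⁻¹) * (m * t0) := by group
          rw [e, h1, one_mul]
        have ht0c : ∀ g : G, g * t0 = t0 * g := by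
          intro g
          obtain ⟨m, hm, q, hq, rfl⟩ := h.decomp g
          have h1 := ht0N m hm
          have h2 := ht0Z q hq
          calc m * q * t0 = m * (q * t0) := by group
            _ = m * (t0 * q) := by rw [h2]
            _ = (m * t0) * q := by group
            _ = t0 * m * q := by rw [h1]
            _ = t0 * (m * q) := by group
        set K := Subgroup.zpowers t0 with hK
        haveI hKn : K.Normal := by
          refine ⟨fun k hk g => ?_⟩
          obtain ⟨j, rfl⟩ := Subgroup.mem_zpowers_iff.mp hk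
          have hc : Commute g t0 := ht0c g
          have hc' : Commute g (t0 ^ j) := hc.zpow_right j
          rw [hc'.eq, mul_inv_cancel_right]
          exact Subgroup.zpow_mem _ (Subgroup.mem_zpowers t0) j
        have hKQ : K ≤ Q := Subgroup.zpowers_le.mpr ht0Q
        have hKne : K ≠ ⊥ := by
          intro hh
          have : t0 ∈ K := Subgroup.mem_zpowers t0
          rw [hh, Subgroup.mem_bot] at this
          exact ht01 this
        have hlt : Nat.card (G ⧸ K) < n := by
          rw [← hn, Subgroup.card_eq_card_quotient_mul_card_subgroup K]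
          have : 1 < Nat.card K := (Subgroup.one_lt_card_iff_ne_bot K).mpr hKne
          have hpos : 0 < Nat.card (G ⧸ K) := Nat.card_pos
          nlinarith
        have hq := ih _ hlt (G ⧸ K) rfl _ _ _ (h.quot K (Or.inl hKQ))
        rw [← Subgroup.map_commutator] at hq
        refine odd_card_of_map _ K hq ?_
        have : ⁅N, Q⁆ ⊓ K = ⊥ := by
          rw [eq_bot_iff, ← h.disj]
          exact le_inf (inf_le_right.trans hKQ) (inf_le_left.trans hDN)
        rw [this]; simp
      · set K := N ⊓ O with hK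
        have hKN : K ≤ N := inf_le_left
        have hKodd : Odd (Nat.card K) :=
          Odd.of_dvd_nat hOodd (Subgroup.card_dvd_of_le inf_le_right)
        have hlt : Nat.card (G ⧸ K) < n := by
          rw [← hn, Subgroup.card_eq_card_quotient_mul_card_subgroup K]
          have : 1 < Nat.card K := (Subgroup.one_lt_card_iff_ne_bot K).mpr hM
          have hpos : 0 < Nat.card (G ⧸ K) := Nat.card_pos
          nlinarith
        have hq := ih _ hlt (G ⧸ K) rfl _ _ _ (h.quot K (Or.inr ⟨hKN, hKodd⟩))
        rw [← Subgroup.map_commutator] at hq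
        refine odd_card_of_map _ K hq ?_
        exact Odd.of_dvd_nat hKodd (Subgroup.card_dvd_of_le inf_le_right)

end Cfsg.Agent.Lib.Helper96.NQOdd
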