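import Mathlib
import Cfsg.Agent.Lib.Helper96.NilpotentPermNum

/-!
# Numerical lemmas for the order of nilpotent subgroups of alternating groups

`gA n` is twice the maximal order of a nilpotent subgroup of the alternating group of degree `n`
(for `n` not congruent to `3` modulo `4` and `n ∉ {5, 6, 9}` it equals `s2 n`).
-/

set_option autoImplicit false

namespace Cfsg.Agent.Lib.Helper96.NilpotentPerm

open Nat

/-! ### Values and growth of `s2` -/

theorem s2_eq (n : ℕ) : s2 n = 2 ^ (n - (Nat.digits 2 n).sum) := by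
  have h1 := Nat.sub_one_mul_factorization_factorial (n := n) Nat.prime_two
  have h2 : (2 - 1) * n.factorial.factorization 2 = n.factorial.factorization 2 := by norm_num
  rw [h2] at h1
  unfold s2
  rw [h1]

theorem s2_one : s2 1 = 1 := by rw [s2_eq]; norm_num
theorem s2_four : s2 4 = 8 := by rw [s2_eq]; norm_num
theorem s2_seven : s2 7 = 16 := by rw [s2_eq]; norm_num
theorem s2_eight : s2 8 = 128 := by rw [s2_eq]; norm_num
theorem s2_ten : s2 10 = 256 := by rw [s2_eq]; norm_num
theorem s2_twelve : s2 12 = 1024 := by rw [s2_eq]; norm_num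
theorem s2_twentyseven : s2 27 = 2 ^ 23 := by rw [s2_eq]; norm_num

theorem s2_succ_of_even (n : ℕ) (hn : n % 2 = 0) : s2 (n + 1) = s2 n := by
  unfold s2
  rw [Nat.factorial_succ, Nat.factorization_mul (by omega) (Nat.factorial_ne_zero n)]
  have h : (n + 1).factorization 2 = 0 := Nat.factorization_eq_zero_of_not_dvd (by omega)
  simp [h]

theorem s2_pred_of_odd (m : ℕ) (hm : m % 2 = 1) : s2 (m - 1) = s2 m := by
  have h := s2_succ_of_even (m - 1) (by omega)
  have h1 : m - 1 + 1 = m := by omega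
  rw [h1] at h
  exact h.symm

theorem two_mul_s2_le_succ (n : ℕ) (hn : n % 2 = 1) : 2 * s2 n ≤ s2 (n + 1) := by
  have hdvd : 2 ^ (1 + n.factorial.factorization 2) ∣ (n + 1).factorial := by
    rw [Nat.factorial_succ, pow_add, pow_one]
    exact Nat.mul_dvd_mul (Nat.dvd_of_mod_eq_zero (by omega)) (s2_dvd_factorial n)
  rw [two_pow_dvd_factorial_iff] at hdvd
  unfold s2
  calc 2 * 2 ^ (n.factorial.factorization 2) = 2 ^ (1 + n.factorial.factorization 2) := by
        rw [pow_add, pow_one]
    _ ≤ 2 ^ ((n + 1).factorial.factorization 2) := Nat.pow_le_pow_right (by norm_num) hdvd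

/-! ### Sharper bound for odd prime powers -/

theorem pow_three_mul_le' (k : ℕ) (hk : 15 ≤ k) : 3 ^ k * (2 * (2 * k + 1)) ≤ 4 ^ k := by
  induction k, hk using Nat.le_induction with
  | base => norm_num
  | succ n hn ih =>
    rw [pow_succ, pow_succ]
    have h1 : 3 * (2 * (2 * (n + 1) + 1)) ≤ 4 * (2 * (2 * n + 1)) := by omega
    calc 3 ^ n * 3 * (2 * (2 * (n + 1) + 1)) = 3 ^ n * (3 * (2 * (2 * (n + 1) + 1))) := by ring
      _ ≤ 3 ^ n * (4 * (2 * (2 * n + 1))) := Nat.mul_le_mul_left _ h1
      _ = (3 ^ n * (2 * (2 * n + 1))) * 4 := by ring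
      _ ≤ 4 ^ n * 4 := Nat.mul_le_mul_right _ ih

theorem pow_five_mul_le' (k : ℕ) (hk : 3 ≤ k) : 5 ^ k * (2 * (4 * k + 1)) ≤ 16 ^ k := by
  induction k, hk using Nat.le_induction with
  | base => norm_num
  | succ n hn ih =>
    rw [pow_succ, pow_succ]
    have h1 : 5 * (2 * (4 * (n + 1) + 1)) ≤ 16 * (2 * (4 * n + 1)) := by omega
    calc 5 ^ n * 5 * (2 * (4 * (n + 1) + 1)) = 5 ^ n * (5 * (2 * (4 * (n + 1) + 1))) := by ring
      _ ≤ 5 ^ n * (16 * (2 * (4 * n + 1))) := Nat.mul_le_mul_left _ h1
      _ = (5 ^ n * (2 * (4 * n + 1))) * 16 := by ring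
      _ ≤ 16 ^ n * 16 := Nat.mul_le_mul_right _ ih

theorem pow_seven_mul_le' (k : ℕ) (hk : 2 ≤ k) : 7 ^ k * (2 * (6 * k + 1)) ≤ 64 ^ k := by
  induction k, hk using Nat.le_induction with
  | base => norm_num
  | succ n hn ih =>
    rw [pow_succ, pow_succ]
    have h1 : 7 * (2 * (6 * (n + 1) + 1)) ≤ 64 * (2 * (6 * n + 1)) := by omega
    calc 7 ^ n * 7 * (2 * (6 * (n + 1) + 1)) = 7 ^ n * (7 * (2 * (6 * (n + 1) + 1))) := by ring
      _ ≤ 7 ^ n * (64 * (2 * (6 * n + 1))) := Nat.mul_le_mul_left _ h1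
      _ = (7 ^ n * (2 * (6 * n + 1))) * 64 := by ring
      _ ≤ 64 ^ n * 64 := Nat.mul_le_mul_right _ ih

theorem sq_le_two_pow_sub_two (p : ℕ) (hp : 8 ≤ p) : p ^ 2 ≤ 2 ^ (p - 2) := by
  induction p, hp using Nat.le_induction with
  | base => norm_num
  | succ n hn ih =>
    have h1 : n + 1 - 2 = (n - 2) + 1 := by omega
    have h2 : 2 ^ (n + 1 - 2) = 2 * 2 ^ (n - 2) := by rw [h1, pow_succ]; ring
    rw [h2]
    have h3 : (n + 1) ^ 2 ≤ 2 * n ^ 2 := by nlinarith
    exact h3.trans (Nat.mul_le_mul_left 2 ih)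

/-- Twice the order of a Sylow `p`-subgroup of the symmetric group of degree `p ^ e` (`p` odd) is at
most the order of a Sylow `2`-subgroup, except in degrees `1, 3, 5, 9`. -/
theorem two_mul_prime_pow_le_s2 {p : ℕ} (hp : p.Prime) (hp2 : p ≠ 2) (e : ℕ)
    (h1 : p ^ e ≠ 1) (h3 : p ^ e ≠ 3) (h5 : p ^ e ≠ 5) (h9 : p ^ e ≠ 9) :
    2 * p ^ ((p ^ e).factorial.factorization p) ≤ s2 (p ^ e) := by
  have hq0 : p ^ e ≠ 0 := pow_ne_zero _ hp.ne_zero
  have hqpos : 0 < p ^ e := Nat.pos_of_ne_zero hq0
  have he0 : e ≠ 0 := by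
    rintro rfl
    exact h1 (pow_zero p)
  set q := p ^ e with hq
  set k := q.factorial.factorization p with hk
  have hrel : (p - 1) * k = q - 1 := sub_one_mul_factorization_factorial_prime_pow hp e
  have hp1 : 1 ≤ p - 1 := by have := hp.two_le; omega
  have hsuff : p ^ k * (4 * q) ≤ 2 ^ q → 2 * p ^ k ≤ s2 q := by
    intro h
    have h2 := h.trans (two_pow_le_s2_mul q hq0)
    have h3 : 2 * p ^ k * (2 * q) ≤ s2 q * (2 * q) := by
      calc 2 * p ^ k * (2 * q) = p ^ k * (4 * q) := by ring
        _ ≤ s2 q * (2 * q) := h2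
    exact Nat.le_of_mul_le_mul_right h3 (by omega)
  have hq1 : q = (p - 1) * k + 1 := by omega
  by_cases hp3 : p = 3
  · subst hp3
    have hrel' : 2 * k = q - 1 := by simpa using hrel
    rcases Nat.lt_or_ge e 4 with he | he
    · interval_cases e
      · exact absurd rfl he0
      · exact absurd (by simp [hq]) h3
      · exact absurd (by simp [hq]) h9
      · have hq27 : q = 27 := by simp [hq]
        have hk13 : k = 13 := by omega
        rw [hk13, hq27, s2_twentyseven]
        norm_num
    · have hq81 : 81 ≤ q := by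
        calc 81 = 3 ^ 4 := by norm_num
          _ ≤ 3 ^ e := Nat.pow_le_pow_right (by norm_num) he
      have hk15 : 15 ≤ k := by omega
      apply hsuff
      have h4 := pow_three_mul_le' k hk15
      have hq2 : q = 2 * k + 1 := by omega
      calc 3 ^ k * (4 * q) = 2 * (3 ^ k * (2 * (2 * k + 1))) := by rw [hq2]; ring
        _ ≤ 2 * 4 ^ k := Nat.mul_le_mul_left _ h4
        _ = 2 ^ (2 * k + 1) := by
          rw [pow_succ, pow_mul]; norm_num; ring
        _ = 2 ^ q := by rw [← hq2]
  by_cases hp5 : p = 5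
  · subst hp5
    have hrel' : 4 * k = q - 1 := by simpa using hrel
    rcases Nat.lt_or_ge e 2 with he | he
    · interval_cases e
      · exact absurd rfl he0
      · exact absurd (by simp [hq]) h5
    · have hq25 : 25 ≤ q := by
        calc 25 = 5 ^ 2 := by norm_num
          _ ≤ 5 ^ e := Nat.pow_le_pow_right (by norm_num) he
      have hk3 : 3 ≤ k := by omega
      apply hsuff
      have h4 := pow_five_mul_le' k hk3
      have hq2 : q = 4 * k + 1 := by omega
      calc 5 ^ k * (4 * q) = 2 * (5 ^ k * (2 * (4 * k + 1))) := by rw [hq2]; ring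
        _ ≤ 2 * 16 ^ k := Nat.mul_le_mul_left _ h4
        _ = 2 ^ (4 * k + 1) := by
          rw [pow_succ, pow_mul]; norm_num; ring
        _ = 2 ^ q := by rw [← hq2]
  by_cases hp7 : p = 7
  · subst hp7
    have hrel' : 6 * k = q - 1 := by simpa using hrel
    rcases Nat.lt_or_ge e 2 with he | he
    · interval_cases e
      · exact absurd rfl he0
      · have hq7 : q = 7 := by simp [hq]
        have hk1 : k = 1 := by omega
        rw [hk1, hq7, s2_seven]
        norm_num
    · have hq49 : 49 ≤ q := by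
        calc 49 = 7 ^ 2 := by norm_num
          _ ≤ 7 ^ e := Nat.pow_le_pow_right (by norm_num) he
      have hk2 : 2 ≤ k := by omega
      apply hsuff
      have h4 := pow_seven_mul_le' k hk2
      have hq2 : q = 6 * k + 1 := by omega
      calc 7 ^ k * (4 * q) = 2 * (7 ^ k * (2 * (6 * k + 1))) := by rw [hq2]; ring
        _ ≤ 2 * 64 ^ k := Nat.mul_le_mul_left _ h4
        _ = 2 ^ (6 * k + 1) := by
          rw [pow_succ, pow_mul]; norm_num; ring
        _ = 2 ^ q := by rw [← hq2]
  · -- `p ≥ 11`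
    have hp11 : 11 ≤ p := by
      have h2 := hp.two_le
      by_contra hlt
      push Not at hlt
      interval_cases p
      · exact hp2 rfl
      · exact hp3 rfl
      · exact absurd hp (by norm_num)
      · exact hp5 rfl
      · exact absurd hp (by norm_num)
      · exact hp7 rfl
      · exact absurd hp (by norm_num)
      · exact absurd hp (by norm_num)
      · exact absurd hp (by norm_num)
    have hk1 : 1 ≤ k := by
      by_contra hk0
      have : k = 0 := by omega
      rw [this] at hq1
      have hpe : p ≤ q := by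
        calc p = p ^ 1 := (pow_one p).symm
          _ ≤ p ^ e := Nat.pow_le_pow_right hp.pos (Nat.pos_of_ne_zero he0)
      omega
    apply hsuff
    have h4 := sq_le_two_pow_sub_two p (by omega)
    have h5 : q ≤ p ^ k := by rw [hq1]; exact bernoulli_nat p k (by omega)
    obtain ⟨a, ha⟩ : ∃ a, p = a + 2 := ⟨p - 2, by omega⟩
    have ha1 : p - 1 = a + 1 := by omega
    have ha2 : p - 2 = a := by omega
    rw [ha2] at h4
    have hexp : a * k + 2 ≤ q := by
      rw [hq1, ha1]
      nlinarith
    calc p ^ k * (4 * q) ≤ p ^ k * (4 * p ^ k) :=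
          Nat.mul_le_mul_left _ (Nat.mul_le_mul_left _ h5)
      _ = 4 * (p ^ 2) ^ k := by rw [← pow_mul, mul_comm 2 k, pow_mul]; ring
      _ ≤ 4 * (2 ^ a) ^ k := Nat.mul_le_mul_left _ (Nat.pow_le_pow_left h4 k)
      _ = 2 ^ (a * k + 2) := by rw [← pow_mul, pow_add]; ring
      _ ≤ 2 ^ q := Nat.pow_le_pow_right (by norm_num) hexp

/-! ### Multiplicativity of `bT` and the bound for non-prime-powers -/

theorem bT_mul_of_coprime {a b : ℕ} (hab : a.Coprime b) : bT (a * b) = bT a * bT b := by
  unfold bT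
  rw [hab.primeFactors_mul, Finset.prod_union hab.disjoint_primeFactors]
  congr 1
  · apply Finset.prod_congr rfl
    intro p hp
    rw [Nat.factorization_eq_of_coprime_left hab (List.mem_toFinset.1 hp)]
  · apply Finset.prod_congr rfl
    intro p hp
    rw [Nat.factorization_eq_of_coprime_right hab (List.mem_toFinset.1 hp)]

theorem bT_prime_pow {p e : ℕ} (hp : p.Prime) (he : e ≠ 0) :
    bT (p ^ e) = p ^ ((p ^ e).factorial.factorization p) := by
  unfold bT
  rw [Nat.primeFactors_prime_pow he hp, Finset.prod_singleton, hp.factorization_pow]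
  simp

theorem bT_one : bT 1 = 1 := by simp [bT]

theorem bT_five : bT 5 = 5 := by
  have h := bT_prime_pow (p := 5) (e := 1) (by norm_num) one_ne_zero
  have h2 := sub_one_mul_factorization_factorial_prime_pow (p := 5) (by norm_num) 1
  have h3 : ((5 : ℕ) ^ 1).factorial.factorization 5 = 1 := by omega
  rw [h3] at h
  simpa using h

theorem bT_nine : bT 9 = 81 := by
  have h := bT_prime_pow (p := 3) (e := 2) (by norm_num) two_ne_zero
  have h2 := sub_one_mul_factorization_factorial_prime_pow (p := 3) (by norm_num) 2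
  have h3 : ((3 : ℕ) ^ 2).factorial.factorization 3 = 4 := by omega
  rw [h3] at h
  simpa using h

theorem two_mul_bT_mul_le {a b : ℕ} (ha : 2 ≤ a) (hb : 2 ≤ b) (hab : a.Coprime b) :
    2 * (bT a * bT b) ≤ s2 (a * b) := by
  have key : ∀ b : ℕ, 2 ≤ b → b ≠ 3 → 2 * (bT 3 * bT b) ≤ s2 (3 * b) := by
    intro b hb hb3
    have h1 := bT_le_s2 b (by omega) hb3
    rw [bT_three]
    calc 2 * (3 * bT b) ≤ 8 * s2 b := by omega
      _ = s2 4 * s2 b := by rw [s2_four]
      _ ≤ s2 (4 + b) := s2_mul_le _ _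
      _ ≤ s2 (3 * b) := s2_mono (by omega)
  by_cases ha3 : a = 3
  · subst ha3
    have hb3 : b ≠ 3 := by
      rintro rfl
      simp at hab
    exact key b hb hb3
  by_cases hb3 : b = 3
  · subst hb3
    have := key a ha ha3
    rw [mul_comm (bT a), mul_comm a]
    exact this
  have h1 := bT_le_s2 a (by omega) ha3
  have h2 := bT_le_s2 b (by omega) hb3
  have hsum : 2 + (a + b) ≤ a * b := by
    by_cases ha2 : a = 2
    · subst ha2
      have hodd : ¬ 2 ∣ b := by
        intro h
        have h3 := Nat.dvd_gcd (dvd_refl 2) h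
        rw [hab] at h3
        omega
      omega
    by_cases hb2 : b = 2
    · subst hb2
      have hodd : ¬ 2 ∣ a := by
        intro h
        have h3 := Nat.dvd_gcd h (dvd_refl 2)
        rw [hab] at h3
        omega
      omega
    have ha4 : 4 ≤ a := by omega
    have hb4 : 4 ≤ b := by omega
    nlinarith
  calc 2 * (bT a * bT b) ≤ 2 * (s2 a * s2 b) :=
        Nat.mul_le_mul_left _ (Nat.mul_le_mul h1 h2)
    _ ≤ s2 2 * s2 (a + b) := by
        rw [s2_two]
        exact Nat.mul_le_mul_left _ (s2_mul_le _ _)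
    _ ≤ s2 (2 + (a + b)) := s2_mul_le _ _
    _ ≤ s2 (a * b) := s2_mono hsum

/-- If `m` is not a power of its prime divisor `p` then `2 * bT m ≤ s2 m`. -/
theorem two_mul_bT_le_s2_of_ne_pow (m p : ℕ) (hm : m ≠ 0) (hp : p.Prime) (hpm : p ∣ m)
    (hne : m ≠ p ^ m.factorization p) : 2 * bT m ≤ s2 m := by
  have hprod := Nat.ordProj_mul_ordCompl_eq_self m p
  have hcop : (p ^ m.factorization p).Coprime (m / p ^ m.factorization p) :=
    (Nat.coprime_ordCompl hp hm).pow_left _
  have hfpos : 0 < m.factorization p := hp.factorization_pos_of_dvd hm hpm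
  have ha : 2 ≤ p ^ m.factorization p := by
    calc 2 ≤ p := hp.two_le
      _ = p ^ 1 := (pow_one p).symm
      _ ≤ p ^ m.factorization p := Nat.pow_le_pow_right hp.pos hfpos
  have hb : 2 ≤ m / p ^ m.factorization p := by
    by_contra hlt
    push Not at hlt
    interval_cases hq : m / p ^ m.factorization p
    · rw [mul_zero] at hprod
      exact hm hprod.symm
    · rw [mul_one] at hprod
      exact hne hprod.symm
  have h := two_mul_bT_mul_le ha hb hcop
  rw [← bT_mul_of_coprime hcop, hprod] at h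
  exact h

theorem two_mul_bT_le_s2_of_odd (m : ℕ) (hodd : m % 2 = 1) (h1 : m ≠ 1) (h3 : m ≠ 3)
    (h5 : m ≠ 5) (h9 : m ≠ 9) : 2 * bT m ≤ s2 m := by
  have hm0 : m ≠ 0 := by omega
  have hp : m.minFac.Prime := Nat.minFac_prime h1
  have hpm : m.minFac ∣ m := Nat.minFac_dvd m
  have hp2 : m.minFac ≠ 2 := by
    intro h
    rw [h] at hpm
    omega
  by_cases hpow : m = m.minFac ^ m.factorization m.minFac
  · have he : m.factorization m.minFac ≠ 0 :=
      (hp.factorization_pos_of_dvd hm0 hpm).ne'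
    have h := two_mul_prime_pow_le_s2 hp hp2 (m.factorization m.minFac)
      (by rw [← hpow]; exact h1) (by rw [← hpow]; exact h3) (by rw [← hpow]; exact h5)
      (by rw [← hpow]; exact h9)
    rw [← bT_prime_pow hp he, ← hpow] at h
    exact h
  · exact two_mul_bT_le_s2_of_ne_pow m _ hm0 hp hpm hpow

theorem two_mul_bT_le_s2_of_even (m : ℕ) (hm0 : m ≠ 0) (heven : m % 2 = 0)
    (hne : ∀ a, m ≠ 2 ^ a) : 2 * bT m ≤ s2 m :=
  two_mul_bT_le_s2_of_ne_pow m 2 hm0 Nat.prime_two (Nat.dvd_of_mod_eq_zero heven) (hne _)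

/-! ### Products -/

theorem s2_mul_s2'_le (m r : ℕ) : s2 m * s2' r ≤ s2' (m + r) := by
  by_cases hr3 : r % 4 = 3
  · have h1 : s2' r = 3 * s2 (r - 3) := by unfold s2'; rw [if_pos hr3]
    rw [h1]
    have h5 : s2 m * s2 (r - 3) ≤ s2 (m + r - 3) := by
      have := s2_mul_le m (r - 3)
      have h7 : m + (r - 3) = m + r - 3 := by omega
      rwa [h7] at this
    have h6 : 3 * s2 (m + r - 3) ≤ s2' (m + r) := by
      unfold s2'
      split_ifs with h
      · exact le_rfl
      · have h4 := four_mul_s2_le (m + r) (by omega) h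
        have := s2_pos (m + r - 3)
        omega
    calc s2 m * (3 * s2 (r - 3)) = 3 * (s2 m * s2 (r - 3)) := by ring
      _ ≤ 3 * s2 (m + r - 3) := Nat.mul_le_mul_left _ h5
      _ ≤ s2' (m + r) := h6
  · have h1 : s2' r = s2 r := by unfold s2'; rw [if_neg hr3]
    rw [h1]
    exact (s2_mul_le _ _).trans (s2_le_s2' _)

/-- Twice the maximal order of a nilpotent subgroup of the alternating group of degree `n`. -/
def gA (n : ℕ) : ℕ :=
  if n = 0 ∨ n = 1 then 2 else if n = 3 then 6 else if n = 5 then 10 else if n = 6 then 18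
  else if n = 9 then 162 else s2' n

theorem gA_eq (n : ℕ) (h0 : n ≠ 0) (h1 : n ≠ 1) (h3 : n ≠ 3) (h5 : n ≠ 5) (h6 : n ≠ 6)
    (h9 : n ≠ 9) : gA n = s2' n := by
  unfold gA
  rw [if_neg (by omega), if_neg h3, if_neg h5, if_neg h6, if_neg h9]

theorem s2'_le_gA (n : ℕ) : s2' n ≤ gA n := by
  unfold gA
  split_ifs with h01 h3 h5 h6 h9
  · rcases h01 with rfl | rfl
    · simp [s2', s2_zero]
    · simp [s2', s2_one]
  · subst h3; simp [s2', s2_zero]
  · subst h5; simp [s2', s2_five]
  · subst h6; simp [s2', s2_six]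
  · subst h9; simp [s2', s2_nine]
  · exact le_rfl

theorem s2_le_gA (n : ℕ) : s2 n ≤ gA n := (s2_le_s2' n).trans (s2'_le_gA n)

/-- The key numerical inequality for the induction over orbits in the alternating case. -/
theorem bT_mul_gA_le (m k : ℕ) (hodd : m % 2 = 1) : bT m * gA k ≤ gA (m + k) := by
  by_cases hk : k = 0 ∨ k = 1 ∨ k = 3 ∨ k = 5 ∨ k = 6 ∨ k = 9
  · by_cases hm3 : m = 3
    · subst hm3
      rw [bT_three]
      rcases hk with rfl | rfl | rfl | rfl | rfl | rfl
      · simp [gA]
      · simp [gA, s2', s2_four]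
      · simp [gA]
      · simp [gA, s2', s2_eight]
      · simp [gA]
      · simp [gA, s2', s2_twelve]
    · have hb := bT_le_s2 m (by omega) hm3
      have hpred := s2_pred_of_odd m hodd
      -- odd `k`: `gA k ≤ s2 (k + 1)`
      have hoddk : ∀ k : ℕ, gA k ≤ s2 (k + 1) → bT m * gA k ≤ gA (m + k) := by
        intro k hk
        calc bT m * gA k ≤ s2 m * s2 (k + 1) := Nat.mul_le_mul hb hk
          _ = s2 (m - 1) * s2 (k + 1) := by rw [hpred]
          _ ≤ s2 (m - 1 + (k + 1)) := s2_mul_le _ _
          _ = s2 (m + k) := by congr 1; omega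
          _ ≤ gA (m + k) := s2_le_gA _
      rcases hk with rfl | rfl | rfl | rfl | rfl | rfl
      · -- `k = 0`
        have hg0 : gA 0 = 2 := by simp [gA]
        rw [hg0, add_zero]
        by_cases h1 : m = 1
        · subst h1; simp [gA, bT_one]
        by_cases h5 : m = 5
        · subst h5; simp [gA, bT_five]
        by_cases h9 : m = 9
        · subst h9; simp [gA, bT_nine]
        have := two_mul_bT_le_s2_of_odd m hodd h1 hm3 h5 h9
        have h2 := s2_le_gA m
        omega
      · exact hoddk 1 (by simp [gA, s2_two])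
      · exact hoddk 3 (by simp [gA, s2_four])
      · exact hoddk 5 (by simp [gA, s2_six])
      · -- `k = 6`
        have hg6 : gA 6 = 18 := by simp [gA]
        rw [hg6]
        have hs := s2_pos m
        by_cases hm4 : m % 4 = 3
        · have h1 : s2 m = 2 * s2 (m - 3) := s2_eq_two_mul m hm4
          have h2 : s2 (m - 3) * s2 8 ≤ s2 (m - 3 + 8) := s2_mul_le _ _
          have h3 : m - 3 + 8 = m + 5 := by omega
          rw [h3, s2_eight] at h2
          have h4 : s2 (m + 5 + 1) = s2 (m + 5) := s2_succ_of_even _ (by omega)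
          have h5 : s2 (m + 6) ≤ gA (m + 6) := s2_le_gA _
          have h6 : m + 5 + 1 = m + 6 := by omega
          rw [h6] at h4
          omega
        · have h1 : s2' (m + 6) = 3 * s2 (m + 3) := by
            unfold s2'
            rw [if_pos (by omega)]
            have : m + 6 - 3 = m + 3 := by omega
            rw [this]
          have h2 : s2 (m - 1) * s2 4 ≤ s2 (m - 1 + 4) := s2_mul_le _ _
          have h3 : m - 1 + 4 = m + 3 := by omega
          rw [h3, s2_four, hpred] at h2
          have h5 : s2' (m + 6) ≤ gA (m + 6) := s2'_le_gA _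
          omega
      · exact hoddk 9 (by simp [gA, s2_ten])
  · push Not at hk
    obtain ⟨h0, h1, h3, h5, h6, h9⟩ := hk
    rw [gA_eq k h0 h1 h3 h5 h6 h9]
    have h := bT_mul_s2'_le m (m + k) (by omega) (by omega)
    have hk' : m + k - m = k := by omega
    rw [hk'] at h
    exact h.trans (s2'_le_gA _)

end Cfsg.Agent.Lib.Helper96.NilpotentPerm
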