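import Mathlib
import Cfsg.Agent.Lib.Helper96.NilpotentPerm
import Cfsg.Agent.Lib.Helper96.NilpotentAltNum

/-!
# Nilpotent subgroups of alternating groups

Main result `two_mul_card_le_gA`: a nilpotent group of even permutations of degree `n` has order at
most `gA n / 2`, where `gA n = s2 n` unless `n % 4 = 3` or `n ∈ {0, 1, 5, 6, 9}`.
-/

set_option autoImplicit false

namespace Cfsg.Agent.Lib.Helper96.NilpotentPerm

open MulAction Subgroup

/-- The prime divisors of the order of a transitive nilpotent permutation group divide the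
degree. -/
theorem primeFactors_card_subset_of_transitive {T Ω : Type*} [Group T] [Finite T] [MulAction T Ω]
    [Finite Ω] [FaithfulSMul T Ω] [IsPretransitive T Ω] (hT : Group.IsNilpotent T) (ω₀ : Ω) :
    (Nat.card T).primeFactors ⊆ (Nat.card Ω).primeFactors := by
  have hΩne : Nonempty Ω := ⟨ω₀⟩
  have hT0 : Nat.card T ≠ 0 := Nat.card_pos.ne'
  have hΩ0 : Nat.card Ω ≠ 0 := Nat.card_pos.ne'
  intro p hp
  have hpp := Nat.prime_of_mem_primeFactors hp
  have h1 := factorization_card_le_of_transitive hT ω₀ hpp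
  rw [Nat.mem_primeFactors]
  refine ⟨hpp, ?_, hΩ0⟩
  by_contra hnd
  rw [Nat.factorization_eq_zero_of_not_dvd hnd] at h1
  simp only [pow_zero, Nat.factorial_one, Nat.factorization_one, Finsupp.coe_zero,
    Pi.zero_apply, Nat.le_zero_eq] at h1
  have h2 : 0 < (Nat.card T).factorization p :=
    hpp.factorization_pos_of_dvd hT0 (Nat.dvd_of_mem_primeFactors hp)
  omega

/-- A transitive nilpotent group of even permutations of even degree `m` has order at most
`s2 m / 2`. -/
theorem two_mul_card_le_s2_of_transitive_even {Ω : Type*} [Fintype Ω] [DecidableEq Ω]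
    (T : Subgroup (Equiv.Perm Ω)) [IsPretransitive T Ω] (hT : Group.IsNilpotent T)
    (hsign : ∀ g ∈ T, Equiv.Perm.sign g = 1) (ω₀ : Ω) (heven : Nat.card Ω % 2 = 0) :
    2 * Nat.card T ≤ s2 (Nat.card Ω) := by
  have hΩne : Nonempty Ω := ⟨ω₀⟩
  have hm0 : Nat.card Ω ≠ 0 := Nat.card_pos.ne'
  by_cases hpow : ∃ a, Nat.card Ω = 2 ^ a
  · obtain ⟨a, ha⟩ := hpow
    have hsub := primeFactors_card_subset_of_transitive hT ω₀
    have hT0 : Nat.card T ≠ 0 := Nat.card_pos.ne'
    have h2 : ∀ {d : ℕ}, d.Prime → d ∣ Nat.card T → d = 2 := by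
      intro d hd hdvd
      have h3 : d ∈ (Nat.card Ω).primeFactors := hsub (Nat.mem_primeFactors.2 ⟨hd, hdvd, hT0⟩)
      rw [ha] at h3
      have h4 := Nat.dvd_of_mem_primeFactors h3
      exact (Nat.prime_dvd_prime_iff_eq hd Nat.prime_two).1 (hd.dvd_of_dvd_pow h4)
    have hcard := Nat.eq_prime_pow_of_unique_prime_dvd hT0 h2
    have hnt : Nontrivial Ω := by
      rw [← Finite.one_lt_card_iff_nontrivial]
      omega
    have hle : T ≤ alternatingGroup Ω :=
      fun g hg => Equiv.Perm.mem_alternatingGroup.2 (hsign g hg)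
    have hdvd : 2 * Nat.card T ∣ (Nat.card Ω).factorial := by
      rw [← Nat.card_perm, ← two_mul_nat_card_alternatingGroup]
      exact Nat.mul_dvd_mul_left 2 (Subgroup.card_dvd_of_le hle)
    rw [hcard, ← pow_succ', two_pow_dvd_factorial_iff] at hdvd
    rw [hcard, ← pow_succ']
    unfold s2
    exact Nat.pow_le_pow_right (by norm_num) hdvd
  · push Not at hpow
    have h1 := card_le_bT_of_transitive hT ω₀
    have h2 := two_mul_bT_le_s2_of_even (Nat.card Ω) hm0 heven hpow
    omega

/-- A nilpotent group of even permutations of degree `n` has order at most `gA n / 2`. -/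
theorem two_mul_card_le_gA : ∀ (n : ℕ) (Ω : Type) [Fintype Ω] [DecidableEq Ω], Nat.card Ω = n →
    ∀ N : Subgroup (Equiv.Perm Ω), Group.IsNilpotent N → (∀ g ∈ N, Equiv.Perm.sign g = 1) →
    2 * Nat.card N ≤ gA n := by
  intro n
  induction n using Nat.strong_induction_on with
  | _ n ih =>
  intro Ω _ _ hcard N hN hsign
  classical
  rcases isEmpty_or_nonempty Ω with hΩ | ⟨⟨ω₀⟩⟩
  · have h1 : Nat.card N = 1 := Nat.card_unique
    have h0 : n = 0 := by rw [← hcard]; exact Nat.card_of_isEmpty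
    subst h0
    rw [h1]
    simp [gA]
  · have := hN
    let S₁ : SubMulAction N Ω :=
      { carrier := orbit N ω₀
        smul_mem' := fun c x hx => mem_orbit_of_mem_orbit c hx }
    let S₂ : SubMulAction N Ω :=
      { carrier := (orbit N ω₀)ᶜ
        smul_mem' := fun c x hx h => hx (by simpa using mem_orbit_of_mem_orbit c⁻¹ h) }
    let φ₁ : N →* Equiv.Perm S₁ := toPermHom N S₁
    let φ₂ : N →* Equiv.Perm S₂ := toPermHom N S₂
    have hφ₁ : ∀ (g : N) (ω : S₁), ((φ₁ g ω : S₁) : Ω) = (g : Equiv.Perm Ω) (ω : Ω) :=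
      fun g ω => rfl
    have hφ₂ : ∀ (g : N) (ω : S₂), ((φ₂ g ω : S₂) : Ω) = (g : Equiv.Perm Ω) (ω : Ω) :=
      fun g ω => rfl
    let ι : N →* φ₁.range × φ₂.range := φ₁.rangeRestrict.prod φ₂.rangeRestrict
    have hinj : Function.Injective ι := by
      intro g h hgh
      have hgh' : (φ₁.rangeRestrict g, φ₂.rangeRestrict g) =
          (φ₁.rangeRestrict h, φ₂.rangeRestrict h) := hgh
      simp only [Prod.mk.injEq] at hgh'
      have h1 : φ₁ g = φ₁ h := congrArg Subtype.val hgh'.1
      have h2 : φ₂ g = φ₂ h := congrArg Subtype.val hgh'.2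
      apply Subtype.ext
      apply Equiv.ext
      intro ω
      by_cases hω : ω ∈ orbit N ω₀
      · have h3 := congrArg (fun σ : Equiv.Perm S₁ => ((σ ⟨ω, hω⟩ : S₁) : Ω)) h1
        simpa only [hφ₁] using h3
      · have h3 := congrArg (fun σ : Equiv.Perm S₂ => ((σ ⟨ω, hω⟩ : S₂) : Ω)) h2
        simpa only [hφ₂] using h3
    have hle : Nat.card N ≤ Nat.card φ₁.range * Nat.card φ₂.range := by
      rw [← Nat.card_prod]
      exact Nat.card_le_card_of_injective _ hinj
    have hnil₁ : Group.IsNilpotent φ₁.range :=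
      Group.nilpotent_of_surjective φ₁.rangeRestrict φ₁.rangeRestrict_surjective
    have hnil₂ : Group.IsNilpotent φ₂.range :=
      Group.nilpotent_of_surjective φ₂.rangeRestrict φ₂.rangeRestrict_surjective
    have hc₁ : Nat.card S₁ = (orbit N ω₀).ncard := Nat.card_coe_set_eq (orbit N ω₀)
    have hc₂ : Nat.card S₂ = (orbit N ω₀)ᶜ.ncard := Nat.card_coe_set_eq (orbit N ω₀)ᶜ
    have hsum : (orbit N ω₀).ncard + (orbit N ω₀)ᶜ.ncard = n := by
      rw [← hcard]
      exact Set.ncard_add_ncard_compl _ (Set.toFinite _) (Set.toFinite _)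
    have hm1 : 1 ≤ (orbit N ω₀).ncard := by
      rw [Nat.one_le_iff_ne_zero]
      exact Set.ncard_ne_zero_of_mem (mem_orbit_self _) (Set.toFinite _)
    have htrans : IsPretransitive φ₁.range S₁ := by
      refine ⟨fun a b => ?_⟩
      have ha : (a : Ω) ∈ orbit N ω₀ := a.2
      have hb : (b : Ω) ∈ orbit N ω₀ := b.2
      rw [← orbit_eq_iff.2 ha] at hb
      obtain ⟨g, hg⟩ := hb
      refine ⟨⟨φ₁ g, g, rfl⟩, Subtype.ext ?_⟩
      exact hg
    have hb₁ : Nat.card φ₁.range ≤ bT (orbit N ω₀).ncard := by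
      rw [← hc₁]
      exact card_le_bT_of_transitive hnil₁ (⟨ω₀, mem_orbit_self _⟩ : S₁)
    have hb₂ : Nat.card φ₂.range ≤ s2' (n - (orbit N ω₀).ncard) :=
      card_le_s2' (n - (orbit N ω₀).ncard) S₂ (by rw [hc₂]; omega) φ₂.range hnil₂
    have hnm : (orbit N ω₀).ncard + (n - (orbit N ω₀).ncard) = n := by omega
    -- the sign of an element of `N` is the product of the signs on the two parts
    have hsgn : ∀ g : N, Equiv.Perm.sign (φ₁ g) * Equiv.Perm.sign (φ₂ g) = 1 := by
      intro g
      have h1 : (g : Equiv.Perm Ω) =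
          Equiv.Perm.subtypeCongr (p := fun a => a ∈ orbit N ω₀) (φ₁ g) (φ₂ g) := by
        ext ω
        by_cases hω : ω ∈ orbit N ω₀
        · rw [Equiv.Perm.subtypeCongr.left_apply _ _ hω]; rfl
        · rw [Equiv.Perm.subtypeCongr.right_apply _ _ hω]; rfl
      have h2 := hsign g g.2
      rw [h1, Equiv.Perm.sign_subtypeCongr] at h2
      convert h2
    by_cases hA : ∀ g : N, Equiv.Perm.sign (φ₁ g) = 1
    · -- both constituents consist of even permutations
      have hB : ∀ g : N, Equiv.Perm.sign (φ₂ g) = 1 := by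
        intro g
        have := hsgn g
        rwa [hA g, one_mul] at this
      have hsign₁ : ∀ σ ∈ φ₁.range, Equiv.Perm.sign σ = 1 := by
        rintro _ ⟨g, rfl⟩
        exact hA g
      have hsign₂ : ∀ σ ∈ φ₂.range, Equiv.Perm.sign σ = 1 := by
        rintro _ ⟨g, rfl⟩
        exact hB g
      by_cases hpar : (orbit N ω₀).ncard % 2 = 1
      · have h2 : 2 * Nat.card φ₂.range ≤ gA (n - (orbit N ω₀).ncard) :=
          ih (n - (orbit N ω₀).ncard) (by omega) S₂ (by rw [hc₂]; omega) φ₂.range hnil₂ hsign₂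
        have h3 := bT_mul_gA_le (orbit N ω₀).ncard (n - (orbit N ω₀).ncard) hpar
        rw [hnm] at h3
        calc 2 * Nat.card N ≤ 2 * (Nat.card φ₁.range * Nat.card φ₂.range) :=
              Nat.mul_le_mul_left _ hle
          _ = Nat.card φ₁.range * (2 * Nat.card φ₂.range) := by ring
          _ ≤ bT (orbit N ω₀).ncard * gA (n - (orbit N ω₀).ncard) := Nat.mul_le_mul hb₁ h2
          _ ≤ gA n := h3
      · have h2 : 2 * Nat.card φ₁.range ≤ s2 (Nat.card S₁) :=
          two_mul_card_le_s2_of_transitive_even φ₁.range hnil₁ hsign₁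
            (⟨ω₀, mem_orbit_self _⟩ : S₁) (by rw [hc₁]; omega)
        rw [hc₁] at h2
        have h3 := s2_mul_s2'_le (orbit N ω₀).ncard (n - (orbit N ω₀).ncard)
        rw [hnm] at h3
        calc 2 * Nat.card N ≤ 2 * (Nat.card φ₁.range * Nat.card φ₂.range) :=
              Nat.mul_le_mul_left _ hle
          _ = (2 * Nat.card φ₁.range) * Nat.card φ₂.range := by ring
          _ ≤ s2 (orbit N ω₀).ncard * s2' (n - (orbit N ω₀).ncard) := Nat.mul_le_mul h2 hb₂
          _ ≤ s2' n := h3
          _ ≤ gA n := s2'_le_gA n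
    · -- some element is odd on the first orbit: the image lies in a subgroup of index two
      push Not at hA
      obtain ⟨g₀, hg₀⟩ := hA
      let Ψ : φ₁.range × φ₂.range →* ℤˣ :=
        (Equiv.Perm.sign.comp φ₁.range.subtype).coprod (Equiv.Perm.sign.comp φ₂.range.subtype)
      have hΨ : ∀ x : φ₁.range × φ₂.range, Ψ x =
          Equiv.Perm.sign (x.1 : Equiv.Perm S₁) * Equiv.Perm.sign (x.2 : Equiv.Perm S₂) :=
        fun x => rfl
      have hker : ι.range ≤ Ψ.ker := by
        rintro _ ⟨g, rfl⟩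
        rw [MonoidHom.mem_ker, hΨ]
        exact hsgn g
      have hne : Ψ.ker ≠ ⊤ := by
        intro htop
        have h1 : ((⟨φ₁ g₀, g₀, rfl⟩, 1) : φ₁.range × φ₂.range) ∈ Ψ.ker := by
          rw [htop]; exact Subgroup.mem_top _
        rw [MonoidHom.mem_ker, hΨ] at h1
        simp only [OneMemClass.coe_one, map_one, mul_one] at h1
        exact hg₀ h1
      have hidx : 2 ≤ Ψ.ker.index := by
        have h0 : Ψ.ker.index ≠ 0 := Subgroup.index_ne_zero_of_finite
        have h1 : Ψ.ker.index ≠ 1 := fun h => hne (Subgroup.index_eq_one.1 h)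
        omega
      have hcardι : Nat.card ι.range = Nat.card N :=
        (Nat.card_congr (MonoidHom.ofInjective hinj).toEquiv).symm
      have h1 : Nat.card ι.range ≤ Nat.card Ψ.ker := Subgroup.card_le_of_le hker
      have h2 := Subgroup.card_mul_index Ψ.ker
      rw [Nat.card_prod] at h2
      have h3 := bT_mul_s2'_le (orbit N ω₀).ncard n hm1 (by omega)
      calc 2 * Nat.card N = 2 * Nat.card ι.range := by rw [hcardι]
        _ ≤ 2 * Nat.card Ψ.ker := Nat.mul_le_mul_left _ h1
        _ = Nat.card Ψ.ker * 2 := by ring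
        _ ≤ Nat.card Ψ.ker * Ψ.ker.index := Nat.mul_le_mul_left _ hidx
        _ = Nat.card φ₁.range * Nat.card φ₂.range := h2
        _ ≤ bT (orbit N ω₀).ncard * s2' (n - (orbit N ω₀).ncard) := Nat.mul_le_mul hb₁ hb₂
        _ ≤ s2' n := h3
        _ ≤ gA n := s2'_le_gA n

end Cfsg.Agent.Lib.Helper96.NilpotentPerm
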