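import Mathlib
import Cfsg.Agent.S0985
import Cfsg.Agent.Lib.Helper72.SylowCount

/-!
# Simple groups with exactly `2p + 1` Sylow `p`-subgroups

Elementary lemmas about a finite simple group `G` acting on its `2p + 1` Sylow
`p`-subgroups (faithfully, by conjugation).
-/

set_option autoImplicit false

namespace Cfsg.Agent.Lib.Helper96.SylowTwoPPlusOne

open MulAction Subgroup
open scoped Pointwise

variable {G : Type*} [Group G] [Finite G] {p : ℕ} [Fact p.Prime]

/-- In a simple group with more than one Sylow `p`-subgroup, the conjugation action on the set of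
Sylow `p`-subgroups is faithful. -/
theorem toPermHom_ker_eq_bot [IsSimpleGroup G] (h1 : Nat.card (Sylow p G) ≠ 1) :
    (MulAction.toPermHom G (Sylow p G)).ker = ⊥ := by
  rcases (MulAction.toPermHom G (Sylow p G)).normal_ker.eq_bot_or_eq_top with h | h
  · exact h
  · exfalso
    apply h1
    rw [Nat.card_eq_one_iff_unique]
    refine ⟨⟨fun P Q => ?_⟩, Sylow.nonempty⟩
    obtain ⟨g, hg⟩ := MulAction.exists_smul_eq G P Q
    have hgk : g ∈ (MulAction.toPermHom G (Sylow p G)).ker := by rw [h]; trivial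
    rw [MonoidHom.mem_ker] at hgk
    have h2 : (MulAction.toPermHom G (Sylow p G) g) P = P := by rw [hgk]; rfl
    rw [← hg]
    exact h2.symm

/-- Faithfulness, elementwise. -/
theorem eq_one_of_forall_smul_eq [IsSimpleGroup G] (h1 : Nat.card (Sylow p G) ≠ 1) {x : G}
    (hx : ∀ Q : Sylow p G, x • Q = Q) : x = 1 := by
  have hk : x ∈ (MulAction.toPermHom G (Sylow p G)).ker := by
    rw [MonoidHom.mem_ker]
    exact Equiv.ext fun Q => hx Q
  rw [toPermHom_ker_eq_bot h1] at hk
  exact Subgroup.mem_bot.1 hk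

/-- The order of a simple group divides the factorial of its number of Sylow `p`-subgroups, when
there are at least two of them. -/
theorem card_dvd_factorial [IsSimpleGroup G] (h1 : Nat.card (Sylow p G) ≠ 1) :
    Nat.card G ∣ (Nat.card (Sylow p G)).factorial := by
  have hinj : Function.Injective (MulAction.toPermHom G (Sylow p G)) :=
    (MonoidHom.ker_eq_bot_iff _).1 (toPermHom_ker_eq_bot h1)
  have h2 := Subgroup.card_dvd_of_injective _ hinj
  rwa [Nat.card_perm] at h2

/-- **Lemma A.** If `x` commutes with every element of the Sylow `p`-subgroup `P`, then the number of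
Sylow `p`-subgroups normalised by `x` is congruent to `1` modulo `p`. -/
theorem card_fixedBy_modEq_one (P : Sylow p G) {x : G}
    (hx : ∀ g ∈ (P : Subgroup G), g * x = x * g) :
    Nat.card (MulAction.fixedBy (Sylow p G) x) ≡ 1 [MOD p] := by
  let S : SubMulAction (↥(P : Subgroup G)) (Sylow p G) :=
    { carrier := MulAction.fixedBy (Sylow p G) x
      smul_mem' := by
        intro g Q hQ
        rw [MulAction.mem_fixedBy] at hQ ⊢
        change x • ((g : G) • Q) = (g : G) • Q
        rw [smul_smul, ← hx g g.2, ← smul_smul, hQ] }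
  have hPS : P ∈ S := by
    change x • P = P
    rw [Sylow.smul_eq_iff_mem_normalizer]
    apply Subgroup.centralizer_le_normalizer
    rw [Subgroup.mem_centralizer_iff]
    intro g hg
    exact hx g hg
  have key := P.2.card_modEq_card_fixedPoints (↥S)
  have hfix : ∀ a : ↥S, a ∈ fixedPoints (↥(P : Subgroup G)) (↥S) → a.1 = P := by
    intro a ha
    have h1 : a.1 ∈ fixedPoints (↥(P : Subgroup G)) (Sylow p G) := by
      intro g
      have := ha g
      exact congrArg Subtype.val this
    have h2 : (P : Subgroup G) ≤ a.1 := P.2.sylow_mem_fixedPoints_iff.1 h1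
    exact Sylow.ext (P.3 a.1.2 h2)
  have hone : Nat.card (fixedPoints (↥(P : Subgroup G)) (↥S)) = 1 := by
    rw [Nat.card_eq_one_iff_unique]
    refine ⟨⟨fun a b => ?_⟩, ⟨⟨⟨P, hPS⟩, ?_⟩⟩⟩
    · apply Subtype.ext
      apply Subtype.ext
      rw [hfix a.1 a.2, hfix b.1 b.2]
    · intro g
      apply Subtype.ext
      change (g : G) • P = P
      rw [Sylow.smul_eq_iff_mem_normalizer]
      exact Subgroup.le_normalizer g.2
  rw [hone] at key
  exact key

/-- An involution of a simple group with `2p + 1` Sylow `p`-subgroups (`p` odd) cannot normalise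
exactly one of them: it would act as an odd permutation. -/
theorem involution_card_fixedBy_ne_one [IsSimpleGroup G] (hp2 : p ≠ 2)
    (hn : Nat.card (Sylow p G) = 2 * p + 1) {x : G} (hx2 : x ^ 2 = 1) :
    Nat.card (MulAction.fixedBy (Sylow p G) x) ≠ 1 := by
  classical
  intro hfix
  have : Fintype (Sylow p G) := Fintype.ofFinite _
  let σ : Equiv.Perm (Sylow p G) := MulAction.toPermHom G (Sylow p G) x
  have hσ2 : σ ^ 2 = 1 := by
    rw [← map_pow, hx2, map_one]
  have hsign := Equiv.Perm.sign_of_pow_two_eq_one hσ2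
  have hcard : Fintype.card (Sylow p G) = 2 * p + 1 := by
    rw [← Nat.card_eq_fintype_card]; exact hn
  have hfp : Fintype.card (Function.fixedPoints σ) = 1 := by
    rw [← Nat.card_eq_fintype_card]; exact hfix
  rw [hcard, hfp] at hsign
  have hodd : Odd p := (Fact.out : p.Prime).eq_two_or_odd'.resolve_left hp2
  have h3 : (2 * p + 1 - 1) / 2 = p := by omega
  rw [h3, hodd.neg_one_pow] at hsign
  let φ : G →* ℤˣ := Equiv.Perm.sign.comp (MulAction.toPermHom G (Sylow p G))
  have hφx : φ x = -1 := hsign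
  rcases φ.normal_ker.eq_bot_or_eq_top with h | h
  · have hinj : Function.Injective φ := (MonoidHom.ker_eq_bot_iff _).1 h
    have h2 := Subgroup.card_dvd_of_injective _ hinj
    rw [Nat.card_eq_fintype_card (α := ℤˣ), Fintype.card_units_int] at h2
    have h4 : Nat.card G ≤ 2 := Nat.le_of_dvd (by norm_num) h2
    obtain ⟨P⟩ : Nonempty (Sylow p G) := Sylow.nonempty
    have h5 : Nat.card (Sylow p G) ∣ Nat.card G := by
      rw [P.card_eq_index_normalizer]; exact Subgroup.index_dvd_card _
    have h6 := Nat.le_of_dvd Nat.card_pos h5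
    have := (Fact.out : p.Prime).two_le
    omega
  · have hxk : x ∈ φ.ker := by rw [h]; trivial
    rw [MonoidHom.mem_ker, hφx] at hxk
    exact absurd hxk (by decide)

/-- **Claim 1.** In a simple group with `2p + 1` Sylow `p`-subgroups, the centraliser of a Sylow
`p`-subgroup contains no element of prime order `q ≠ p`. -/
theorem not_prime_orderOf_of_mem_centralizer [IsSimpleGroup G]
    (hn : Nat.card (Sylow p G) = 2 * p + 1) (P : Sylow p G) {x : G}
    (hxc : x ∈ centralizer ((P : Subgroup G) : Set G)) {q : ℕ} (hq : q.Prime) (hqp : q ≠ p)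
    (hxo : orderOf x = q) : False := by
  have hp := (Fact.out : p.Prime)
  have hp2 := hp.two_le
  have h1 : Nat.card (Sylow p G) ≠ 1 := by rw [hn]; omega
  have hcomm : ∀ g ∈ (P : Subgroup G), g * x = x * g :=
    fun g hg => Subgroup.mem_centralizer_iff.1 hxc g hg
  have hA := card_fixedBy_modEq_one P hcomm
  have : Fact q.Prime := ⟨hq⟩
  have hq' : IsPGroup q (Subgroup.zpowers x) :=
    IsPGroup.of_card (n := 1) (by rw [Nat.card_zpowers, hxo, pow_one])
  have hB := hq'.card_modEq_card_fixedPoints (Sylow p G)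
  have hfp : fixedPoints (Subgroup.zpowers x) (Sylow p G) = fixedBy (Sylow p G) x := by
    ext Q
    constructor
    · intro hQ
      exact hQ ⟨x, Subgroup.mem_zpowers x⟩
    · intro hQ g
      have hle : Subgroup.zpowers x ≤ stabilizer G Q := by
        rw [Subgroup.zpowers_le]
        exact hQ
      exact hle g.2
  rw [hfp, hn] at hB
  set f := Nat.card (fixedBy (Sylow p G) x) with hf
  have hfle : f ≤ 2 * p + 1 := by
    rw [← hn]
    exact Finite.card_subtype_le _
  have hmod : f % p = 1 := by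
    have h2 : f % p = 1 % p := hA
    rwa [Nat.mod_eq_of_lt hp.one_lt] at h2
  have hdm := Nat.div_add_mod f p
  rw [hmod] at hdm
  have hk : f / p ≤ 2 := by
    by_contra hcon
    push Not at hcon
    have : p * 3 ≤ p * (f / p) := Nat.mul_le_mul_left p hcon
    omega
  have hcases : f = 1 ∨ f = p + 1 ∨ f = 2 * p + 1 := by
    interval_cases hk' : f / p
    · left; omega
    · right; left; omega
    · right; right; omega
  rcases hcases with h | h | h
  · -- exactly one fixed point: `q = 2` and `x` is an involution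
    rw [h] at hB
    have hd : q ∣ 2 * p + 1 - 1 := (Nat.modEq_iff_dvd' (by omega)).1 hB.symm
    have hd2 : q ∣ 2 * p := by
      have : 2 * p + 1 - 1 = 2 * p := by omega
      rwa [this] at hd
    rcases (Nat.Prime.dvd_mul hq).1 hd2 with h2 | h2
    · have hq2 : q = 2 := (Nat.prime_dvd_prime_iff_eq hq Nat.prime_two).1 h2
      have hx2 : x ^ 2 = 1 := by rw [← hq2, ← hxo]; exact pow_orderOf_eq_one x
      exact involution_card_fixedBy_ne_one (fun hp2' => hqp (hq2.trans hp2'.symm)) hn hx2 h
    · exact hqp ((Nat.prime_dvd_prime_iff_eq hq hp).1 h2)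
  · rw [h] at hB
    have hd : q ∣ 2 * p + 1 - (p + 1) := (Nat.modEq_iff_dvd' (by omega)).1 hB.symm
    have hd2 : q ∣ p := by
      have : 2 * p + 1 - (p + 1) = p := by omega
      rwa [this] at hd
    exact hqp ((Nat.prime_dvd_prime_iff_eq hq hp).1 hd2)
  · -- everything fixed: `x = 1`
    have huniv : fixedBy (Sylow p G) x = Set.univ := by
      rw [Set.eq_univ_iff_ncard, ← Nat.card_coe_set_eq, ← hf, h, hn]
    have hx1 : x = 1 := eq_one_of_forall_smul_eq h1 fun Q => by
      have : Q ∈ fixedBy (Sylow p G) x := by rw [huniv]; trivial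
      exact this
    rw [hx1, orderOf_one] at hxo
    exact hq.one_lt.ne' hxo.symm

/-- In a simple group with `2p + 1` Sylow `p`-subgroups, a Sylow `p`-subgroup contains its
centraliser. -/
theorem centralizer_le [IsSimpleGroup G] (hn : Nat.card (Sylow p G) = 2 * p + 1)
    (P : Sylow p G) : centralizer ((P : Subgroup G) : Set G) ≤ (P : Subgroup G) := by
  have hC : IsPGroup p ↥(centralizer ((P : Subgroup G) : Set G)) := by
    rw [IsPGroup.iff_card]
    refine ⟨_, Nat.eq_prime_pow_of_unique_prime_dvd Nat.card_pos.ne' ?_⟩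
    intro q hq hqd
    by_contra hqp
    have : Fact q.Prime := ⟨hq⟩
    obtain ⟨y, hy⟩ := exists_prime_orderOf_dvd_card' q hqd
    exact not_prime_orderOf_of_mem_centralizer hn P y.2 hq hqp
      (by rw [Subgroup.orderOf_coe]; exact hy)
  have h1 := hC.inf_normalizer_sylow P
  have h3 : centralizer ((P : Subgroup G) : Set G) ≤
      centralizer ((P : Subgroup G) : Set G) ⊓ (P : Subgroup G) := by
    rw [← h1]
    exact le_inf le_rfl (Subgroup.centralizer_le_normalizer _)
  exact h3.trans inf_le_right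

/-- In a simple group with `2p + 1` Sylow `p`-subgroups, where `p ^ 3 ∤ (2p + 1)!`, a Sylow
`p`-subgroup has order `p` or `p ^ 2`. -/
theorem card_sylow_eq_or [IsSimpleGroup G] (hn : Nat.card (Sylow p G) = 2 * p + 1)
    (hfact : ¬ p ^ 3 ∣ (2 * p + 1).factorial) (P : Sylow p G) :
    Nat.card (P : Subgroup G) = p ∨ Nat.card (P : Subgroup G) = p ^ 2 := by
  have hp := (Fact.out : p.Prime)
  have hp2 := hp.two_le
  have h1 : Nat.card (Sylow p G) ≠ 1 := by rw [hn]; omega
  have hdvd := card_dvd_factorial (G := G) (p := p) h1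
  rw [hn] at hdvd
  obtain ⟨k, hk⟩ := P.2.exists_card_eq
  have hPd : Nat.card (P : Subgroup G) ∣ Nat.card G := Subgroup.card_subgroup_dvd_card _
  have hk3 : k < 3 := by
    by_contra hcon
    push Not at hcon
    apply hfact
    rw [hk] at hPd
    exact (pow_dvd_pow p hcon).trans (hPd.trans hdvd)
  have hk0 : k ≠ 0 := by
    rintro rfl
    apply h1
    rw [Nat.card_eq_one_iff_unique]
    refine ⟨⟨fun Q R => ?_⟩, Sylow.nonempty⟩
    have hQ : Nat.card (Q : Subgroup G) = 1 := by
      rw [Sylow.card_eq_multiplicity, ← P.card_eq_multiplicity, hk, pow_zero]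
    have hR : Nat.card (R : Subgroup G) = 1 := by
      rw [Sylow.card_eq_multiplicity, ← P.card_eq_multiplicity, hk, pow_zero]
    apply Sylow.ext
    rw [Subgroup.card_eq_one.1 hQ, Subgroup.card_eq_one.1 hR]
  interval_cases k
  · exact absurd rfl hk0
  · left; simpa using hk
  · right; exact hk

/-- **Burnside** for simple groups: a proper nontrivial Sylow subgroup is not central in its
normaliser. -/
theorem not_normalizer_le_centralizer [IsSimpleGroup G] (P : Sylow p G)
    (hbot : (P : Subgroup G) ≠ ⊥) (htop : (P : Subgroup G) ≠ ⊤) :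
    ¬ normalizer ((P : Subgroup G) : Set G) ≤ centralizer ((P : Subgroup G) : Set G) := by
  intro hNC
  have hcompl := MonoidHom.ker_transferSylow_isComplement' P hNC
  rcases (MonoidHom.transferSylow P hNC).normal_ker.eq_bot_or_eq_top with h | h
  · rw [h] at hcompl
    exact htop (Subgroup.isComplement'_bot_left.1 hcompl)
  · rw [h] at hcompl
    exact hbot (Subgroup.isComplement'_top_left.1 hcompl)

/-- `|N(P) : C(P)|` divides `p - 1` for `P` of order `p`. -/
theorem relIndex_centralizer_dvd (P : Sylow p G) (hP : Nat.card (P : Subgroup G) = p) :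
    (centralizer ((P : Subgroup G) : Set G)).relIndex (normalizer ((P : Subgroup G) : Set G)) ∣
      p - 1 := by
  have key := Subgroup.card_dvd_of_injective _
    (QuotientGroup.kerLift_injective (P : Subgroup G).normalizerMonoidHom)
  rw [Subgroup.normalizerMonoidHom_ker, ← Subgroup.index, ← Subgroup.relIndex] at key
  have hcyc : IsCyclic ↥(P : Subgroup G) := isCyclic_of_prime_card hP
  rw [IsCyclic.card_mulAut (↥(P : Subgroup G)), hP, Nat.totient_prime Fact.out] at key
  exact key

/-- A simple group with `2p + 1` Sylow `p`-subgroups of order `p` (`p` odd) has odd order: its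
Sylow `2`-subgroups would be cyclic. -/
theorem odd_card [IsSimpleGroup G] (hp2 : p ≠ 2) (hn : Nat.card (Sylow p G) = 2 * p + 1)
    (hP : ∀ P : Sylow p G, Nat.card (P : Subgroup G) = p) : Odd (Nat.card G) := by
  by_contra hodd
  have heven : 2 ∣ Nat.card G := by
    rw [Nat.not_odd_iff_even] at hodd; exact hodd.two_dvd
  have hp := (Fact.out : p.Prime)
  obtain ⟨T⟩ : Nonempty (Sylow 2 G) := Sylow.nonempty
  have hnd : ¬ 2 ∣ Nat.card (Sylow p G) := by rw [hn]; omega
  obtain ⟨P, hPfix⟩ := T.2.nonempty_fixed_point_of_prime_not_dvd_card (Sylow p G) hnd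
  have hTN : (T : Subgroup G) ≤ normalizer ((P : Subgroup G) : Set G) := by
    intro t ht
    exact Sylow.smul_eq_iff_mem_normalizer.1 (hPfix ⟨t, ht⟩)
  let φ : ↥(T : Subgroup G) →* MulAut ↥(P : Subgroup G) :=
    (P : Subgroup G).normalizerMonoidHom.comp (Subgroup.inclusion hTN)
  have hφ : Function.Injective φ := by
    rw [← MonoidHom.ker_eq_bot_iff, Subgroup.eq_bot_iff_forall]
    intro t ht
    rw [MonoidHom.mem_ker] at ht
    have h1 : Subgroup.inclusion hTN t ∈ (P : Subgroup G).normalizerMonoidHom.ker := ht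
    rw [Subgroup.normalizerMonoidHom_ker, Subgroup.mem_subgroupOf] at h1
    have h2 : (t : G) ∈ (P : Subgroup G) := centralizer_le hn P h1
    have hdisj := IsPGroup.disjoint_of_ne 2 p (Ne.symm hp2) _ _ T.2 P.2
    have h3 : (t : G) ∈ (T : Subgroup G) ⊓ (P : Subgroup G) := ⟨t.2, h2⟩
    rw [hdisj.eq_bot, Subgroup.mem_bot] at h3
    exact Subtype.ext h3
  have : Fact (Nat.card ↥(P : Subgroup G)).Prime := ⟨by rw [hP P]; exact hp⟩
  have hcycP : IsCyclic ↥(P : Subgroup G) := isCyclic_of_prime_card (hP P)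
  have hcycAut : IsCyclic (MulAut ↥(P : Subgroup G)) :=
    isCyclic_of_surjective (IsCyclic.mulAutMulEquiv ↥(P : Subgroup G)).symm
      (MulEquiv.surjective _)
  have hcycT : IsCyclic ↥(T : Subgroup G) := isCyclic_of_injective φ hφ
  have hmin : (Nat.card G).minFac = 2 := (Nat.minFac_eq_two_iff _).2 heven
  have hcompl := IsCyclic.isComplement' hmin hcycT
  have hcm := hcompl.card_mul_card
  rcases (MonoidHom.transferSylow T
    (hcycT.normalizer_le_centralizer hmin)).normal_ker.eq_bot_or_eq_top with h | h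
  · rw [h, Subgroup.card_bot, one_mul] at hcm
    have hpd : p ∣ Nat.card G := (hP P) ▸ Subgroup.card_subgroup_dvd_card (P : Subgroup G)
    rw [← hcm] at hpd
    obtain ⟨k, hk⟩ := T.2.exists_card_eq
    rw [hk] at hpd
    exact hp2 ((Nat.prime_dvd_prime_iff_eq hp Nat.prime_two).1 (hp.dvd_of_dvd_pow hpd))
  · rw [h, Subgroup.card_top] at hcm
    have hT1 : Nat.card (T : Subgroup G) = 1 := by
      have hpos : 0 < Nat.card G := Nat.card_pos
      exact Nat.eq_of_mul_eq_mul_left hpos (by rw [hcm, mul_one])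
    have h2 : 2 ∣ Nat.card (T : Subgroup G) := T.dvd_card_of_dvd_card heven
    rw [hT1] at h2
    omega

/-! ### Excluding Sylow `p`-subgroups of order `p ^ 2` -/

/-- A criterion for a relative index to be at most `2`. -/
theorem relIndex_le_two_of {H K : Subgroup G}
    (h : ∀ a ∈ K, ∀ b ∈ K, a ∈ H ∨ b ∈ H ∨ a⁻¹ * b ∈ H) : H.relIndex K ≤ 2 := by
  classical
  by_contra hcon
  push Not at hcon
  have : Fintype (↥K ⧸ H.subgroupOf K) := Fintype.ofFinite _
  have h3 : 2 < Fintype.card (↥K ⧸ H.subgroupOf K) := by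
    rw [← Nat.card_eq_fintype_card]; exact hcon
  obtain ⟨x, y, z, hxy, hxz, hyz⟩ := Fintype.two_lt_card_iff.1 h3
  obtain ⟨a, rfl⟩ := QuotientGroup.mk_surjective x
  obtain ⟨b, rfl⟩ := QuotientGroup.mk_surjective y
  obtain ⟨c, rfl⟩ := QuotientGroup.mk_surjective z
  rcases h ((a⁻¹ * b : ↥K) : G) (a⁻¹ * b).2 ((a⁻¹ * c : ↥K) : G) (a⁻¹ * c).2 with h1 | h1 | h1
  · exact hxy (QuotientGroup.eq.2 (Subgroup.mem_subgroupOf.2 h1))
  · exact hxz (QuotientGroup.eq.2 (Subgroup.mem_subgroupOf.2 h1))
  · apply hyz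
    apply QuotientGroup.eq.2
    rw [Subgroup.mem_subgroupOf]
    have h2 : ((b⁻¹ * c : ↥K) : G) = ((a⁻¹ * b : ↥K) : G)⁻¹ * ((a⁻¹ * c : ↥K) : G) := by
      push_cast
      group
    rw [h2]
    exact h1

theorem le_normalizer_of_comm {A D : Subgroup G} (hDA : D ≤ A)
    (hcomm : ∀ a ∈ A, ∀ b ∈ A, a * b = b * a) : A ≤ normalizer (D : Set G) := by
  intro a ha
  apply Subgroup.centralizer_le_normalizer
  rw [Subgroup.mem_centralizer_iff]
  intro d hd
  exact hcomm d (hDA hd) a ha

/-- `E` is a subgroup of order `p` of `P` contained in another Sylow `p`-subgroup. -/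
def Good (P : Sylow p G) (E : Subgroup G) : Prop :=
  E ≤ (P : Subgroup G) ∧ Nat.card E = p ∧ ∃ R : Sylow p G, R ≠ P ∧ E ≤ (R : Subgroup G)

theorem le_ncard_of_good (hn : Nat.card (Sylow p G) = 2 * p + 1) (P : Sylow p G)
    {E : Subgroup G} (hE : Good P E) :
    p ≤ ({Q : Sylow p G | Q ≠ P ∧ E ≤ (Q : Subgroup G)}).ncard := by
  have hp := (Fact.out : p.Prime)
  have hp2 := hp.two_le
  obtain ⟨hEP, -, R, hRP, hER⟩ := hE
  have hEp : IsPGroup p E := P.2.to_le hEP
  have key := hEp.card_modEq_card_fixedPoints (Sylow p G)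
  have hfix : fixedPoints (↥E) (Sylow p G) = {Q : Sylow p G | E ≤ (Q : Subgroup G)} := by
    ext Q
    exact hEp.sylow_mem_fixedPoints_iff
  rw [hfix, hn, Nat.card_coe_set_eq] at key
  set F : Set (Sylow p G) := {Q : Sylow p G | E ≤ (Q : Subgroup G)} with hF
  have hmod : F.ncard % p = 1 := by
    have h2 : (2 * p + 1) % p = F.ncard % p := key
    rw [← h2, Nat.add_mod, Nat.mul_mod_left, zero_add, Nat.mod_mod, Nat.mod_eq_of_lt hp.one_lt]
  have h2le : 1 < F.ncard := by
    rw [Set.one_lt_ncard_iff]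
    exact ⟨P, R, hEP, hER, fun h => hRP h.symm⟩
  have hdm := Nat.div_add_mod F.ncard p
  rw [hmod] at hdm
  have hk : 1 ≤ F.ncard / p := by
    by_contra hcon
    push Not at hcon
    have h0 : F.ncard / p = 0 := Nat.lt_one_iff.1 hcon
    rw [h0] at hdm
    omega
  have hpk : p * 1 ≤ p * (F.ncard / p) := Nat.mul_le_mul_left p hk
  have hset : {Q : Sylow p G | Q ≠ P ∧ E ≤ (Q : Subgroup G)} = F \ {P} := by
    ext Q
    simp only [Set.mem_ofPred_eq, Set.mem_sdiff, Set.mem_singleton_iff, hF]
    tauto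
  have hPF : P ∈ F := hEP
  rw [hset, Set.ncard_sdiff_singleton_of_mem hPF]
  omega

theorem disjoint_of_good (P : Sylow p G) (hP : Nat.card (P : Subgroup G) = p ^ 2)
    {E₁ E₂ : Subgroup G} (h₁ : Good P E₁) (h₂ : Good P E₂) (hne : E₁ ≠ E₂) :
    Disjoint {Q : Sylow p G | Q ≠ P ∧ E₁ ≤ (Q : Subgroup G)}
      {Q : Sylow p G | Q ≠ P ∧ E₂ ≤ (Q : Subgroup G)} := by
  have hp := (Fact.out : p.Prime)
  have hp2 := hp.two_le
  rw [Set.disjoint_left]
  rintro Q ⟨hQP, hQ1⟩ ⟨-, hQ2⟩
  apply hne
  have hId : Nat.card ↥((P : Subgroup G) ⊓ Q) ∣ p ^ 2 := by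
    rw [← hP]; exact Subgroup.card_dvd_of_le inf_le_left
  obtain ⟨m, hm2, hm⟩ := (Nat.dvd_prime_pow hp).1 hId
  have hm2' : m ≠ 2 := by
    rintro rfl
    apply hQP
    have hPI : (P : Subgroup G) ⊓ Q = P :=
      Subgroup.eq_of_le_of_card_ge inf_le_left (by rw [hm, hP])
    have hPQ : (P : Subgroup G) ≤ Q := by rw [← hPI]; exact inf_le_right
    exact Sylow.ext (P.3 Q.2 hPQ)
  have hIle : Nat.card ↥((P : Subgroup G) ⊓ Q) ≤ p := by
    rw [hm]
    have : m ≤ 1 := by omega
    calc p ^ m ≤ p ^ 1 := Nat.pow_le_pow_right hp.pos this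
      _ = p := pow_one p
  have e1 : E₁ = (P : Subgroup G) ⊓ Q :=
    Subgroup.eq_of_le_of_card_ge (le_inf h₁.1 hQ1) (by rw [h₁.2.1]; exact hIle)
  have e2 : E₂ = (P : Subgroup G) ⊓ Q :=
    Subgroup.eq_of_le_of_card_ge (le_inf h₂.1 hQ2) (by rw [h₂.2.1]; exact hIle)
  rw [e1, e2]

theorem three_good_false (hn : Nat.card (Sylow p G) = 2 * p + 1) (P : Sylow p G)
    (hP : Nat.card (P : Subgroup G) = p ^ 2) {E₁ E₂ E₃ : Subgroup G}
    (h₁ : Good P E₁) (h₂ : Good P E₂) (h₃ : Good P E₃)
    (h12 : E₁ ≠ E₂) (h13 : E₁ ≠ E₃) (h23 : E₂ ≠ E₃) : False := by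
  have hp := (Fact.out : p.Prime)
  have hp2 := hp.two_le
  have c1 := le_ncard_of_good hn P h₁
  have c2 := le_ncard_of_good hn P h₂
  have c3 := le_ncard_of_good hn P h₃
  have d12 := disjoint_of_good P hP h₁ h₂ h12
  have d13 := disjoint_of_good P hP h₁ h₃ h13
  have d23 := disjoint_of_good P hP h₂ h₃ h23
  set S₁ : Set (Sylow p G) := {Q : Sylow p G | Q ≠ P ∧ E₁ ≤ (Q : Subgroup G)}
  set S₂ : Set (Sylow p G) := {Q : Sylow p G | Q ≠ P ∧ E₂ ≤ (Q : Subgroup G)}
  set S₃ : Set (Sylow p G) := {Q : Sylow p G | Q ≠ P ∧ E₃ ≤ (Q : Subgroup G)}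
  have hsub : S₁ ∪ S₂ ∪ S₃ ⊆ Set.univ \ {P} := by
    intro Q hQ
    refine ⟨trivial, ?_⟩
    rcases hQ with (hQ | hQ) | hQ <;> exact hQ.1
  have hle := Set.ncard_le_ncard hsub
  have hd : Disjoint (S₁ ∪ S₂) S₃ := Set.disjoint_union_left.2 ⟨d13, d23⟩
  rw [Set.ncard_union_eq hd, Set.ncard_union_eq d12,
    Set.ncard_sdiff_singleton_of_mem (Set.mem_univ P), Set.ncard_univ, hn] at hle
  omega

theorem good_conj (P : Sylow p G) {E : Subgroup G} (hE : Good P E) {a : G}
    (ha : a ∈ normalizer ((P : Subgroup G) : Set G)) : Good P (MulAut.conj a • E) := by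
  obtain ⟨hEP, hcard, R, hRP, hER⟩ := hE
  have haP : a • P = P := Sylow.smul_eq_iff_mem_normalizer.2 ha
  have haP' : MulAut.conj a • (P : Subgroup G) = P := by
    rw [← Sylow.coe_subgroup_smul, haP]
  refine ⟨?_, ?_, a • R, ?_, ?_⟩
  · rw [← haP']
    exact Subgroup.pointwise_smul_le_pointwise_smul_iff.2 hEP
  · rw [← hcard]
    exact (Nat.card_congr (Subgroup.equivSMul (MulAut.conj a) E).toEquiv).symm
  · intro h
    apply hRP
    rw [← haP] at h
    exact smul_left_cancel a h
  · rw [Sylow.coe_subgroup_smul]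
    exact Subgroup.pointwise_smul_le_pointwise_smul_iff.2 hER

theorem mem_normalizer_of_conj_smul_eq {E : Subgroup G} {a b : G}
    (h : MulAut.conj a • E = MulAut.conj b • E) : a⁻¹ * b ∈ normalizer (E : Set G) := by
  rw [Subgroup.mem_normalizer_iff_map_conj_eq]
  change MulAut.conj (a⁻¹ * b) • E = E
  rw [map_mul, map_inv, mul_smul, inv_smul_eq_iff]
  exact h.symm

theorem relIndex_normalizer_le_two (hn : Nat.card (Sylow p G) = 2 * p + 1) (P : Sylow p G)
    (hP : Nat.card (P : Subgroup G) = p ^ 2) {D : Subgroup G} (hD : Good P D) :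
    (normalizer (D : Set G)).relIndex (normalizer ((P : Subgroup G) : Set G)) ≤ 2 := by
  apply relIndex_le_two_of
  intro a ha b hb
  by_contra hcon
  push Not at hcon
  obtain ⟨h1, h2, h3⟩ := hcon
  have ga := good_conj P hD ha
  have gb := good_conj P hD hb
  apply three_good_false hn P hP hD ga gb
  · intro h
    apply h1
    rw [Subgroup.mem_normalizer_iff_map_conj_eq]
    exact h.symm
  · intro h
    apply h2
    rw [Subgroup.mem_normalizer_iff_map_conj_eq]
    exact h.symm
  · intro h
    exact h3 (mem_normalizer_of_conj_smul_eq h)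

theorem arith_aux {p s i j : ℕ} (hp : 2 ≤ p) (hs : s % p = 1) (hs1 : s ≠ 1) (hj : j ≤ 2)
    (h : j * (2 * p + 1) = s * i) : i ≤ 2 := by
  by_contra hcon
  push Not at hcon
  have hdm := Nat.div_add_mod s p
  rw [hs] at hdm
  have hk : 1 ≤ s / p := by
    by_contra hc
    push Not at hc
    have h0 : s / p = 0 := Nat.lt_one_iff.1 hc
    rw [h0] at hdm
    omega
  have h3 : s * 3 ≤ s * i := Nat.mul_le_mul_left s hcon
  have hj2 : j * (2 * p + 1) ≤ 2 * (2 * p + 1) := Nat.mul_le_mul_right _ hj
  have hk2 : s / p < 2 := by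
    by_contra hc
    push Not at hc
    have : p * 2 ≤ p * (s / p) := Nat.mul_le_mul_left p hc
    omega
  have hk1 : s / p = 1 := by omega
  rw [hk1] at hdm
  have hs' : s = p + 1 := by omega
  subst hs'
  have h4 : (p + 1) * 4 ≤ (p + 1) * i ∨ i = 3 := by
    rcases Nat.lt_or_ge i 4 with h5 | h5
    · right; omega
    · left; exact Nat.mul_le_mul_left _ h5
  rcases h4 with h4 | h4
  · omega
  · subst h4
    interval_cases j <;> omega

/-- In a simple group with `2p + 1` Sylow `p`-subgroups (`p` odd), these do not have order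
`p ^ 2`. -/
theorem card_sylow_ne_sq [IsSimpleGroup G] (hp2 : p ≠ 2) (hn : Nat.card (Sylow p G) = 2 * p + 1)
    (P₀ : Sylow p G) : Nat.card (P₀ : Subgroup G) ≠ p ^ 2 := by
  intro hP₀
  have hp := (Fact.out : p.Prime)
  have hp2' := hp.two_le
  have hall : ∀ Q : Sylow p G, Nat.card (Q : Subgroup G) = p ^ 2 := fun Q => by
    rw [Sylow.card_eq_multiplicity, ← P₀.card_eq_multiplicity, hP₀]
  have hmod : ¬ Nat.card (Sylow p G) ≡ 1 [MOD p ^ 2] := by
    rw [hn]
    intro h
    have h2 : p ^ 2 ∣ 2 * p + 1 - 1 := (Nat.modEq_iff_dvd' (by omega)).1 h.symm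
    have h3 : 2 * p + 1 - 1 = 2 * p := by omega
    rw [h3, pow_two] at h2
    have h4 : p ∣ 2 := Nat.dvd_of_mul_dvd_mul_right hp.pos h2
    exact hp2 ((Nat.prime_dvd_prime_iff_eq hp Nat.prime_two).1 h4)
  obtain ⟨P, R, hPR, hidx⟩ := Cfsg.Agent.S0985.result p 2 hmod
  have hP := hall P
  have hR := hall R
  have hidx' : (R : Subgroup G).relIndex P ≤ p := by
    have h1 : (R : Subgroup G).relIndex (P : Subgroup G) ≤ p ^ (2 - 1) := hidx
    simpa using h1
  have hrel : Nat.card ↥((P : Subgroup G) ⊓ R) * (R : Subgroup G).relIndex P = p ^ 2 := by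
    have h1 := Subgroup.relIndex_mul_relIndex (⊥ : Subgroup G) ((P : Subgroup G) ⊓ R) P bot_le
      inf_le_left
    rw [Subgroup.relIndex_bot_left, Subgroup.relIndex_bot_left, Subgroup.inf_relIndex_left,
      hP] at h1
    exact h1
  have hne1 : (R : Subgroup G).relIndex P ≠ 1 := by
    intro h
    rw [Subgroup.relIndex_eq_one] at h
    exact hPR (Sylow.ext (P.3 R.2 h)).symm
  have hDcard : Nat.card ↥((P : Subgroup G) ⊓ R) = p := by
    have hdvd : Nat.card ↥((P : Subgroup G) ⊓ R) ∣ p ^ 2 := Dvd.intro _ hrel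
    obtain ⟨m, hm2, hm⟩ := (Nat.dvd_prime_pow hp).1 hdvd
    interval_cases m
    · rw [hm, pow_zero, one_mul] at hrel
      rw [hrel] at hidx'
      nlinarith
    · simpa using hm
    · rw [hm] at hrel
      have h1 : (R : Subgroup G).relIndex P = 1 := by
        have hpos : 0 < p ^ 2 := pow_pos hp.pos 2
        exact Nat.eq_of_mul_eq_mul_left hpos (by rw [hrel, mul_one])
      exact absurd h1 hne1
  have hGood : Good P ((P : Subgroup G) ⊓ R) :=
    ⟨inf_le_left, hDcard, R, fun h => hPR h.symm, inf_le_right⟩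
  have hcommP : ∀ a ∈ (P : Subgroup G), ∀ b ∈ (P : Subgroup G), a * b = b * a := by
    intro a ha b hb
    have h1 := (IsPGroup.isMulCommutative_of_card_eq_prime_sq hP).is_comm.comm ⟨a, ha⟩ ⟨b, hb⟩
    exact congrArg Subtype.val h1
  have hcommR : ∀ a ∈ (R : Subgroup G), ∀ b ∈ (R : Subgroup G), a * b = b * a := by
    intro a ha b hb
    have h1 := (IsPGroup.isMulCommutative_of_card_eq_prime_sq hR).is_comm.comm ⟨a, ha⟩ ⟨b, hb⟩
    exact congrArg Subtype.val h1
  have hPM : (P : Subgroup G) ≤ normalizer ((((P : Subgroup G) ⊓ R : Subgroup G)) : Set G) :=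
    le_normalizer_of_comm inf_le_left hcommP
  have hRM : (R : Subgroup G) ≤ normalizer ((((P : Subgroup G) ⊓ R : Subgroup G)) : Set G) :=
    le_normalizer_of_comm inf_le_right hcommR
  have hPbot : (P : Subgroup G) ≠ ⊥ := by
    intro h
    rw [h, Subgroup.card_bot] at hP
    nlinarith
  have hMtop : normalizer ((((P : Subgroup G) ⊓ R : Subgroup G)) : Set G) ≠ ⊤ := by
    intro h
    have hDn : ((P : Subgroup G) ⊓ R).Normal := Subgroup.normalizer_eq_top_iff.1 h
    rcases hDn.eq_bot_or_eq_top with h1 | h1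
    · rw [h1, Subgroup.card_bot] at hDcard
      omega
    · rw [h1, Subgroup.card_top] at hDcard
      have h2 : Nat.card (P : Subgroup G) ≤ Nat.card G :=
        Nat.le_of_dvd Nat.card_pos (Subgroup.card_subgroup_dvd_card _)
      rw [hP, hDcard] at h2
      nlinarith
  have hs := Cfsg.Agent.Lib.Helper72.card_sylow_subgroup_eq_relIndex' P _ hPM
  have hsmod : (normalizer ((P : Subgroup G) : Set G)).relIndex
      (normalizer ((((P : Subgroup G) ⊓ R : Subgroup G)) : Set G)) ≡ 1 [MOD p] := by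
    rw [← hs]
    exact card_sylow_modEq_one p _
  have hs1 : (normalizer ((P : Subgroup G) : Set G)).relIndex
      (normalizer ((((P : Subgroup G) ⊓ R : Subgroup G)) : Set G)) ≠ 1 := by
    intro h
    rw [Subgroup.relIndex_eq_one] at h
    have hRN : (R : Subgroup G) ≤ normalizer ((P : Subgroup G) : Set G) := hRM.trans h
    have h1 := R.2.inf_normalizer_sylow P
    have h2 : (R : Subgroup G) ≤ (R : Subgroup G) ⊓ (P : Subgroup G) := by
      rw [← h1]
      exact le_inf le_rfl hRN
    have h3 : (R : Subgroup G) ≤ P := h2.trans inf_le_right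
    exact hPR (Sylow.ext (R.3 P.2 h3))
  have hj := relIndex_normalizer_le_two hn P hP hGood
  have e1 := Subgroup.relIndex_mul_index
    (inf_le_right : normalizer ((((P : Subgroup G) ⊓ R : Subgroup G)) : Set G) ⊓
      normalizer ((P : Subgroup G) : Set G) ≤ normalizer ((P : Subgroup G) : Set G))
  have e2 := Subgroup.relIndex_mul_index
    (inf_le_left : normalizer ((((P : Subgroup G) ⊓ R : Subgroup G)) : Set G) ⊓
      normalizer ((P : Subgroup G) : Set G) ≤
        normalizer ((((P : Subgroup G) ⊓ R : Subgroup G)) : Set G))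
  rw [Subgroup.inf_relIndex_right] at e1
  rw [Subgroup.inf_relIndex_left] at e2
  have hNidx : (normalizer ((P : Subgroup G) : Set G)).index = 2 * p + 1 := by
    rw [← hn]
    exact (P.card_eq_index_normalizer).symm
  rw [hNidx] at e1
  have hsm : (normalizer ((P : Subgroup G) : Set G)).relIndex
      (normalizer ((((P : Subgroup G) ⊓ R : Subgroup G)) : Set G)) % p = 1 := by
    have h1 : _ % p = 1 % p := hsmod
    rwa [Nat.mod_eq_of_lt hp.one_lt] at h1
  have hi := arith_aux hp2' hsm hs1 hj (e1.trans e2.symm)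
  have hi0 : (normalizer ((((P : Subgroup G) ⊓ R : Subgroup G)) : Set G)).index ≠ 0 :=
    Subgroup.index_ne_zero_of_finite
  have hi12 : (normalizer ((((P : Subgroup G) ⊓ R : Subgroup G)) : Set G)).index = 1 ∨
      (normalizer ((((P : Subgroup G) ⊓ R : Subgroup G)) : Set G)).index = 2 := by omega
  rcases hi12 with h | h
  · exact hMtop (Subgroup.index_eq_one.1 h)
  · have hMn := Subgroup.normal_of_index_eq_two h
    rcases hMn.eq_bot_or_eq_top with h1 | h1
    · rw [h1] at hPM
      exact hPbot (le_bot_iff.1 hPM)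
    · exact hMtop h1

/-- **Main structural result.** In a simple group with `2p + 1` Sylow `p`-subgroups (`p` odd,
`p ^ 3 ∤ (2p + 1)!`), the order of `G` is odd and there is a number `e ≠ 1` dividing both `p - 1` and
`|G|` (namely `|N(P) : C(P)|`). -/
theorem exists_dvd_pred_of_simple [IsSimpleGroup G] (hp2 : p ≠ 2)
    (hfact : ¬ p ^ 3 ∣ (2 * p + 1).factorial) (hn : Nat.card (Sylow p G) = 2 * p + 1) :
    ∃ e : ℕ, e ≠ 1 ∧ e ∣ p - 1 ∧ e ∣ Nat.card G ∧ Odd (Nat.card G) := by
  have hp := (Fact.out : p.Prime)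
  have hp2' := hp.two_le
  have hcard : ∀ P : Sylow p G, Nat.card (P : Subgroup G) = p := fun P =>
    (card_sylow_eq_or hn hfact P).resolve_right (card_sylow_ne_sq hp2 hn P)
  obtain ⟨P⟩ : Nonempty (Sylow p G) := Sylow.nonempty
  have hP := hcard P
  refine ⟨(centralizer ((P : Subgroup G) : Set G)).relIndex
    (normalizer ((P : Subgroup G) : Set G)), ?_, relIndex_centralizer_dvd P hP, ?_,
    odd_card hp2 hn hcard⟩
  · intro h
    rw [Subgroup.relIndex_eq_one] at h
    refine not_normalizer_le_centralizer P ?_ ?_ h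
    · intro hb
      rw [hb, Subgroup.card_bot] at hP
      omega
    · intro ht
      have h1 : Nat.card (Sylow p G) = (normalizer ((P : Subgroup G) : Set G)).index :=
        P.card_eq_index_normalizer
      have h2 : normalizer ((P : Subgroup G) : Set G) = ⊤ := by
        rw [eq_top_iff, ← ht]
        exact Subgroup.le_normalizer
      rw [hn] at h1
      have h3 : (normalizer ((P : Subgroup G) : Set G)).index = 1 := by
        rw [h2]; exact Subgroup.index_top
      omega
  · exact (Subgroup.relIndex_dvd_card _ _).trans (Subgroup.card_subgroup_dvd_card _)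

end Cfsg.Agent.Lib.Helper96.SylowTwoPPlusOne
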